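import Groth.Agent.L04.Koszul.Punctured
import Groth.Agent.L17.SerreCriterion
import Groth.Agent.L16.QcqsPush
import Groth.Agent.L00.LocalData
import Groth.Agent.L04.LC.Vanish

/-!
# `cd(A, I) ≤ 1` makes the punctured open affine
-/

set_option autoImplicit false
universe u

open CategoryTheory AlgebraicGeometry

noncomputable section

namespace Groth.L04.Canon

theorem isAffine_puncturedOpen (A : Type u) [CommRing A] [IsNoetherianRing A] (I : Ideal A)
    (h : LocCoh.CdLE A I 1) : IsAffine (↑(LocCoh.puncturedOpen A I) : Scheme.{u}) := by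
  haveI : IsNoetherianRing (CommRingCat.of A) := inferInstanceAs (IsNoetherianRing A)
  set X : Scheme.{u} := Spec (CommRingCat.of A) with hX
  let U : X.Opens := LocCoh.puncturedOpen A I
  haveI : IsLocallyNoetherian X := inferInstance
  haveI : IsNoetherian X := inferInstance
  haveI : TopologicalSpace.NoetherianSpace X := inferInstance
  haveI : CompactSpace (U : Scheme.{u}) :=
    isCompact_iff_compactSpace.mp (TopologicalSpace.NoetherianSpace.isCompact _)
  refine Groth.L17.Serre.isAffine_of_H1 fun M _ _ hM => ?_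
  haveI := hM
  let P : X.Modules := (Scheme.Modules.pushforward U.ι).obj M
  haveI hP : Coh.IsQCoh P := Groth.L16.QcqsPush.isQCoh_push M U.ι
  obtain ⟨N, ⟨e⟩⟩ := Groth.L00.Local.exists_tilde_iso_restrict (𝟙 X) P
  let e1 : M ≅ P.restrict U.ι := ((asIso (Scheme.Modules.restrictAdjunction U.ι).counit).app M).symm
  let e2 : P ≅ tilde N := (Scheme.Modules.restrictFunctorId.app P).symm ≪≫ e
  let e3 : M ≅ (tilde N).restrict U.ι := e1 ≪≫ (Scheme.Modules.restrictFunctor U.ι).mapIso e2
  obtain ⟨b⟩ := Groth.L04.Koszul.Cech.nonempty_hhon_punctured_localCohomology I N 1 le_rfl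
  haveI : Subsingleton (LocCoh.H I 2 N) := h N 2 one_lt_two
  have hs : Subsingleton (Coh.HH (U : Scheme.{u}) ((tilde N).restrict U.ι) 1) := b.toEquiv.subsingleton
  exact @Equiv.subsingleton _ _ ((Sheaf.functorH (Opens.grothendieckTopology (U : Scheme.{u})) 1).mapIso
    ((SheafOfModules.toSheaf (U : Scheme.{u}).ringCatSheaf).mapIso e3)).addCommGroupIsoToAddEquiv.toEquiv hs

theorem nonempty_puncturedOpen (A : Type u) [CommRing A] [IsNoetherianRing A] (I : Ideal A)
    (h0 : ¬ LocCoh.CdLE A I 0) : Nonempty (↑(LocCoh.puncturedOpen A I) : Scheme.{u}) := by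
  by_contra hne
  refine h0 fun M _ _ i hi => ?_
  have hrad : (⊥ : Ideal A).radical = I.radical := by
    refine le_antisymm (Ideal.radical_mono bot_le) ?_
    rw [Ideal.radical_eq_sInf ⊥]
    refine le_sInf fun q ⟨_, hq⟩ => hq.radical_le_iff.2 ?_
    by_contra hIq
    exact hne ⟨⟨(⟨q, hq⟩ : PrimeSpectrum A), hIq⟩⟩
  exact @Equiv.subsingleton _ _
    ((localCohomology.isoOfSameRadical hrad.symm i).app (ModuleCat.of A M)).toLinearEquiv.toEquiv
    (Groth.L04.LC.cdLE_bot M i hi)

end Groth.L04.Canon
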