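import Groth.Agent.L04.MatlisEnd
import Mathlib.RingTheory.AdicCompletion.AsTensorProduct
import Mathlib.RingTheory.AdicCompletion.LocalRing
import Mathlib.RingTheory.Flat.FaithfullyFlat.Algebra
import Mathlib.RingTheory.TensorProduct.Quotient

/-!
# The double Matlis dual of a finite module is its completion; detecting isomorphisms on completions
-/

set_option autoImplicit false
universe u

open TensorProduct IsLocalRing

noncomputable section

namespace Groth.L04.Canon

variable {R : Type u} [CommRing R]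

/-- Duals into an injective module are exact. -/
theorem dual_exact {E : Type u} [AddCommGroup E] [Module R E] (hE : Module.Injective R E)
    {A B C : Type u} [AddCommGroup A] [Module R A] [AddCommGroup B] [Module R B] [AddCommGroup C]
    [Module R C] {f : A →ₗ[R] B} {g : B →ₗ[R] C} (h : Function.Exact f g) :
    Function.Exact (LinearMap.lcomp R E g) (LinearMap.lcomp R E f) := by
  intro φ
  constructor
  · intro hφ
    have hle : LinearMap.ker g ≤ LinearMap.ker φ := fun b hb => by
      obtain ⟨a, rfl⟩ := (h b).1 hb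
      exact LinearMap.congr_fun hφ a
    obtain ⟨ψ, hψ⟩ := hE.out ((LinearMap.ker g).liftQ g le_rfl)
      (LinearMap.ker_eq_bot.1 (Submodule.ker_liftQ_eq_bot _ _ _ le_rfl)) ((LinearMap.ker g).liftQ φ hle)
    exact ⟨ψ, LinearMap.ext fun b => (hψ (Submodule.Quotient.mk b))⟩
  · rintro ⟨ψ, rfl⟩
    refine LinearMap.ext fun a => ?_
    show ψ (g (f a)) = 0
    rw [h.apply_apply_eq_zero, map_zero]

theorem dual_surjective {E : Type u} [AddCommGroup E] [Module R E] (hE : Module.Injective R E)
    {A B : Type u} [AddCommGroup A] [Module R A] [AddCommGroup B] [Module R B] {f : A →ₗ[R] B}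
    (h : Function.Injective f) : Function.Surjective (LinearMap.lcomp R E f) := fun φ => by
  obtain ⟨ψ, hψ⟩ := hE.out f h φ
  exact ⟨ψ, LinearMap.ext hψ⟩

variable [IsLocalRing R] [IsNoetherianRing R]

local notation "Rh" => AdicCompletion (maximalIdeal R) R

theorem exists_mem_completion_sub (a : Rh) :
    ∃ r : R, a - algebraMap R Rh r ∈ (maximalIdeal R).map (algebraMap R Rh) := by
  obtain ⟨r, hr⟩ := Ideal.Quotient.mk_surjective (AdicCompletion.evalOneₐ (maximalIdeal R) a)
  refine ⟨r, ?_⟩
  rw [← AdicCompletion.ker_evalOneₐ_eq_map _ (maximalIdeal R).fg_of_isNoetherianRing, RingHom.mem_ker]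
  show AdicCompletion.evalOneₐ (maximalIdeal R) (a - algebraMap R Rh r) = 0
  rw [map_sub, AlgHom.commutes, ← hr, Ideal.Quotient.algebraMap_eq, sub_self]

variable {E : Type u} [AddCommGroup E] [Module R E] {f : ResidueField R →ₗ[R] E}
  (hf : InjHull.IsInjectiveHull f)

/-- `a ⊗ m ↦ (φ ↦ a (φ m))`. -/
def bidualMap (M : Type u) [AddCommGroup M] [Module R M] : Rh ⊗[R] M →ₗ[R] ((M →ₗ[R] E) →ₗ[R] E) :=
  TensorProduct.lift (LinearMap.mk₂ R
    (fun a m => (completionToEnd hf a).comp (LinearMap.applyₗ m))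
    (fun a b m => by rw [map_add, LinearMap.add_comp])
    (fun c a m => by rw [map_smul, LinearMap.smul_comp])
    (fun a m m' => by rw [map_add, LinearMap.comp_add])
    (fun c a m => by rw [map_smul, LinearMap.comp_smul]))

theorem bidualMap_tmul (M : Type u) [AddCommGroup M] [Module R M] (a : Rh) (m : M) (φ : M →ₗ[R] E) :
    bidualMap hf M (a ⊗ₜ m) φ = completionToEnd hf a (φ m) := rfl

theorem bidualMap_natural {M N : Type u} [AddCommGroup M] [Module R M] [AddCommGroup N] [Module R N]
    (g : M →ₗ[R] N) (t : Rh ⊗[R] M) :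
    bidualMap hf N (g.lTensor Rh t) = (bidualMap hf M t).comp (LinearMap.lcomp R E g) := by
  induction t using TensorProduct.induction_on with
  | zero => simp
  | tmul a m => exact LinearMap.ext fun φ => rfl
  | add a b ha hb => rw [map_add, map_add, map_add, ha, hb, LinearMap.add_comp]

theorem bidualMap_pi_bijective (n : ℕ) : Function.Bijective (bidualMap hf (Fin n → R)) := by
  classical
  let e : Rh ⊗[R] (Fin n → R) ≃ₗ[R] (Fin n → Rh) := TensorProduct.piScalarRight R R Rh (Fin n)
  have he : ∀ t, t = ∑ i, e t i ⊗ₜ[R] (Pi.single i (1 : R) : Fin n → R) := fun t => e.injective (by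
    rw [map_sum]
    funext j
    rw [Finset.sum_apply, Finset.sum_eq_single j]
    · simp [e]
    · intro i _ hi
      simp [e, Pi.single_eq_of_ne (Ne.symm hi)]
    · exact fun h => absurd (Finset.mem_univ j) h)
  have heval : ∀ t (i : Fin n) (x : E),
      bidualMap hf _ t ((LinearMap.toSpanSingleton R E x).comp (LinearMap.proj i)) = completionToEnd hf (e t i) x := by
    intro t i x
    conv_lhs => rw [he t]
    rw [map_sum, LinearMap.coe_sum, Finset.sum_apply, Finset.sum_eq_single i]
    · rw [bidualMap_tmul]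
      simp
    · intro j _ hj
      rw [bidualMap_tmul]
      simp [Pi.single_eq_of_ne (Ne.symm hj)]
    · exact fun h => absurd (Finset.mem_univ i) h
  refine ⟨fun s t hst => e.injective (funext fun i => (completionToEnd_bijective hf).1
    (LinearMap.ext fun x => by rw [← heval s i x, ← heval t i x, hst])), fun η => ?_⟩
  choose a ha using fun i => (completionToEnd_bijective hf).2
    (η.comp ((LinearMap.lcomp R E (LinearMap.proj (φ := fun _ : Fin n => R) i)).comp
      (LinearMap.ringLmapEquivSelf R R E).symm.toLinearMap))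
  refine ⟨e.symm a, LinearMap.ext fun φ => ?_⟩
  have hφ : φ = ∑ i, (LinearMap.toSpanSingleton R E (φ (Pi.single i 1))).comp (LinearMap.proj i) :=
    LinearMap.ext fun v => by
      rw [LinearMap.coe_sum, Finset.sum_apply]
      conv_lhs => rw [pi_eq_sum_univ' v, map_sum]
      exact Finset.sum_congr rfl fun i _ => map_smul φ (v i) _
  rw [hφ, map_sum, map_sum]
  refine Finset.sum_congr rfl fun i _ => ?_
  rw [heval, LinearEquiv.apply_symm_apply, ha]
  exact congrArg η (LinearMap.ext fun v => rfl)

theorem bidualMap_bijective (M : Type u) [AddCommGroup M] [Module R M] [Module.Finite R M] :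
    Function.Bijective (bidualMap hf M) := by
  obtain ⟨a, q, hq⟩ := Module.Finite.exists_fin' R M
  obtain ⟨b, p, hp⟩ := Module.Finite.exists_fin' R (LinearMap.ker q)
  let ψ := (LinearMap.ker q).subtype.comp p
  have hex : Function.Exact ψ q := fun v => ⟨fun hv => by
    obtain ⟨w, hw⟩ := hp ⟨v, hv⟩
    exact ⟨w, congrArg Subtype.val hw⟩, by rintro ⟨w, rfl⟩; exact (p w).2⟩
  have hsurj : ∀ η : (M →ₗ[R] E) →ₗ[R] E,
      ∃ ξ : ((Fin a → R) →ₗ[R] E) →ₗ[R] E, ξ.comp (LinearMap.lcomp R E q) = η :=
    dual_surjective hf.isInjective (fun x y h => LinearMap.ext fun m => by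
      obtain ⟨v, rfl⟩ := hq m
      exact LinearMap.congr_fun h v)
  refine ⟨(injective_iff_map_eq_zero _).2 fun t ht => ?_, fun η => ?_⟩
  · obtain ⟨t', rfl⟩ := LinearMap.lTensor_surjective Rh hq t
    rw [bidualMap_natural] at ht
    obtain ⟨ξ, hξ⟩ := (dual_exact hf.isInjective (dual_exact hf.isInjective hex) (bidualMap hf _ t')).1 ht
    obtain ⟨s, rfl⟩ := (bidualMap_pi_bijective hf b).2 ξ
    have : ψ.lTensor Rh s = t' := (bidualMap_pi_bijective hf a).1 ((bidualMap_natural hf ψ s).trans hξ)
    rw [← this, ← LinearMap.comp_apply, ← LinearMap.lTensor_comp, hex.linearMap_comp_eq_zero,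
      LinearMap.lTensor_zero, LinearMap.zero_apply]
  · obtain ⟨ξ, rfl⟩ := hsurj η
    obtain ⟨s, rfl⟩ := (bidualMap_pi_bijective hf a).2 ξ
    exact ⟨q.lTensor Rh s, bidualMap_natural hf q s⟩

include hf in
/-- `Hom(Hom(M,E),E) = R^ ⊗ M`. -/
theorem nonempty_bidual_equiv (M : Type u) [AddCommGroup M] [Module R M] [Module.Finite R M] :
    Nonempty (Rh ⊗[R] M ≃ₗ[R] ((M →ₗ[R] E) →ₗ[R] E)) :=
  ⟨LinearEquiv.ofBijective _ (bidualMap_bijective hf M)⟩

/-- Finite modules with isomorphic completions surject onto each other. -/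
theorem exists_surjective_of_tensor {K K' : Type u} [AddCommGroup K] [Module R K] [Module.Finite R K]
    [AddCommGroup K'] [Module R K'] [Module.Finite R K']
    (θ : Rh ⊗[R] K →ₗ[R] Rh ⊗[R] K') (hθ : Function.Surjective θ) :
    ∃ φ : K →ₗ[R] K', Function.Surjective φ := by
  classical
  haveI : Module.FaithfullyFlat R Rh := Module.FaithfullyFlat.of_flat_of_isLocalHom
  obtain ⟨a, q, hq⟩ := Module.Finite.exists_fin' R K
  obtain ⟨b, p, hp⟩ := Module.Finite.exists_fin' R (LinearMap.ker q)
  let ψ := (LinearMap.ker q).subtype.comp p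
  let g : K →ₗ[R] Rh ⊗[R] K' := θ.comp (TensorProduct.mk R Rh K 1)
  let L : (Fin a → K') →ₗ[R] (Fin b → K') :=
    LinearMap.pi fun j => ∑ i, ψ (Pi.single j 1) i • LinearMap.proj i
  let e₁ := TensorProduct.piRight R R Rh (fun _ : Fin a => K')
  let z : Fin a → Rh ⊗[R] K' := fun i => g (q (Pi.single i 1))
  have hz : L.lTensor Rh (e₁.symm z) = 0 := by
    refine (TensorProduct.piRight R R Rh (fun _ : Fin b => K')).injective ?_
    rw [map_zero]
    funext j
    have hcomm : ∀ t, TensorProduct.piRight R R Rh (fun _ : Fin b => K') (L.lTensor Rh t) j =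
        ∑ i, ψ (Pi.single j 1) i • e₁ t i := fun t => by
      induction t using TensorProduct.induction_on with
      | zero => simp
      | tmul x v => simp [L, e₁, TensorProduct.tmul_sum, TensorProduct.tmul_smul, LinearMap.coe_sum]
      | add x y hx hy =>
        rw [map_add, map_add, Pi.add_apply, hx, hy, ← Finset.sum_add_distrib]
        exact Finset.sum_congr rfl fun i _ => by rw [map_add, Pi.add_apply, smul_add]
    rw [hcomm, LinearEquiv.apply_symm_apply]
    simp only [z, ← map_smul, ← map_sum]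
    rw [← pi_eq_sum_univ' (ψ (Pi.single j 1)), show q (ψ (Pi.single j 1)) = 0 from (p (Pi.single j 1)).2]
    simp
  obtain ⟨w, hw⟩ := (Module.Flat.lTensor_exact Rh (LinearMap.exact_subtype_ker_map L) _).1 hz
  -- read a homomorphism off the kernel
  have hker : ∀ v : LinearMap.ker L, ∃ χ : K →ₗ[R] K', ∀ i, χ (q (Pi.single i 1)) = v.1 i := fun v => by
    let χ₀ : (Fin a → R) →ₗ[R] K' := ∑ i, (LinearMap.proj (φ := fun _ : Fin a => R) i).smulRight (v.1 i)
    have h0 : LinearMap.ker q ≤ LinearMap.ker χ₀ := fun x hx => by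
      obtain ⟨y, hy⟩ := hp ⟨x, hx⟩
      have hyv : ψ y = x := congrArg Subtype.val hy
      rw [← hyv, pi_eq_sum_univ' y, map_sum, LinearMap.mem_ker, map_sum]
      refine Finset.sum_eq_zero fun j _ => ?_
      rw [map_smul, map_smul]
      have hj := congrFun (LinearMap.mem_ker.1 v.2) j
      simp only [L, LinearMap.pi_apply, LinearMap.coe_sum, Finset.sum_apply, LinearMap.smul_apply,
        LinearMap.proj_apply, Pi.zero_apply] at hj
      simp [χ₀, LinearMap.coe_sum, hj]
    refine ⟨((LinearMap.ker q).liftQ χ₀ h0).comp (q.quotKerEquivOfSurjective hq).symm.toLinearMap, fun i => ?_⟩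
    simp only [LinearMap.comp_apply, LinearEquiv.coe_coe, LinearMap.quotKerEquivOfSurjective_symm_apply,
      Submodule.liftQ_apply, χ₀, LinearMap.coe_sum, Finset.sum_apply, LinearMap.smulRight_apply,
      LinearMap.proj_apply]
    rw [Finset.sum_eq_single i]
    · simp
    · intro j _ hj
      simp [Pi.single_eq_of_ne hj]
    · exact fun h => absurd (Finset.mem_univ i) h
  let m := maximalIdeal R
  let N : Submodule R (Rh ⊗[R] K') := m • ⊤
  have hN : ∀ (c : Rh) (k' : K'), c ∈ m.map (algebraMap R Rh) → c ⊗ₜ[R] k' ∈ N := fun c k' hc => by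
    refine Submodule.span_induction (p := fun c _ => ∀ k', c ⊗ₜ[R] k' ∈ N) ?_ ?_ ?_ ?_ hc k'
    · rintro _ ⟨r, hr, rfl⟩ k'
      rw [Algebra.algebraMap_eq_smul_one, ← TensorProduct.smul_tmul']
      exact Submodule.smul_mem_smul hr Submodule.mem_top
    · intro k'; rw [TensorProduct.zero_tmul]; exact zero_mem _
    · intro x y _ _ hx hy k'; rw [TensorProduct.add_tmul]; exact add_mem (hx k') (hy k')
    · intro x y _ hy k'
      have hle : N ≤ N.comap ((LinearMap.mulLeft R x).rTensor K') :=
        Submodule.map_le_iff_le_comap.1 (by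
          rw [Submodule.map_smul'']
          exact smul_mono_right _ le_top)
      exact hle (hy k')
  -- the induced homomorphism
  have hw' : ∀ t : Rh ⊗[R] LinearMap.ker L, ∃ φ : K →ₗ[R] K', ∀ i,
      e₁ ((LinearMap.ker L).subtype.lTensor Rh t) i - (1 : Rh) ⊗ₜ[R] φ (q (Pi.single i 1)) ∈ N := fun t => by
    induction t using TensorProduct.induction_on with
    | zero => exact ⟨0, fun i => by simp⟩
    | tmul c v =>
      obtain ⟨χ, hχ⟩ := hker v
      obtain ⟨r, hr⟩ := exists_mem_completion_sub c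
      refine ⟨r • χ, fun i => ?_⟩
      have : (1 : Rh) ⊗ₜ[R] (r • χ) (q (Pi.single i 1)) = algebraMap R Rh r ⊗ₜ[R] v.1 i := by
        rw [LinearMap.smul_apply, hχ, ← TensorProduct.smul_tmul, Algebra.algebraMap_eq_smul_one]
      rw [this]
      simp only [e₁, LinearMap.lTensor_tmul, TensorProduct.piRight_apply, TensorProduct.piRightHom_tmul, Submodule.subtype_apply]
      rw [← TensorProduct.sub_tmul]
      exact hN _ _ hr
    | add s t hs ht =>
      obtain ⟨φ, hφ⟩ := hs
      obtain ⟨φ', hφ'⟩ := ht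
      refine ⟨φ + φ', fun i => ?_⟩
      rw [map_add, map_add, Pi.add_apply, LinearMap.add_apply, TensorProduct.tmul_add, add_sub_add_comm]
      exact add_mem (hφ i) (hφ' i)
  obtain ⟨φ, hφ⟩ := hw' w
  rw [hw, LinearEquiv.apply_symm_apply] at hφ
  have hg : ∀ k, g k - (1 : Rh) ⊗ₜ[R] φ k ∈ N := fun k => by
    obtain ⟨v, rfl⟩ := hq k
    rw [pi_eq_sum_univ' v, map_sum, map_sum, map_sum, TensorProduct.tmul_sum, ← Finset.sum_sub_distrib]
    refine Submodule.sum_mem _ fun i _ => ?_
    rw [map_smul, map_smul, map_smul, TensorProduct.tmul_smul, ← smul_sub]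
    exact N.smul_mem _ (hφ i)
  refine ⟨φ, LinearMap.range_eq_top.1 ?_⟩
  let Q := K' ⧸ (LinearMap.range φ ⊔ m • ⊤)
  let π : K' →ₗ[R] Q := Submodule.mkQ _
  have hπN : ∀ x ∈ N, π.lTensor Rh x = 0 := fun x hx => by
    have hle : N ≤ LinearMap.ker (π.lTensor Rh) := Submodule.smul_le.2 fun r hr t _ => by
      rw [LinearMap.mem_ker, map_smul]
      induction t using TensorProduct.induction_on with
      | zero => simp
      | tmul c k' =>
        rw [LinearMap.lTensor_tmul, ← TensorProduct.tmul_smul, ← map_smul,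
          show π (r • k') = 0 from (Submodule.Quotient.mk_eq_zero _).2
            (Submodule.mem_sup_right (Submodule.smul_mem_smul hr Submodule.mem_top)), TensorProduct.tmul_zero]
      | add s t hs ht => rw [map_add, smul_add, hs Submodule.mem_top, ht Submodule.mem_top, add_zero]
    exact hle hx
  have hzero : ∀ t : Rh ⊗[R] K, π.lTensor Rh (θ t) = 0 := fun t => by
    induction t using TensorProduct.induction_on with
    | zero => simp
    | add s t hs ht => rw [map_add, map_add, hs, ht, add_zero]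
    | tmul c k =>
      obtain ⟨r, hr⟩ := exists_mem_completion_sub c
      have h1 : c ⊗ₜ[R] k = r • ((1 : Rh) ⊗ₜ[R] k) + (c - algebraMap R Rh r) ⊗ₜ[R] k := by
        rw [TensorProduct.smul_tmul', ← Algebra.algebraMap_eq_smul_one, ← TensorProduct.add_tmul, add_sub_cancel]
      have h2 : ∀ x ∈ (m • ⊤ : Submodule R (Rh ⊗[R] K)), π.lTensor Rh (θ x) = 0 := fun x hx =>
        hπN _ ((Submodule.map_le_iff_le_comap.1 (show (m • ⊤ : Submodule R (Rh ⊗[R] K)).map θ ≤ N by
          rw [Submodule.map_smul'']; exact smul_mono_right _ le_top)) hx)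
      have h3 : (c - algebraMap R Rh r) ⊗ₜ[R] k ∈ (m • ⊤ : Submodule R (Rh ⊗[R] K)) := by
        rw [← Submodule.restrictScalars_mem R, ← Ideal.smul_top_eq_map] at hr
        refine Submodule.smul_induction_on hr (fun s hs x _ => ?_) fun x y hx hy => ?_
        · rw [← TensorProduct.smul_tmul']
          exact Submodule.smul_mem_smul hs Submodule.mem_top
        · rw [TensorProduct.add_tmul]; exact add_mem hx hy
      rw [h1, map_add, map_add, h2 _ h3, add_zero, map_smul, map_smul]
      have h4 := hπN _ (hg k)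
      rw [map_sub, LinearMap.lTensor_tmul, show π (φ k) = 0 from
        (Submodule.Quotient.mk_eq_zero _).2 (Submodule.mem_sup_left ⟨k, rfl⟩), TensorProduct.tmul_zero, sub_zero] at h4
      rw [show θ ((1 : Rh) ⊗ₜ[R] k) = g k from rfl, h4, smul_zero]
  haveI : Subsingleton (Rh ⊗[R] Q) := subsingleton_of_forall_eq 0 fun y => by
    obtain ⟨x, rfl⟩ := LinearMap.lTensor_surjective Rh (Submodule.mkQ_surjective _) y
    obtain ⟨t, rfl⟩ := hθ x
    exact hzero t
  have hQ : Subsingleton Q := Module.FaithfullyFlat.lTensor_reflects_triviality R Rh Q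
  have htop : LinearMap.range φ ⊔ m • ⊤ = ⊤ := Submodule.Quotient.subsingleton_iff.1 hQ
  refine top_le_iff.1 ?_
  exact Submodule.le_of_le_smul_of_le_jacobson_bot (Module.Finite.fg_top)
    (IsLocalRing.maximalIdeal_le_jacobson _) htop.ge

theorem nonempty_equiv_of_tensor {K K' : Type u} [AddCommGroup K] [Module R K] [Module.Finite R K]
    [AddCommGroup K'] [Module R K'] [Module.Finite R K'] (θ : Rh ⊗[R] K ≃ₗ[R] Rh ⊗[R] K') :
    Nonempty (K ≃ₗ[R] K') := by
  obtain ⟨φ, hφ⟩ := exists_surjective_of_tensor θ.toLinearMap θ.surjective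
  obtain ⟨ψ, hψ⟩ := exists_surjective_of_tensor θ.symm.toLinearMap θ.symm.surjective
  have h : Function.Bijective (ψ.comp φ) :=
    OrzechProperty.bijective_of_surjective_endomorphism _ (hψ.comp hφ)
  exact ⟨LinearEquiv.ofBijective φ ⟨Function.Injective.of_comp h.1, hφ⟩⟩

end Groth.L04.Canon
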