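import Groth.Agent.L04.Canon.Transfer
import Groth.Agent.L06.ExtDim
import Groth.Agent.L04.LC.Depth
import Mathlib.Algebra.Homology.DerivedCategory.Ext.EnoughProjectives
import Mathlib.Algebra.Category.ModuleCat.Projective

/-!
# Local duality for a canonical module of a Cohen–Macaulay local ring
-/

set_option autoImplicit false
universe u

open CategoryTheory CategoryTheory.Abelian IsLocalRing InjHull

noncomputable section

namespace Groth.L04.Canon

open Groth.L04.LC

variable {R : Type u} [CommRing R] [IsLocalRing R] [IsNoetherianRing R]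
variable {n : ℕ} {E : Type u} [AddCommGroup E] [Module R E] {K : Type u} [AddCommGroup K] [Module R K]
  [Module.Finite R K]


variable (eK : (K →ₗ[R] E) ≃ₗ[R] LocCoh.H (maximalIdeal R) n R)

include eK in
/-- A natural form of `H^n_m(M) ≅ Hom(Hom(M,K),E)`, obtained from an evaluation `H^n_m(K) → E`. -/
theorem exists_natural_top (hE : Module.Injective R E) (hcd : LocCoh.CdLE R (maximalIdeal R) n) :
    ∃ ev : LocCoh.H (maximalIdeal R) n K →ₗ[R] E, ∀ (M : Type u) [AddCommGroup M] [Module R M] [Module.Finite R M],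
      ∃ σ : LocCoh.H (maximalIdeal R) n M ≃ₗ[R] ((M →ₗ[R] K) →ₗ[R] E), ∀ x χ, σ x χ = ev (hmap (maximalIdeal R) n χ x) := by
  obtain ⟨c, qK, hqK⟩ := Module.Finite.exists_fin' R K
  obtain ⟨eT, heT⟩ := exists_top_equiv eK hE hcd K qK hqK
  let ev : LocCoh.H (maximalIdeal R) n K →ₗ[R] E :=
    (LinearMap.applyₗ (LinearMap.id : K →ₗ[R] K)).comp eT.toLinearMap
  have hev : ∀ (k : K) (y : K →ₗ[R] E), ev (hmap (maximalIdeal R) n (LinearMap.toSpanSingleton R K k) (eK y)) = y k := by
    intro k y
    obtain ⟨v, rfl⟩ := hqK k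
    let Φ : ((Fin c → R) →ₗ[R] K) →ₗ[R] E := y.comp (LinearMap.applyₗ v)
    have hΦ : theta eK c Φ = hmap (maximalIdeal R) n (LinearMap.toSpanSingleton R (Fin c → R) v) (eK y) := by
      have hsum : LinearMap.toSpanSingleton R (Fin c → R) v =
          ∑ i, v i • LinearMap.single R (fun _ : Fin c => R) i := by
        classical
        refine LinearMap.ext_ring ?_
        rw [LinearMap.toSpanSingleton_apply, one_smul, LinearMap.coe_sum, Finset.sum_apply]
        funext j
        rw [Finset.sum_apply, Finset.sum_eq_single j]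
        · simp
        · intro b _ hb
          simp [Ne.symm hb]
        · exact fun h => absurd (Finset.mem_univ j) h
      rw [hsum, theta_apply]
      refine Eq.trans ?_ (H_map_sum (maximalIdeal R) n _ _ _).symm
      refine Finset.sum_congr rfl fun i _ => ?_
      have hc : Φ.comp (cEl c i) = v i • y := LinearMap.ext fun k => by
        simp [Φ, cEl_apply]
      rw [hc, map_smul, map_smul]
      exact (hmap_smul _ _ _).symm
    have h := congrArg (LinearMap.applyₗ (LinearMap.id : K →ₗ[R] K)) (heT Φ)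
    rw [hΦ, hmap_comp] at h
    rw [show LinearMap.toSpanSingleton R K (qK v) = qK.comp (LinearMap.toSpanSingleton R (Fin c → R) v) from
      LinearMap.ext_ring (by simp)]
    exact h.trans (by simp [Φ])
  refine ⟨ev, fun M _ _ _ => ?_⟩
  obtain ⟨a, q, hq⟩ := Module.Finite.exists_fin' R M
  obtain ⟨e, he⟩ := exists_top_equiv eK hE hcd M q hq
  refine ⟨e, fun x χ => ?_⟩
  obtain ⟨x', rfl⟩ : ∃ x', hmap (maximalIdeal R) n q x' = x :=
    (H_exact₃ (maximalIdeal R) (ses_shortExact (LinearMap.ker q).subtype q Subtype.val_injective hq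
      (LinearMap.exact_subtype_ker_map q)) n x).1
        (@Subsingleton.elim _ (hcd _ (n + 1) (Nat.lt_succ_self n)) _ _)
  obtain ⟨Φ, rfl⟩ := (theta_bijective eK a).2 x'
  rw [he, hmap_comp, theta_apply, map_sum, map_sum]
  have hχ : χ.comp q = ∑ i, cEl a i (χ (q (Pi.single i 1))) := LinearMap.ext fun v => by
    classical
    rw [LinearMap.coe_sum, Finset.sum_apply]
    conv_lhs => rw [pi_eq_sum_univ' v, map_sum]
    exact Finset.sum_congr rfl fun i _ => map_smul (χ.comp q) (v i) _
  rw [LinearMap.comp_apply, LinearMap.lcomp_apply', hχ, map_sum]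
  refine Finset.sum_congr rfl fun i _ => ?_
  rw [← LinearMap.comp_apply Φ, ← hev _ (Φ.comp (cEl a i)), hmap_comp]
  congr 3
  refine LinearMap.ext_ring ?_
  simp [LinearMap.coe_sum, Finset.sum_apply, cEl_apply, Pi.single_apply]

theorem subsingleton_of_subsingleton_dual {f : ResidueField R →ₗ[R] E} (hf : IsInjectiveHull f)
    {X : Type u} [AddCommGroup X] [Module R X] [Subsingleton (X →ₗ[R] E)] : Subsingleton X := by
  haveI : Subsingleton ((X →ₗ[R] E) →ₗ[R] E) :=
    ⟨fun a b => LinearMap.ext fun φ => by rw [Subsingleton.elim φ 0, map_zero, map_zero]⟩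
  exact (Groth.L04.applyₗ_injective hf X).subsingleton

omit [IsLocalRing R] [IsNoetherianRing R] in
/-- The connecting homomorphism in `Ext(-, Y)` as a linear map. -/
def extδ {S : ShortComplex (ModuleCat.{u} R)} (hS : S.ShortExact) (Y : ModuleCat.{u} R) (a b : ℕ)
    (h : 1 + a = b) : Ext S.X₁ Y a →ₗ[R] Ext S.X₃ Y b :=
  Ext.bilinearCompOfLinear R S.X₃ S.X₁ Y 1 a b h hS.extClass

omit [IsLocalRing R] [IsNoetherianRing R] in
theorem extδ_surjective {S : ShortComplex (ModuleCat.{u} R)} (hS : S.ShortExact) (Y : ModuleCat.{u} R)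
    (a b : ℕ) (h : 1 + a = b) [Projective S.X₂] : Function.Surjective (extδ hS Y a b h) := by
  obtain rfl : b = a + 1 := by omega
  exact fun x => Ext.contravariant_sequence_exact₃ hS Y x (Ext.eq_zero_of_projective _) h

omit [IsLocalRing R] [IsNoetherianRing R] in
theorem extδ_bijective {S : ShortComplex (ModuleCat.{u} R)} (hS : S.ShortExact) (Y : ModuleCat.{u} R)
    (a b : ℕ) (h : 1 + (a + 1) = b) [Projective S.X₂] : Function.Bijective (extδ hS Y (a + 1) b h) := by
  refine ⟨(injective_iff_map_eq_zero _).2 fun x hx => ?_, extδ_surjective hS Y (a + 1) b h⟩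
  obtain ⟨y, rfl⟩ := Ext.contravariant_sequence_exact₁ hS Y x h hx
  rw [Ext.eq_zero_of_projective y, Ext.comp_zero]

omit [IsLocalRing R] [IsNoetherianRing R] in
theorem extδ_zero_eq_zero_iff {S : ShortComplex (ModuleCat.{u} R)} (hS : S.ShortExact) (Y : ModuleCat.{u} R)
    (φ : S.X₁ ⟶ Y) : extδ hS Y 0 1 (add_zero 1) (Ext.mk₀ φ) = 0 ↔ ∃ ψ : S.X₂ ⟶ Y, S.f ≫ ψ = φ := by
  constructor
  · intro h
    obtain ⟨y, hy⟩ := Ext.contravariant_sequence_exact₁ hS Y (Ext.mk₀ φ) (add_zero 1) h
    obtain ⟨ψ, rfl⟩ := (Ext.mk₀_bijective _ _).2 y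
    rw [Ext.mk₀_comp_mk₀] at hy
    exact ⟨ψ, (Ext.mk₀_bijective _ _).1 hy⟩
  · rintro ⟨ψ, rfl⟩
    show hS.extClass.comp (Ext.mk₀ (S.f ≫ ψ)) (add_zero 1) = 0
    rw [← Ext.mk₀_comp_mk₀]
    exact hS.extClass_comp_assoc _

/-- `Hom_R(A,K) = Ext⁰(A,K)`, linearly. -/
def homEquivExt (A : Type u) [AddCommGroup A] [Module R A] :
    (A →ₗ[R] K) ≃ₗ[R] Ext (ModuleCat.of R A) (ModuleCat.of R K) 0 :=
  (ModuleCat.homLinearEquiv (M := ModuleCat.of R A) (N := ModuleCat.of R K) (S := R)).symm ≪≫ₗ
    (Ext.linearEquiv₀ (R := R)).symm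

include eK in
/-- Local duality with a canonical module, for Ext, with vanishing above the dimension. -/
theorem ext_duality {f : ResidueField R →ₗ[R] E} (hf : IsInjectiveHull f) (hcd : LocCoh.CdLE R (maximalIdeal R) n)
    (hfree : ∀ (a j : ℕ), j < n → Subsingleton (LocCoh.H (maximalIdeal R) j (Fin a → R))) :
    ∀ (i : ℕ) (M : Type u) [AddCommGroup M] [Module R M] [Module.Finite R M],
      (i ≤ n → Nonempty (LocCoh.H (maximalIdeal R) (n - i) M ≃ₗ[R]
        (Ext (ModuleCat.of R M) (ModuleCat.of R K) i →ₗ[R] E))) ∧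
      (n < i → Subsingleton (Ext (ModuleCat.of R M) (ModuleCat.of R K) i)) := by
  intro i
  induction i with
  | zero =>
    intro M _ _ _
    refine ⟨fun _ => ?_, fun h => absurd h (Nat.not_lt_zero n)⟩
    obtain ⟨e⟩ := nonempty_top_equiv eK hf.isInjective hcd M
    exact ⟨e ≪≫ₗ (homEquivExt M).arrowCongr (LinearEquiv.refl R E)⟩
  | succ i ih =>
    intro M _ _ _
    obtain ⟨a, q, hq⟩ := Module.Finite.exists_fin' R M
    let M' := LinearMap.ker q
    let ι : M' →ₗ[R] (Fin a → R) := M'.subtype
    let S := ses ι q (LinearMap.exact_subtype_ker_map q).linearMap_comp_eq_zero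
    have hS : S.ShortExact := ses_shortExact ι q Subtype.val_injective hq (LinearMap.exact_subtype_ker_map q)
    haveI : Projective S.X₂ := ModuleCat.projective_of_free (Pi.basisFun R (Fin a))
    haveI : Module.Finite R M' := Module.Finite.of_fg (IsNoetherian.noetherian _)
    rcases Nat.eq_zero_or_pos i with rfl | hi
    · -- the first step
      obtain ⟨ev, hev⟩ := exists_natural_top (R := R) (K := K) (n := n) (E := E) eK hf.isInjective hcd
      obtain ⟨σ', hσ'⟩ := hev (M := ↥M')
      obtain ⟨σF, hσF⟩ := hev (Fin a → R)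
      let π : (M' →ₗ[R] K) →ₗ[R] Ext (ModuleCat.of R M) (ModuleCat.of R K) 1 :=
        (extδ hS (ModuleCat.of R K) 0 1 (add_zero 1)).comp (homEquivExt M').toLinearMap
      have hπ : Function.Surjective π :=
        (extδ_surjective hS (ModuleCat.of R K) 0 1 (add_zero 1)).comp (homEquivExt M').surjective
      have hπker : ∀ χ, π χ = 0 ↔ ∃ χ', LinearMap.lcomp R K ι χ' = χ := by
        intro χ
        refine (extδ_zero_eq_zero_iff hS (ModuleCat.of R K) (ModuleCat.ofHom χ)).trans ?_
        exact ⟨fun ⟨ψ, hψ⟩ => ⟨ψ.hom, congrArg ModuleCat.Hom.hom hψ⟩,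
          fun ⟨χ', h⟩ => ⟨ModuleCat.ofHom χ', ModuleCat.hom_ext h⟩⟩
      let g : LocCoh.H (maximalIdeal R) n M' →ₗ[R] LocCoh.H (maximalIdeal R) n (Fin a → R) := hmap (maximalIdeal R) n ι
      have hg : ∀ x, g x = 0 ↔ ∀ χ' : (Fin a → R) →ₗ[R] K, σ' x (LinearMap.lcomp R K ι χ') = 0 := by
        intro x
        rw [← σF.map_eq_zero_iff, LinearMap.ext_iff]
        refine forall_congr' fun χ' => ?_
        rw [hσF, hσ', LinearMap.lcomp_apply', LinearMap.zero_apply, hmap_comp]
      let D : (Ext (ModuleCat.of R M) (ModuleCat.of R K) 1 →ₗ[R] E) →ₗ[R] LocCoh.H (maximalIdeal R) n M' :=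
        σ'.symm.toLinearMap.comp (LinearMap.lcomp R E π)
      have hDinj : Function.Injective D := σ'.symm.injective.comp fun α β h => LinearMap.ext fun x => by
        obtain ⟨χ, rfl⟩ := hπ x
        exact LinearMap.congr_fun h χ
      have hDrange : LinearMap.range D = LinearMap.ker g := by
        ext x
        constructor
        · rintro ⟨α, rfl⟩
          refine LinearMap.mem_ker.2 ((hg _).2 fun χ' => ?_)
          show σ' (σ'.symm (α.comp π)) _ = 0
          rw [σ'.apply_symm_apply, LinearMap.comp_apply, (hπker _).2 ⟨χ', rfl⟩, map_zero]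
        · intro hx
          rw [LinearMap.mem_ker, hg] at hx
          have hle : LinearMap.ker π ≤ LinearMap.ker (σ' x) := fun χ hχ => by
            obtain ⟨χ', rfl⟩ := (hπker χ).1 hχ
            exact hx χ'
          refine ⟨(LinearMap.ker π).liftQ (σ' x) hle ∘ₗ (π.quotKerEquivOfSurjective hπ).symm.toLinearMap,
            σ'.injective (LinearMap.ext fun χ => ?_)⟩
          show σ' (σ'.symm _) χ = σ' x χ
          rw [σ'.apply_symm_apply]
          simp [LinearMap.quotKerEquivOfSurjective_symm_apply]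
      refine ⟨fun hn1 => ?_, fun hn1 => ?_⟩
      · obtain ⟨k, rfl⟩ : ∃ k, n = k + 1 := ⟨n - 1, by omega⟩
        rw [show k + 1 - (0 + 1) = k by omega]
        let δ : LocCoh.H (maximalIdeal R) k M →ₗ[R] LocCoh.H (maximalIdeal R) (k + 1) M' := Hδ (maximalIdeal R) hS k
        have hδinj : Function.Injective δ := by
          haveI := hfree a k (Nat.lt_succ_self k)
          refine (injective_iff_map_eq_zero δ).2 fun x hx => ?_
          obtain ⟨y, rfl⟩ := (H_exact₃ (maximalIdeal R) hS k x).1 hx
          rw [@Subsingleton.elim (LocCoh.H (maximalIdeal R) k (Fin a → R)) _ y 0]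
          exact map_zero _
        have hδrange : LinearMap.range δ = LinearMap.ker g :=
          (LinearMap.exact_iff.1 (H_exact₁ (maximalIdeal R) hS k)).symm
        exact ⟨LinearEquiv.ofInjective δ hδinj ≪≫ₗ LinearEquiv.ofEq _ _ (hδrange.trans hDrange.symm) ≪≫ₗ
          (LinearEquiv.ofInjective D hDinj).symm⟩
      · obtain rfl : n = 0 := by omega
        have hginj : Function.Injective g := injective_H_map_f (maximalIdeal R) hS
        haveI : Subsingleton (Ext (ModuleCat.of R M) (ModuleCat.of R K) 1 →ₗ[R] E) := by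
          refine subsingleton_of_forall_eq 0 fun α => hDinj (hginj ?_)
          rw [map_zero, map_zero]
          exact LinearMap.mem_ker.1 (hDrange.le (LinearMap.mem_range_self D α))
        exact subsingleton_of_subsingleton_dual hf
    · obtain ⟨j, rfl⟩ : ∃ j, i = j + 1 := ⟨i - 1, by omega⟩
      let e : Ext (ModuleCat.of R M') (ModuleCat.of R K) (j + 1) ≃ₗ[R]
          Ext (ModuleCat.of R M) (ModuleCat.of R K) (j + 1 + 1) :=
        LinearEquiv.ofBijective _ (extδ_bijective hS (ModuleCat.of R K) j (j + 1 + 1) (add_comm 1 (j + 1)))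
      refine ⟨fun hn1 => ?_, fun hn1 => ?_⟩
      · obtain ⟨k, rfl⟩ : ∃ k, n = k + (j + 1 + 1) := ⟨n - (j + 1 + 1), by omega⟩
        obtain ⟨e'⟩ := (ih M').1 (by omega)
        rw [show k + (j + 1 + 1) - (j + 1 + 1) = k by omega]
        rw [show k + (j + 1 + 1) - (j + 1) = k + 1 by omega] at e'
        let δ : LocCoh.H (maximalIdeal R) k M →ₗ[R] LocCoh.H (maximalIdeal R) (k + 1) M' := Hδ (maximalIdeal R) hS k
        have hδ : Function.Bijective δ := by
          haveI := hfree a k (by omega)
          haveI := hfree a (k + 1) (by omega)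
          refine ⟨(injective_iff_map_eq_zero δ).2 fun x hx => ?_, fun y =>
            (H_exact₁ (maximalIdeal R) hS k y).1 (@Subsingleton.elim (LocCoh.H (maximalIdeal R) (k + 1) (Fin a → R)) _ _ _)⟩
          obtain ⟨y, rfl⟩ := (H_exact₃ (maximalIdeal R) hS k x).1 hx
          rw [@Subsingleton.elim (LocCoh.H (maximalIdeal R) k (Fin a → R)) _ y 0]
          exact map_zero _
        exact ⟨LinearEquiv.ofBijective δ hδ ≪≫ₗ e' ≪≫ₗ e.arrowCongr (LinearEquiv.refl R E)⟩
      · haveI : Subsingleton (Ext (ModuleCat.of R M') (ModuleCat.of R K) (j + 1)) := by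
          rcases Nat.lt_or_ge n (j + 1) with h | h
          · exact (ih M').2 h
          · obtain ⟨e'⟩ := (ih M').1 h
            rw [show n - (j + 1) = 0 by omega] at e'
            haveI := hfree a 0 (by omega)
            haveI : Subsingleton (LocCoh.H (maximalIdeal R) 0 M') :=
              Function.Injective.subsingleton (β := LocCoh.H (maximalIdeal R) 0 (Fin a → R)) (injective_H_map_f (maximalIdeal R) hS)
            haveI := e'.symm.toEquiv.subsingleton
            exact subsingleton_of_subsingleton_dual hf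
        exact e.symm.toEquiv.subsingleton

end Groth.L04.Canon
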