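import Groth.Agent.L04.Canon.CMDuality

/-!
# Properties of the canonical module of a Cohen–Macaulay local ring
-/

set_option autoImplicit false
universe u

open CategoryTheory CategoryTheory.Abelian IsLocalRing InjHull RingTheory.Sequence

noncomputable section

namespace Groth.L04.Canon

open Groth.L04.LC

variable {R : Type u} [CommRing R] [LocCoh.IsCohenMacaulayLocalRing R] {n : ℕ} (hn : ringKrullDim R = n)

include hn in
theorem depth_self : LocCoh.idealDepth (maximalIdeal R) R = n := by
  have h := (Module.supportDim_self_eq_ringKrullDim R).symm.trans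
    (LocCoh.IsCohenMacaulayLocalRing.supportDim_eq_depth (R := R))
  rw [hn] at h
  exact (WithBot.coe_injective h).symm

include hn in
theorem subsingleton_H_pi (a j : ℕ) (hj : j < n) :
    Subsingleton (LocCoh.H (maximalIdeal R) j (Fin a → R)) :=
  (le_idealDepth_iff_H (maximalIdeal R) (Fin a → R) n).1
    (Groth.L04.le_idealDepth_pi (maximalIdeal R) (depth_self hn).ge a) j hj

variable {E : Type u} [AddCommGroup E] [Module R E] {f : ResidueField R →ₗ[R] E} (hf : IsInjectiveHull f)
  {K : Type u} [AddCommGroup K] [Module R K] [Module.Finite R K]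
  (eK : (K →ₗ[R] E) ≃ₗ[R] LocCoh.H (maximalIdeal R) n R)

include hn hf eK

theorem ext_duality_CM (i : ℕ) (M : Type u) [AddCommGroup M] [Module R M] [Module.Finite R M] :
    (i ≤ n → Nonempty (LocCoh.H (maximalIdeal R) (n - i) M ≃ₗ[R]
        (Ext (ModuleCat.of R M) (ModuleCat.of R K) i →ₗ[R] E))) ∧
      (n < i → Subsingleton (Ext (ModuleCat.of R M) (ModuleCat.of R K) i)) :=
  ext_duality (R := R) (K := K) (n := n) (E := E) eK hf (cdLE_of_ringKrullDim_le _ n hn.le)
    (fun a j hj => subsingleton_H_pi hn a j hj) i M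

theorem hasInjectiveDimensionLT_canon : HasInjectiveDimensionLT (ModuleCat.of R K) (n + 1) :=
  Groth.L06.ExtDim.hasInjectiveDimensionLT_of_forall_quotient n _
    fun I => (ext_duality_CM hn hf eK (n + 1) (R ⧸ I)).2 (Nat.lt_succ_self n)

theorem not_hasInjectiveDimensionLT_canon : ¬ HasInjectiveDimensionLT (ModuleCat.of R K) n := by
  intro h
  let k := R ⧸ maximalIdeal R
  obtain ⟨e⟩ := (ext_duality_CM hn hf eK n k).1 le_rfl
  haveI : Subsingleton (Ext (ModuleCat.of R k) (ModuleCat.of R K) n) :=
    HasInjectiveDimensionLT.subsingleton (ModuleCat.of R K) n n le_rfl _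
  rw [Nat.sub_self] at e
  have htop : DRing.torsionSub (maximalIdeal R) k = ⊤ := eq_top_iff.2 fun x _ => ⟨1, fun b hb => by
    rw [pow_one] at hb
    obtain ⟨x, rfl⟩ := Ideal.Quotient.mk_surjective x
    rw [Algebra.smul_def, Ideal.Quotient.algebraMap_eq, ← map_mul, Ideal.Quotient.eq_zero_iff_mem]
    exact Ideal.mul_mem_right _ _ hb⟩
  let e0 : LocCoh.H (maximalIdeal R) 0 k ≃ₗ[R] k :=
    H0Equiv (maximalIdeal R) (ModuleCat.of R k) ≪≫ₗ LinearEquiv.ofTop _ htop
  haveI : Subsingleton (LocCoh.H (maximalIdeal R) 0 k) :=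
    ⟨fun a b => e.injective (LinearMap.ext fun x => by rw [Subsingleton.elim x 0, map_zero, map_zero])⟩
  haveI : Nontrivial k := Ideal.Quotient.nontrivial_iff.2 (Ideal.IsPrime.ne_top inferInstance)
  exact not_subsingleton k e0.symm.toEquiv.subsingleton

theorem annihilator_canon_eq_bot : Module.annihilator R K = ⊥ := by
  have hlt := supportDim_annihilator_lt hn hf eK
  by_contra h
  haveI : Nontrivial (Module.annihilator R K) := Submodule.nontrivial_iff_ne_bot.2 h
  obtain ⟨q, hq⟩ := associatedPrimes.nonempty R (Module.annihilator R K)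
  have hq' : q ∈ associatedPrimes R R :=
    IsAssociatedPrime.map_of_injective (Module.annihilator R K).subtype hq Subtype.val_injective
  have h1 := Groth.L04.ringKrullDim_quotient_le_supportDim hq
  rw [ringKrullDim_quotient_of_mem_associatedPrimes hq', hn] at h1
  exact absurd (h1.trans_lt hlt) (lt_irrefl _)

theorem support_canon_eq_univ : Module.support R K = Set.univ := by
  rw [Module.support_eq_zeroLocus, annihilator_canon_eq_bot hn hf eK]
  exact PrimeSpectrum.zeroLocus_bot

theorem supportDim_canon : Module.supportDim R K = n := by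
  rw [← hn, Module.supportDim_eq_ringKrullDim_quotient_annihilator, annihilator_canon_eq_bot hn hf eK]
  exact ringKrullDim_eq_of_ringEquiv (RingEquiv.quotientBot R)

theorem le_depth_canon : (n : ℕ∞) ≤ LocCoh.idealDepth (maximalIdeal R) K := by
  rw [Groth.L04.le_idealDepth_iff_extVanish]
  intro i hi
  obtain ⟨e⟩ := (ext_duality_CM hn hf eK i (R ⧸ maximalIdeal R)).1 hi.le
  have hsd : Module.supportDim R (R ⧸ maximalIdeal R) < ((n - i : ℕ) : WithBot ℕ∞) := by
    rw [Module.supportDim_quotient_eq_ringKrullDim,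
      ringKrullDim_eq_zero_of_isField ((Ideal.Quotient.maximal_ideal_iff_isField_quotient _).1
        (maximalIdeal.isMaximal R))]
    exact_mod_cast Nat.sub_pos_of_lt hi
  haveI := subsingleton_H_of_supportDim_lt (maximalIdeal R) (R ⧸ maximalIdeal R) (n - i) hsd
  haveI := e.symm.toEquiv.subsingleton
  exact subsingleton_of_subsingleton_dual hf

theorem isCohenMacaulayModule_canon : LocCoh.IsCohenMacaulayModule R K := by
  show Module.supportDim R K = ((LocCoh.depth R K : ℕ∞) : WithBot ℕ∞)
  haveI : Nontrivial K := by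
    refine not_subsingleton_iff_nontrivial.1 fun h => ?_
    have := annihilator_canon_eq_bot hn hf eK
    rw [Module.annihilator_eq_top_iff.2 h] at this
    exact top_ne_bot this
  refine le_antisymm ?_ (Groth.L04.depth_le_supportDim (R := R) (M := K))
  rw [supportDim_canon hn hf eK]
  exact WithBot.coe_le_coe.2 (le_depth_canon hn hf eK)

theorem idealDepth_canon_eq {I : Ideal R} (hI : I ≠ ⊤) :
    LocCoh.idealDepth I K = LocCoh.idealDepth I R := by
  have h1 := Groth.L04.supportDim_eq_add_idealDepth (M := K) hI (isCohenMacaulayModule_canon hn hf eK)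
  have h2 := Groth.L04.supportDim_eq_add_idealDepth (M := R) hI
    (LocCoh.IsCohenMacaulayLocalRing.supportDim_eq_depth (R := R))
  have h3 : Module.supportDim R (K ⧸ I • (⊤ : Submodule R K)) = ringKrullDim (R ⧸ I) := by
    rw [Module.supportDim, Module.support_quotient, support_canon_eq_univ hn hf eK, Set.univ_inter,
      ringKrullDim_quotient]
  have h4 : Module.supportDim R (R ⧸ I • (⊤ : Submodule R R)) = ringKrullDim (R ⧸ I) := by
    rw [Module.supportDim_eq_of_equiv (Submodule.quotEquivOfEq _ I (by rw [smul_eq_mul, Ideal.mul_top])),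
      Module.supportDim_quotient_eq_ringKrullDim]
  haveI := Groth.L01.isLocalRing_quotient hI
  obtain ⟨d, hd⟩ := Groth.L01.exists_dim_eq_nat (R := R ⧸ I)
  rw [supportDim_canon hn hf eK, h3, hd] at h1
  rw [Module.supportDim_self_eq_ringKrullDim, hn, h4, hd] at h2
  have h1' : ((n : ℕ∞)) = (d : ℕ∞) + LocCoh.idealDepth I K := by exact_mod_cast h1
  have h2' : ((n : ℕ∞)) = (d : ℕ∞) + LocCoh.idealDepth I R := by exact_mod_cast h2
  exact (ENat.add_left_injective_of_ne_top (ENat.natCast_ne_top d)).eq_iff.1
    (by simp only [add_comm _ (d : ℕ∞)]; exact h1'.symm.trans h2')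

theorem isRegular_iff_canon {as : List R} (has : ∀ a ∈ as, a ∈ maximalIdeal R) :
    IsRegular R as ↔ IsRegular K as := by
  haveI := Groth.L04.nontrivial_of_isCohenMacaulayModule (isCohenMacaulayModule_canon hn hf eK)
  have hI : Ideal.ofList as ≠ ⊤ :=
    ne_top_of_le_ne_top (maximalIdeal.isMaximal R).ne_top (Ideal.span_le.2 has)
  rw [IsLocalRing.isRegular_iff_isWeaklyRegular_of_subset_maximalIdeal has,
    IsLocalRing.isRegular_iff_isWeaklyRegular_of_subset_maximalIdeal has,
    ← Groth.L04.idealDepth_eq_length_iff as has, ← Groth.L04.idealDepth_eq_length_iff as has,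
    idealDepth_canon_eq hn hf eK hI]

/-- The canonical module modulo a regular sequence. -/
theorem nonempty_dual_quotient_equiv (as : List R) (has : ∀ a ∈ as, a ∈ maximalIdeal R)
    (hreg : IsWeaklyRegular R as) :
    as.length ≤ n ∧ Nonempty (((K ⧸ (Ideal.ofList as • (⊤ : Submodule R K))) →ₗ[R] E) ≃ₗ[R]
      LocCoh.H (maximalIdeal R) (n - as.length) (R ⧸ Ideal.ofList as)) := by
  have hlen : as.length ≤ n := by
    have := Groth.L04.length_le_idealDepth (I := maximalIdeal R) hreg has
    rw [depth_self hn] at this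
    exact_mod_cast this
  refine ⟨hlen, ?_⟩
  induction as using List.reverseRecOn with
  | nil =>
    let eq1 : (K ⧸ (Ideal.ofList ([] : List R) • (⊤ : Submodule R K))) ≃ₗ[R] K :=
      Submodule.quotEquivOfEqBot _ (by simp)
    let eq2 : (R ⧸ Ideal.ofList ([] : List R)) ≃ₗ[R] R := Submodule.quotEquivOfEqBot _ (by simp)
    exact ⟨eq1.arrowCongr (LinearEquiv.refl R E) ≪≫ₗ eK ≪≫ₗ
      ((localCohomology (maximalIdeal R) n).mapIso eq2.symm.toModuleIso).toLinearEquiv⟩
  | append_singleton as a ih =>
    rw [List.length_append, List.length_singleton] at hlen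
    rw [isWeaklyRegular_append_iff, isWeaklyRegular_singleton_iff] at hreg
    simp only [List.forall_mem_append, List.forall_mem_singleton] at has
    obtain ⟨e⟩ := ih has.1 hreg.1 (by omega)
    obtain ⟨k, hk⟩ : ∃ k, n = k + (as.length + 1) := ⟨n - (as.length + 1), by omega⟩
    rw [List.length_append, List.length_singleton, show n - (as.length + 1) = k by omega]
    rw [show n - as.length = k + 1 by omega] at e
    let J := Ideal.ofList as
    let J' := Ideal.ofList (as ++ [a])
    have hJJ' : J' = J ⊔ Ideal.span {a} := by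
      simp only [J', Ideal.ofList_append, Ideal.ofList_singleton, J]
    have hreg' : IsSMulRegular (R ⧸ J) a := by
      intro x y hxy
      let eqJ : (R ⧸ J • (⊤ : Submodule R R)) ≃ₗ[R] (R ⧸ J) :=
        Submodule.quotEquivOfEq _ J (by rw [smul_eq_mul, Ideal.mul_top])
      refine eqJ.symm.injective (hreg.2 ?_)
      show a • eqJ.symm x = a • eqJ.symm y
      rw [← map_smul, ← map_smul]
      exact congrArg eqJ.symm hxy
    let μ : (R ⧸ J) →ₗ[R] (R ⧸ J) := a • LinearMap.id
    let π : (R ⧸ J) →ₗ[R] (R ⧸ J') :=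
      Submodule.mapQ J J' LinearMap.id fun x hx => by rw [Submodule.mem_comap, hJJ']; exact Ideal.mem_sup_left hx
    have hπ : Function.Surjective π := fun y => by
      obtain ⟨x, rfl⟩ := Submodule.mkQ_surjective J' y
      exact ⟨Submodule.Quotient.mk x, rfl⟩
    have hex : Function.Exact μ π := fun y => by
      obtain ⟨y, rfl⟩ := Submodule.mkQ_surjective J y
      constructor
      · intro h
        have hy : y ∈ J ⊔ Ideal.span {a} := hJJ' ▸ (Submodule.Quotient.mk_eq_zero J').1 h
        obtain ⟨j, hj, b, hb, rfl⟩ := Submodule.mem_sup.1 hy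
        obtain ⟨c, rfl⟩ := Ideal.mem_span_singleton'.1 hb
        refine ⟨Submodule.Quotient.mk c, ?_⟩
        show a • (Submodule.Quotient.mk c : R ⧸ J) = Submodule.Quotient.mk (j + c * a)
        rw [← Submodule.Quotient.mk_smul, Submodule.Quotient.mk_add, (Submodule.Quotient.mk_eq_zero J).2 hj,
          zero_add, smul_eq_mul, mul_comm]
      · rintro ⟨x, hx⟩
        obtain ⟨x, rfl⟩ := Submodule.mkQ_surjective J x
        rw [← hx]
        show π (a • Submodule.Quotient.mk x) = 0
        rw [← Submodule.Quotient.mk_smul]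
        show (Submodule.Quotient.mk (a • x) : R ⧸ J') = 0
        rw [Submodule.Quotient.mk_eq_zero, hJJ', smul_eq_mul]
        exact Ideal.mem_sup_right (Ideal.mem_span_singleton'.2 ⟨x, mul_comm _ _⟩)
    have hS := ses_shortExact μ π hreg' hπ hex
    haveI : Subsingleton (LocCoh.H (maximalIdeal R) k (R ⧸ J)) := by
      have hd : ((k + 1 : ℕ) : ℕ∞) ≤ LocCoh.idealDepth (maximalIdeal R) (R ⧸ J) := by
        rw [Groth.L04.idealDepth_congr (Submodule.quotEquivOfEq J (J • (⊤ : Submodule R R))
            (by rw [smul_eq_mul, Ideal.mul_top])),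
          Groth.L04.le_idealDepth_quotient_iff hreg.1 has.1, depth_self hn]
        exact_mod_cast (show k + 1 + as.length ≤ n by omega)
      exact (le_idealDepth_iff_H (maximalIdeal R) (R ⧸ J) (k + 1)).1 hd k (Nat.lt_succ_self k)
    let δ : LocCoh.H (maximalIdeal R) k (R ⧸ J') →ₗ[R] LocCoh.H (maximalIdeal R) (k + 1) (R ⧸ J) :=
      Hδ (maximalIdeal R) hS k
    have hδinj : Function.Injective δ := by
      refine (injective_iff_map_eq_zero δ).2 fun x hx => ?_
      obtain ⟨y, rfl⟩ := (H_exact₃ (maximalIdeal R) hS k x).1 hx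
      rw [@Subsingleton.elim (LocCoh.H (maximalIdeal R) k (R ⧸ J)) _ y 0]
      exact map_zero _
    have hδrange : ∀ x, x ∈ LinearMap.range δ ↔ a • x = 0 := fun x => by
      rw [LinearMap.mem_range, ← hmap_id (I := maximalIdeal R) (n := k + 1) x, ← hmap_smul, hmap_id]
      exact (H_exact₁ (maximalIdeal R) hS k x).symm
    let P := J • (⊤ : Submodule R K)
    let P' := J' • (⊤ : Submodule R K)
    have hPP' : P ≤ P' := Submodule.smul_mono_left (hJJ' ▸ le_sup_left)
    let ρ : (K ⧸ P) →ₗ[R] (K ⧸ P') := Submodule.mapQ P P' LinearMap.id fun x hx => hPP' hx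
    have hρ : Function.Surjective ρ := fun y => by
      obtain ⟨x, rfl⟩ := Submodule.mkQ_surjective P' y
      exact ⟨Submodule.Quotient.mk x, rfl⟩
    let D : ((K ⧸ P') →ₗ[R] E) →ₗ[R] LocCoh.H (maximalIdeal R) (k + 1) (R ⧸ J) :=
      e.toLinearMap.comp (LinearMap.lcomp R E ρ)
    have hDinj : Function.Injective D := e.injective.comp fun α β h => LinearMap.ext fun x => by
      obtain ⟨y, rfl⟩ := hρ x
      exact LinearMap.congr_fun h y
    have hrange : LinearMap.range δ = LinearMap.range D := by
      ext x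
      rw [hδrange]
      constructor
      · intro hx
        have hle : P' ≤ LinearMap.ker ((e.symm x).comp P.mkQ) := by
          refine Submodule.smul_le.2 fun r hr y _ => ?_
          rw [hJJ'] at hr
          obtain ⟨j, hj, b, hb, rfl⟩ := Submodule.mem_sup.1 hr
          obtain ⟨c, rfl⟩ := Ideal.mem_span_singleton'.1 hb
          rw [LinearMap.mem_ker, LinearMap.comp_apply, add_smul, map_add, map_add, Submodule.mkQ_apply,
            (Submodule.Quotient.mk_eq_zero P).2 (Submodule.smul_mem_smul hj Submodule.mem_top), map_zero,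
            zero_add, mul_smul, map_smul, map_smul, map_smul, map_smul, ← LinearMap.smul_apply a,
            show a • e.symm x = 0 by rw [← map_smul, hx, map_zero], LinearMap.zero_apply, smul_zero]
        refine ⟨P'.liftQ _ hle, e.symm.injective ?_⟩
        show e.symm (e _) = _
        rw [e.symm_apply_apply]
        refine LinearMap.ext fun y => ?_
        obtain ⟨y, rfl⟩ := Submodule.mkQ_surjective P y
        rfl
      · rintro ⟨α, rfl⟩
        show a • e (α.comp ρ) = 0
        rw [← map_smul, e.map_eq_zero_iff]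
        refine LinearMap.ext fun y => ?_
        obtain ⟨y, rfl⟩ := Submodule.mkQ_surjective P y
        rw [LinearMap.smul_apply, LinearMap.comp_apply, ← map_smul, ← map_smul, ← map_smul]
        show α (Submodule.Quotient.mk (a • y)) = 0
        rw [(Submodule.Quotient.mk_eq_zero P').2 (Submodule.smul_mem_smul
          (hJJ' ▸ Ideal.mem_sup_right (Ideal.mem_span_singleton_self a)) Submodule.mem_top), map_zero]
    exact ⟨LinearEquiv.ofInjective D hDinj ≪≫ₗ LinearEquiv.ofEq _ _ hrange.symm ≪≫ₗ
      (LinearEquiv.ofInjective δ hδinj).symm⟩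

/-- Every endomorphism of the canonical module is a scalar. -/
theorem exists_eq_smul_id (g : K →ₗ[R] K) : ∃ r : R, g = r • LinearMap.id := by
  obtain ⟨p, s, hs⟩ := Submodule.fg_iff_exists_fin_generating_family.1 (Module.Finite.fg_top (R := R) (M := K))
  let N := Submodule.span R {s}
  have hmem : (fun j => g (s j)) ∈ N := by
    rw [← Submodule.Quotient.mk_eq_zero N, ← Submodule.mem_bot R,
      ← Ideal.iInf_pow_smul_eq_bot_of_isLocalRing (M := (Fin p → K) ⧸ N) (maximalIdeal R)
        (maximalIdeal.isMaximal R).ne_top, Submodule.mem_iInf]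
    intro k
    rcases Nat.eq_zero_or_pos k with rfl | hk
    · rw [pow_zero, Ideal.one_eq_top, Submodule.top_smul]
      trivial
    have hne : maximalIdeal R ^ k ≠ ⊤ :=
      ne_top_of_le_ne_top (maximalIdeal.isMaximal R).ne_top (Ideal.pow_le_self hk.ne')
    have hdepth : (n : ℕ∞) ≤ LocCoh.idealDepth (maximalIdeal R ^ k) R := by
      have h2 := Groth.L04.supportDim_eq_add_idealDepth (M := R) hne
        (LocCoh.IsCohenMacaulayLocalRing.supportDim_eq_depth (R := R))
      have h0 : Module.supportDim R (R ⧸ (maximalIdeal R ^ k) • (⊤ : Submodule R R)) ≤ 0 := by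
        rw [Module.supportDim_eq_of_equiv (Submodule.quotEquivOfEq _ (maximalIdeal R ^ k) (by rw [smul_eq_mul, Ideal.mul_top])),
          Module.supportDim_quotient_eq_ringKrullDim, ringKrullDim_quotient, Order.krullDim_nonpos_iff_forall_isMax]
        intro P Q _
        have hm : ∀ X : PrimeSpectrum.zeroLocus ((maximalIdeal R ^ k : Ideal R) : Set R),
            X.1.asIdeal = maximalIdeal R := fun X =>
          ((maximalIdeal.isMaximal R).eq_of_le X.1.isPrime.ne_top (Ideal.IsPrime.le_of_pow_le X.2)).symm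
        exact le_of_eq (Subtype.ext (PrimeSpectrum.ext ((hm Q).trans (hm P).symm)))
      rw [Module.supportDim_self_eq_ringKrullDim, hn] at h2
      exact WithBot.coe_le_coe.1 ((h2.trans_le (add_le_add h0 le_rfl)).trans (zero_add _).le)
    obtain ⟨rs, hlen, hreg, hrs⟩ := Groth.L04.exists_of_le_idealDepth
      (Groth.L04.smul_top_ne_top_of_nontrivial hne) hdepth
    have hrsm : ∀ r ∈ rs, r ∈ maximalIdeal R := fun r hr => Ideal.pow_le_self hk.ne' (hrs r hr)
    obtain ⟨-, ⟨e⟩⟩ := nonempty_dual_quotient_equiv hn hf eK rs hrsm hreg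
    rw [hlen, Nat.sub_self] at e
    let I := Ideal.ofList rs
    let X := K ⧸ I • (⊤ : Submodule R K)
    let φ : X →ₗ[R] X := Submodule.mapQ (I • (⊤ : Submodule R K)) (I • (⊤ : Submodule R K)) g
      (Submodule.smul_le.2 fun r hr x _ => by
        rw [Submodule.mem_comap, map_smul]; exact Submodule.smul_mem_smul hr Submodule.mem_top)
    let ι : (X →ₗ[R] E) →ₗ[R] (R ⧸ I) :=
      (DRing.torsionSub (maximalIdeal R) (R ⧸ I)).subtype.comp
        ((H0Equiv (maximalIdeal R) (ModuleCat.of R (R ⧸ I))).toLinearMap.comp e.toLinearMap)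
    have hι : Function.Injective ι :=
      Subtype.val_injective.comp ((H0Equiv (maximalIdeal R) (ModuleCat.of R (R ⧸ I))).injective.comp e.injective)
    have hIm : I ≠ ⊤ := ne_top_of_le_ne_top (maximalIdeal.isMaximal R).ne_top (Ideal.span_le.2 hrsm)
    have htop : ∀ q : R ⧸ I, q ∈ DRing.torsionSub (maximalIdeal R) (R ⧸ I) := by
      have h2 := Groth.L04.supportDim_eq_add_idealDepth (M := R) hIm
        (LocCoh.IsCohenMacaulayLocalRing.supportDim_eq_depth (R := R))
      rw [Module.supportDim_eq_of_equiv (Submodule.quotEquivOfEq _ I (by rw [smul_eq_mul, Ideal.mul_top])),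
        Module.supportDim_quotient_eq_ringKrullDim, Module.supportDim_self_eq_ringKrullDim, hn] at h2
      haveI := Groth.L01.isLocalRing_quotient hIm
      obtain ⟨d, hd⟩ := Groth.L01.exists_dim_eq_nat (R := R ⧸ I)
      have hge : (n : ℕ∞) ≤ LocCoh.idealDepth I R :=
        hlen ▸ Groth.L04.length_le_idealDepth hreg fun r hr => Ideal.subset_span hr
      rw [hd] at h2
      have hle : (n : WithBot ℕ∞) ≥ (d : WithBot ℕ∞) + (n : WithBot ℕ∞) :=
        h2.ge.trans' (add_le_add le_rfl (WithBot.coe_le_coe.2 hge))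
      have hd0 : d = 0 := by
        have : d + n ≤ n := by exact_mod_cast hle
        omega
      subst hd0
      have hrad : maximalIdeal R ≤ I.radical := by
        rw [Ideal.radical_eq_sInf]
        refine le_sInf fun P ⟨hIP, hP⟩ => ?_
        have hmax := Order.krullDim_nonpos_iff_forall_isMax.1
          (((ringKrullDim_quotient I).symm.trans hd).le.trans (by simp)) ⟨⟨P, hP⟩, hIP⟩
        have hle : maximalIdeal R ≤ P :=
          @hmax ⟨⟨maximalIdeal R, inferInstance⟩, hIP.trans (le_maximalIdeal hP.ne_top)⟩ (le_maximalIdeal hP.ne_top)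
        exact hle
      obtain ⟨N, hN⟩ := Ideal.exists_pow_le_of_le_radical_of_fg hrad (maximalIdeal R).fg_of_isNoetherianRing
      intro q
      refine ⟨N, fun b hb => ?_⟩
      obtain ⟨q, rfl⟩ := Submodule.mkQ_surjective I q
      rw [Submodule.mkQ_apply, ← Submodule.Quotient.mk_smul, Submodule.Quotient.mk_eq_zero]
      exact I.mul_mem_right q (hN hb)
    obtain ⟨α₀, hα₀⟩ : ∃ α, ι α = Submodule.Quotient.mk 1 :=
      ⟨e.symm ((H0Equiv (maximalIdeal R) (ModuleCat.of R (R ⧸ I))).symm ⟨(Submodule.Quotient.mk 1 : R ⧸ I), htop _⟩), by simp [ι]⟩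
    have hgen : ∀ α : X →ₗ[R] E, ∃ c : R, α = c • α₀ := fun α => by
      obtain ⟨c, hc⟩ := Submodule.mkQ_surjective I (ι α)
      refine ⟨c, hι ?_⟩
      rw [map_smul, hα₀, ← hc, ← Submodule.Quotient.mk_smul, smul_eq_mul, mul_one]
      rfl
    obtain ⟨r, hr⟩ := hgen (α₀.comp φ)
    have hφ : ∀ x, φ x = r • x := fun x => by
      refine Groth.L04.applyₗ_injective hf X (LinearMap.ext fun α => ?_)
      obtain ⟨c, rfl⟩ := hgen α
      simp only [LinearMap.applyₗ_apply_apply, LinearMap.smul_apply, map_smul]
      rw [show α₀ (φ x) = r • α₀ x from LinearMap.congr_fun hr x]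
    have hx : ∀ j, g (s j) - r • s j ∈ (maximalIdeal R ^ k) • (⊤ : Submodule R K) := fun j => by
      refine Submodule.smul_mono_left (Ideal.span_le.2 hrs : I ≤ maximalIdeal R ^ k) ?_
      rw [← Submodule.Quotient.mk_eq_zero, Submodule.Quotient.mk_sub, sub_eq_zero]
      exact hφ (Submodule.Quotient.mk (s j))
    have hd : (fun j => g (s j)) - r • s ∈ (maximalIdeal R ^ k) • (⊤ : Submodule R (Fin p → K)) := by
      classical
      rw [← Finset.univ_sum_single ((fun j => g (s j)) - r • s)]
      refine sum_mem fun j _ => ?_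
      have := Submodule.mem_map_of_mem (f := LinearMap.single R (fun _ : Fin p => K) j) (hx j)
      rw [Submodule.map_smul''] at this
      exact Submodule.smul_mono le_rfl le_top this
    have h := Submodule.mem_map_of_mem (f := N.mkQ) hd
    rw [Submodule.map_smul'', map_sub, map_smul, show N.mkQ s = 0 from
      (Submodule.Quotient.mk_eq_zero N).2 (Submodule.mem_span_singleton_self s), smul_zero, sub_zero] at h
    exact Submodule.smul_mono le_rfl le_top h
  obtain ⟨r, hr⟩ := Submodule.mem_span_singleton.1 hmem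
  exact ⟨r, LinearMap.ext_on_range hs fun j => (congrFun hr j).symm⟩

theorem toEnd_bijective : Function.Bijective (fun r : R => r • (LinearMap.id : K →ₗ[R] K)) := by
  refine ⟨fun a b h => ?_, fun g => (exists_eq_smul_id hn hf eK g).imp fun r hr => hr.symm⟩
  have : a - b ∈ Module.annihilator R K := Module.mem_annihilator.2 fun x => by
    rw [sub_smul, sub_eq_zero]
    exact LinearMap.congr_fun h x
  rw [annihilator_canon_eq_bot hn hf eK, Submodule.mem_bot, sub_eq_zero] at this
  exact this

theorem subsingleton_ext_canon_self (h1 : 1 ≤ n) :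
    Subsingleton (Ext (ModuleCat.of R K) (ModuleCat.of R K) 1) := by
  obtain ⟨e⟩ := (ext_duality_CM hn hf eK 1 K).1 h1
  haveI := (le_idealDepth_iff_H (maximalIdeal R) K n).1 (le_depth_canon hn hf eK) (n - 1) (by omega)
  haveI := e.symm.toEquiv.subsingleton
  exact subsingleton_of_subsingleton_dual hf

end Groth.L04.Canon
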