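import Groth.Agent.L10.FormCat.Formal
import Groth.Agent.L21.GorensteinQuotient
import Groth.Agent.L04.CMBasic
import Groth.Agent.S0341
import Groth.Agent.S0342
import Mathlib.RingTheory.KrullDimension.Regular

/-!
A quotient of a Gorenstein local ring is a quotient of one of the same dimension.
-/

set_option autoImplicit false
universe u

open IsLocalRing

namespace Groth.L04.Canon

theorem ringKrullDim_quotient_of_mem_associatedPrimes {S : Type u} [CommRing S]
    [LocCoh.IsCohenMacaulayLocalRing S] {P : Ideal S} (hP : P ∈ associatedPrimes S S) :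
    ringKrullDim (S ⧸ P) = ringKrullDim S :=
  (Groth.L04.ringKrullDim_quotient_eq_supportDim_of_isCM
    (LocCoh.IsCohenMacaulayLocalRing.supportDim_eq_depth) hP).trans (Module.supportDim_self_eq_ringKrullDim S)

theorem exists_gorenstein_same_dim {R : Type u} [CommRing R] [IsLocalRing R] {n : ℕ}
    (hn : ringKrullDim R = n) : ∀ (d : ℕ) (S : Type u) [CommRing S] [LocCoh.IsGorensteinLocalRing S]
    (g : S →+* R), Function.Surjective g → ringKrullDim S = (n + d : ℕ) →
      ∃ (S' : Type u) (_ : CommRing S') (_ : LocCoh.IsGorensteinLocalRing S') (g' : S' →+* R),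
        Function.Surjective g' ∧ ringKrullDim S' = n := by
  intro d
  induction d with
  | zero => intro S _ _ g hg hd; exact ⟨S, _, inferInstance, g, hg, hd⟩
  | succ d ih =>
    intro S _ _ g hg hd
    haveI : LocCoh.IsCohenMacaulayLocalRing S := Groth.Agent.S0341.result S
    obtain ⟨x, hx, hxr⟩ : ∃ x ∈ RingHom.ker g, x ∈ nonZeroDivisors S := by
      by_contra h
      push Not at h
      have hsub : (RingHom.ker g : Set S) ⊆ ⋃ p ∈ associatedPrimes S S, (p : Set S) := by
        rw [biUnion_associatedPrimes_eq_compl_nonZeroDivisors]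
        exact fun x hx => h x hx
      obtain ⟨P, hP, hle⟩ := (Ideal.subset_union_prime_finite (associatedPrimes.finite S S) ⊥ ⊥
        fun p hp _ _ => IsAssociatedPrime.isPrime hp).1 hsub
      have h1 : ringKrullDim (S ⧸ P) ≤ ringKrullDim R := by
        rw [← ringKrullDim_eq_of_ringEquiv (RingHom.quotientKerEquivOfSurjective hg)]
        exact ringKrullDim_le_of_surjective _ (Ideal.Quotient.factor_surjective hle)
      rw [ringKrullDim_quotient_of_mem_associatedPrimes hP, hd, hn] at h1
      have : n + (d + 1) ≤ n := by exact_mod_cast h1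
      omega
    have hxm : x ∈ maximalIdeal S := le_maximalIdeal (RingHom.ker_ne_top g) hx
    haveI : LocCoh.IsGorensteinLocalRing (S ⧸ Ideal.span {x}) :=
      (Groth.L21.GorensteinQuotient.isGorensteinLocalRing_quotient_iff S x hxm hxr).1 ‹_›
    have hdim := ringKrullDim_quotient_span_singleton_succ_eq_ringKrullDim_of_mem_nonZeroDivisors hxr hxm
    obtain ⟨k, hk⟩ := Groth.L01.exists_dim_eq_nat (R := S ⧸ Ideal.span {x})
    rw [hk, hd] at hdim
    have hk' : k = n + d := by
      have : k + 1 = n + (d + 1) := by exact_mod_cast hdim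
      omega
    refine ih (S ⧸ Ideal.span {x}) (Ideal.Quotient.lift _ g fun y hy =>
      (Ideal.span_singleton_le_iff_mem _).2 hx hy) (fun r => ?_) (hk' ▸ hk)
    obtain ⟨s, rfl⟩ := hg r
    exact ⟨Ideal.Quotient.mk _ s, rfl⟩

theorem exists_gorenstein_model_of_surjective {R : Type u} [CommRing R] [IsLocalRing R] {n : ℕ}
    (hn : ringKrullDim R = n) {S : Type u} [CommRing S] [LocCoh.IsGorensteinLocalRing S]
    (g : S →+* R) (hg : Function.Surjective g) :
      ∃ (S' : Type u) (_ : CommRing S') (_ : LocCoh.IsGorensteinLocalRing S') (g' : S' →+* R),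
        Function.Surjective g' ∧ ringKrullDim S' = n := by
  obtain ⟨k, hk⟩ := Groth.L01.exists_dim_eq_nat (R := S)
  have : n ≤ k := by
    have := ringKrullDim_le_of_surjective g hg
    rw [hn, hk] at this
    exact_mod_cast this
  obtain ⟨d, rfl⟩ := Nat.exists_eq_add_of_le this
  exact exists_gorenstein_same_dim hn d S g hg hk

theorem exists_gorenstein_model_of_complete (R : Type u) [CommRing R] [IsLocalRing R] [IsNoetherianRing R]
    [IsAdicComplete (maximalIdeal R) R] {n : ℕ} (hn : ringKrullDim R = n) :
      ∃ (S' : Type u) (_ : CommRing S') (_ : LocCoh.IsGorensteinLocalRing S') (g' : S' →+* R),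
        Function.Surjective g' ∧ ringKrullDim S' = n := by
  obtain ⟨S, _, _, φ, hφ⟩ := Groth.L10.FormCat.exists_regular_surjective R
  haveI : LocCoh.IsGorensteinLocalRing S := Groth.Agent.S0342.result S
  exact exists_gorenstein_model_of_surjective hn φ hφ

end Groth.L04.Canon
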