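import Groth.Agent.L04.Canon.TopDual
import Groth.Agent.L04.Canon.GorModel
import Groth.Agent.L04.MatlisCoind
import Groth.Agent.L04.MatlisHull
import Groth.Agent.L04.LC.Change
import Groth.Agent.L04.Essential
import Groth.Agent.L29.Dual.GorensteinRing

/-!
# The canonical module of a quotient of a Gorenstein ring of the same dimension
-/

set_option autoImplicit false
universe u

open IsLocalRing InjHull

noncomputable section

namespace Groth.L04.Canon

variable {S R : Type u} [CommRing S] [CommRing R] [Algebra S R]

variable (hg : Function.Surjective (algebraMap S R))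

include hg

/-- The coinduced module `Hom_S(R, N)`. -/
theorem exists_coind (N : Type u) [AddCommGroup N] [Module S N] :
    ∃ (H : Type u) (_ : AddCommGroup H) (_ : Module S H) (_ : Module R H) (_ : IsScalarTower S R H)
      (ev : H →ₗ[S] N), Function.Bijective (Groth.L04.coindToHom (B := R) ev) := by
  let a := RingHom.ker (algebraMap S R)
  let H := Submodule.torsionBySet S N (a : Set S)
  let φ := (RingHom.quotientKerEquivOfSurjective hg).symm
  letI : Module R H := Module.compHom H φ.toRingHom
  have hsmul : ∀ (r : R) (x : H) (s : S), algebraMap S R s = r → r • x = s • x := fun r x s hs => by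
    show φ r • x = s • x
    rw [← hs, show φ (algebraMap S R s) = Ideal.Quotient.mk a s from
      (RingEquiv.symm_apply_eq _).2 (RingHom.quotientKerEquivOfSurjective_apply_mk hg s).symm]
    rfl
  haveI : IsScalarTower S R H := IsScalarTower.of_algebraMap_smul fun s x => hsmul _ x s rfl
  refine ⟨H, inferInstance, inferInstance, inferInstance, inferInstance, H.subtype, fun x y h => ?_, fun χ => ?_⟩
  · have := LinearMap.congr_fun h 1
    simp only [coindToHom_apply, one_smul] at this
    exact Subtype.ext this
  · refine ⟨⟨χ 1, (Submodule.mem_torsionBySet_iff _ _).2 fun c => ?_⟩, LinearMap.ext fun b => ?_⟩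
    · rw [← map_smul, Algebra.smul_def, mul_one, (RingHom.mem_ker).1 c.2, map_zero]
    · obtain ⟨s, rfl⟩ := hg b
      rw [coindToHom_apply, algebraMap_smul, map_smul, Algebra.algebraMap_eq_smul_one, map_smul]
      rfl

omit hg

variable {N : Type u} [AddCommGroup N] [Module S N] {H : Type u} [AddCommGroup H] [Module S H]
  [Module R H] [IsScalarTower S R H] {ev : H →ₗ[S] N}
  (hev : Function.Bijective (Groth.L04.coindToHom (B := R) ev))

/-- `H = Hom_S(R, N)`. -/
def coindEquiv : H ≃ₗ[S] (R →ₗ[S] N) :=
  LinearEquiv.ofBijective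
    ({ toFun := Groth.L04.coindToHom (B := R) ev
       map_add' := fun a b => LinearMap.ext fun r => by simp [smul_add]
       map_smul' := fun s a => LinearMap.ext fun r => by
         simp [smul_comm r s a] } : H →ₗ[S] (R →ₗ[S] N)) hev

theorem coindEquiv_symm_spec (χ : R →ₗ[S] N) :
    Groth.L04.coindToHom (B := R) ev ((coindEquiv hev).symm χ) = χ :=
  (coindEquiv hev).apply_symm_apply χ

/-- `Hom_R(X, Hom_S(R,N)) = Hom_S(X,N)`. -/
def coindHomEquiv (X : Type u) [AddCommGroup X] [Module S X] [Module R X] [IsScalarTower S R X] :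
    (X →ₗ[R] H) ≃ₗ[S] (X →ₗ[S] N) where
  toFun φ := ev.comp (φ.restrictScalars S)
  map_add' φ ψ := LinearMap.ext fun x => map_add ev _ _
  map_smul' s φ := LinearMap.ext fun x => map_smul ev s _
  invFun χ :=
    { toFun := fun x => (coindEquiv hev).symm (χ.comp ((LinearMap.toSpanSingleton R X x).restrictScalars S))
      map_add' := fun x y => hev.1 (LinearMap.ext fun r => by
        rw [coindEquiv_symm_spec, coindToHom_apply, smul_add, map_add, ← coindToHom_apply, ← coindToHom_apply,
          coindEquiv_symm_spec, coindEquiv_symm_spec]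
        simp [smul_add])
      map_smul' := fun c x => hev.1 (LinearMap.ext fun r => by
        rw [coindEquiv_symm_spec, coindToHom_apply, RingHom.id_apply, smul_smul, ← coindToHom_apply,
          coindEquiv_symm_spec]
        simp [smul_smul]) }
  left_inv φ := LinearMap.ext fun x => hev.1 (by
    refine (coindEquiv_symm_spec hev _).trans (LinearMap.ext fun r => ?_)
    simp [coindToHom_apply])
  right_inv χ := LinearMap.ext fun x => by
    have := LinearMap.congr_fun (coindEquiv_symm_spec hev
      (χ.comp ((LinearMap.toSpanSingleton R X x).restrictScalars S))) 1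
    rw [coindToHom_apply, one_smul] at this
    simp only [LinearMap.comp_apply, LinearMap.coe_restrictScalars, LinearMap.toSpanSingleton_apply, one_smul] at this
    exact this

include hg hev in
theorem exists_isInjectiveHull_coind [IsLocalRing S] [IsNoetherianRing S] [IsLocalRing R] [IsNoetherianRing R]
    {f : ResidueField S →ₗ[S] N} (hf : IsInjectiveHull f) :
    ∃ g : ResidueField R →ₗ[R] H, IsInjectiveHull g := by
  have hinj : Function.Injective ev := fun x y hxy => hev.1 (LinearMap.ext fun r => by
    obtain ⟨s, rfl⟩ := hg r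
    simp [map_smul, hxy])
  haveI := IsLocalHom.of_surjective (algebraMap S R) hg
  have hm : maximalIdeal R = (maximalIdeal S).map (algebraMap S R) :=
    (map_maximalIdeal_of_surjective _ hg).symm
  have htor : LocCoh.IsPowerTorsion (maximalIdeal R) H := fun x => by
    obtain ⟨k, hk⟩ := hull_isPowerTorsion hf (ev x)
    refine ⟨k, fun c hc => hinj ?_⟩
    rw [hm, ← Ideal.map_pow] at hc
    obtain ⟨s, hs, rfl⟩ := (Ideal.mem_map_iff_of_surjective _ hg).1 hc
    rw [algebraMap_smul, map_smul, hk s hs, map_zero]
  refine isInjectiveHull_iff.2 ⟨Groth.L04.coind_injective hev hf.isInjective, htor,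
    Module.length_eq_one_iff.1 ?_⟩
  -- the socle is one dimensional
  have hsurjρ : Function.Surjective (algebraMap S (ResidueField R)) := by
    rw [IsScalarTower.algebraMap_eq S R]
    exact (residue_surjective (R := R)).comp hg
  rw [← Module.length_eq_of_surjective (S := S) hg, (coindHomEquiv hev (ResidueField R)).length_eq]
  let l : ResidueField S →+* ResidueField R := ResidueField.map (algebraMap S R)
  have hl : ∀ x, l (residue S x) = algebraMap S (ResidueField R) x := fun x => by
    rw [IsScalarTower.algebraMap_apply S R (ResidueField R)]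
    rfl
  let e : ResidueField S ≃ₗ[S] ResidueField R := LinearEquiv.ofBijective
    ({ toFun := l, map_add' := map_add l, map_smul' := fun s x => by
        obtain ⟨x, rfl⟩ := residue_surjective x
        show l (residue S (s * x)) = s • l (residue S x)
        rw [Algebra.smul_def, hl, hl, map_mul] } : ResidueField S →ₗ[S] ResidueField R)
    ⟨l.injective, fun y => by
      obtain ⟨s, rfl⟩ := hsurjρ y
      exact ⟨residue S s, hl s⟩⟩
  rw [(e.arrowCongr (LinearEquiv.refl S N)).symm.length_eq]
  exact length_hom_residueField hf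

include hg hev in
/-- Existence statement in the form used for canonical modules. -/
theorem finite_coind [IsNoetherianRing S] [Module.Finite S N] : Module.Finite R H := by
  have hinj : Function.Injective ev := fun x y hxy => hev.1 (LinearMap.ext fun r => by
    obtain ⟨s, rfl⟩ := hg r
    simp [map_smul, hxy])
  haveI : Module.Finite S H := Module.Finite.of_injective ev hinj
  exact Module.Finite.of_restrictScalars_finite S R H

end Groth.L04.Canon

namespace Groth.L04.Canon

variable {S R : Type u} [CommRing S] [CommRing R] [Algebra S R] [LocCoh.IsGorensteinLocalRing S]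
  [IsLocalRing R] [IsNoetherianRing R] (hg : Function.Surjective (algebraMap S R))
  {H : Type u} [AddCommGroup H] [Module S H] [Module R H] [IsScalarTower S R H] {ev : H →ₗ[S] S}
  (hev : Function.Bijective (Groth.L04.coindToHom (B := R) ev))

include hg hev in
/-- `Hom_S(R,S)` is canonical for `R`. -/
theorem nonempty_canon_coind {n : ℕ} (hS : ringKrullDim S = n) {E : Type u} [AddCommGroup E] [Module R E]
    {f : ResidueField R →ₗ[R] E} (hf : IsInjectiveHull f) :
    Nonempty ((H →ₗ[R] E) ≃ₗ[R] LocCoh.H (maximalIdeal R) n R) := by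
  obtain ⟨f', hf'⟩ := Groth.L29.Gorenstein.exists_isInjectiveHull_H_top n hS
  let E' := LocCoh.H (maximalIdeal S) n S
  obtain ⟨Eh, _, _, _, _, ev', hev'⟩ := exists_coind hg E'
  obtain ⟨g, hgh⟩ := exists_isInjectiveHull_coind hg hev' hf'
  obtain ⟨eE, -⟩ := Groth.L04.exists_equiv_of_isInjectiveHull hf hgh
  haveI : Module.Finite S R := Module.Finite.of_surjective (Algebra.linearMap S R) hg
  obtain ⟨eT⟩ := nonempty_top_equiv (K := S) (E := E') (LinearMap.ringLmapEquivSelf S S E')
    hf'.isInjective (Groth.L04.LC.cdLE_of_ringKrullDim_le _ n hS.le) R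
  let eH : H ≃ₗ[S] (R →ₗ[S] S) := coindEquiv hev
  haveI := IsLocalHom.of_surjective (algebraMap S R) hg
  have hres := Groth.L04.LC.exists_H_restrict_equiv (R := S) (R' := R) (maximalIdeal S) n R
  rw [map_maximalIdeal_of_surjective _ hg] at hres
  obtain ⟨φ, hφ⟩ := hres
  let e1 : (H →ₗ[R] Eh) ≃ₗ[S] LocCoh.H (maximalIdeal S) n R :=
    coindHomEquiv hev' H ≪≫ₗ eH.arrowCongr (LinearEquiv.refl S E') ≪≫ₗ eT.symm
  let e2 : (H →ₗ[R] E) ≃ₗ[R] (H →ₗ[R] Eh) := (LinearEquiv.refl R H).arrowCongr eE
  refine ⟨{ ((e2.toAddEquiv.trans e1.toAddEquiv).trans φ.symm) with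
    map_smul' := fun c x => ?_ }⟩
  obtain ⟨s, rfl⟩ := hg c
  show φ.symm (e1 (e2 (algebraMap S R s • x))) = algebraMap S R s • φ.symm (e1 (e2 x))
  apply φ.injective
  rw [AddEquiv.apply_symm_apply, hφ, AddEquiv.apply_symm_apply, map_smul, algebraMap_smul, map_smul]

end Groth.L04.Canon
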