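import Groth.Agent.L04.Canon.Gor
import Groth.Agent.L04.CMLoc
import Groth.Agent.L04.LC.Depth
import Groth.Agent.L04.Matlis

/-!
# Associated primes and annihilator of `Hom_S(C, S)` for a Gorenstein `S` of the same dimension
-/

set_option autoImplicit false
universe u

open IsLocalRing InjHull

noncomputable section

namespace Groth.L04.Canon

/-- `ht p + dim S/p = dim S` in a Cohen–Macaulay local ring. -/
theorem ringKrullDim_quotient_add_height {S : Type u} [CommRing S] [LocCoh.IsCohenMacaulayLocalRing S]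
    (p : Ideal S) [p.IsPrime] :
    ringKrullDim (S ⧸ p) + (p.height : WithBot ℕ∞) = ringKrullDim S := by
  have h1 := Groth.L04.supportDim_eq_add_idealDepth (M := S) (Ideal.IsPrime.ne_top ‹_›)
    (LocCoh.IsCohenMacaulayLocalRing.supportDim_eq_depth (R := S))
  rw [(Groth.L04.isCohenMacaulayRing_iff_height.1 (Groth.L04.isCohenMacaulayRing_of_local S)) p
      (Ideal.IsPrime.ne_top ‹_›),
    Module.supportDim_self_eq_ringKrullDim,
    Module.supportDim_eq_of_equiv (Submodule.quotEquivOfEq _ p (by rw [smul_eq_mul, Ideal.mul_top])),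
    Module.supportDim_quotient_eq_ringKrullDim] at h1
  exact h1.symm

/-- In a Gorenstein local ring of dimension `0`, `ann (ann I) = I`. -/
theorem mem_of_forall_annihilating {A : Type u} [CommRing A] [LocCoh.IsGorensteinLocalRing A]
    (hA : ringKrullDim A = 0) (I : Ideal A) {x : A}
    (hx : ∀ y : A, (∀ i ∈ I, i * y = 0) → x * y = 0) : x ∈ I := by
  obtain ⟨f, hf⟩ := Groth.L29.Gorenstein.exists_isInjectiveHull_H_top (A := A) 0 (by simpa using hA)
  haveI : Ring.KrullDimLE 0 A := Ring.krullDimLE_iff.2 (by simp [hA])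
  haveI : IsArtinianRing A := isArtinianRing_iff_krullDimLE_zero.2 inferInstance
  obtain ⟨k, hk⟩ := (isArtinianRing_iff_isNilpotent_maximalIdeal A).1 inferInstance
  have htop : DRing.torsionSub (maximalIdeal A) A = ⊤ := by
    refine eq_top_iff.2 fun a _ => ⟨k, fun b hb => ?_⟩
    rw [hk] at hb
    rw [(Submodule.mem_bot A).1 hb, zero_smul]
  let e : LocCoh.H (maximalIdeal A) 0 A ≃ₗ[A] A :=
    Groth.L04.LC.H0Equiv (maximalIdeal A) (ModuleCat.of A A) ≪≫ₗ LinearEquiv.ofTop _ htop
  by_contra hxI
  obtain ⟨φ, hφ⟩ := Groth.L04.exists_hom_ne_zero hf (x := Ideal.Quotient.mk I x)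
    (by simpa [Ideal.Quotient.eq_zero_iff_mem] using hxI)
  have hmk : ∀ a : A, Ideal.Quotient.mk I a = a • (1 : A ⧸ I) := fun a => by
    rw [Algebra.smul_def, mul_one]; rfl
  refine hφ (e.injective ?_)
  rw [hmk, map_smul, map_smul, map_zero, smul_eq_mul]
  refine hx _ fun i hi => ?_
  rw [← smul_eq_mul, ← map_smul, ← map_smul, ← hmk, Ideal.Quotient.eq_zero_iff_mem.2 hi, map_zero, map_zero]

variable {S C : Type u} [CommRing S] [CommRing C] [Algebra S C]
  (hg : Function.Surjective (algebraMap S C))
  {H : Type u} [AddCommGroup H] [Module S H] [Module C H] [IsScalarTower S C H] {ev : H →ₗ[S] S}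
  (hev : Function.Bijective (Groth.L04.coindToHom (B := C) ev))

include hg hev in
theorem ev_injective : Function.Injective ev := fun x y hxy =>
  hev.1 (LinearMap.ext fun r => by
    obtain ⟨s, rfl⟩ := hg r
    simp [map_smul, hxy])

include hev in
theorem exists_ev_eq (hg : Function.Surjective (algebraMap S C)) {x : S}
    (hx : ∀ s, algebraMap S C s = 0 → s * x = 0) : ∃ h : H, ev h = x := by
  let χ0 : (S ⧸ LinearMap.ker (Algebra.linearMap S C)) →ₗ[S] S :=
    (LinearMap.ker (Algebra.linearMap S C)).liftQ (LinearMap.toSpanSingleton S S x) fun s hs =>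
      LinearMap.mem_ker.2 (by simpa using hx s hs)
  let q := (Algebra.linearMap S C).quotKerEquivOfSurjective hg
  refine ⟨(coindEquiv hev).symm (χ0 ∘ₗ q.symm.toLinearMap), ?_⟩
  have h := LinearMap.congr_fun (coindEquiv_symm_spec hev (χ0 ∘ₗ q.symm.toLinearMap)) 1
  rw [Groth.L04.coindToHom_apply, one_smul] at h
  rw [h]
  have h1 : q (Submodule.Quotient.mk 1) = 1 :=
    (LinearMap.quotKerEquivOfSurjective_apply_mk (Algebra.linearMap S C) hg 1).trans (map_one (algebraMap S C))
  rw [LinearMap.comp_apply, LinearEquiv.coe_coe, ← h1, LinearEquiv.symm_apply_apply, Submodule.liftQ_apply,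
    LinearMap.toSpanSingleton_apply, one_smul]

variable [LocCoh.IsGorensteinLocalRing S]

include hg in
theorem ringKrullDim_quotient_comap (P : Ideal C) :
    ringKrullDim (S ⧸ P.comap (algebraMap S C)) = ringKrullDim (C ⧸ P) :=
  ringKrullDim_eq_of_ringEquiv (RingEquiv.ofBijective (Ideal.quotientMap P (algebraMap S C) le_rfl)
    ⟨Ideal.quotientMap_injective, Ideal.quotientMap_surjective hg⟩)

include hg in
theorem height_comap_eq_zero {n : ℕ} (hS : ringKrullDim S = n) (P : Ideal C) [P.IsPrime]
    (hP : ringKrullDim (C ⧸ P) = n) : (P.comap (algebraMap S C)).height = 0 := by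
  haveI : LocCoh.IsCohenMacaulayLocalRing S := Groth.Agent.S0341.result S
  have h := ringKrullDim_quotient_add_height (P.comap (algebraMap S C))
  rw [ringKrullDim_quotient_comap hg, hP, hS] at h
  generalize (P.comap (algebraMap S C)).height = a at h
  induction a using ENat.recTopCoe with
  | top =>
    have : ((n : ℕ∞) + ⊤ : ℕ∞) = n := by exact_mod_cast h
    simp at this
  | coe k =>
    have : n + k = n := by exact_mod_cast h
    exact_mod_cast (by omega : k = 0)

include hg hev in
/-- The associated primes of `Hom_S(C,S)` are the primes `P` with `dim C/P = n`. -/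
theorem associatedPrimes_coind [IsNoetherianRing C] {n : ℕ} (hS : ringKrullDim S = n) :
    associatedPrimes C H = {P : Ideal C | P.IsPrime ∧ ringKrullDim (C ⧸ P) = n} := by
  haveI : LocCoh.IsCohenMacaulayLocalRing S := Groth.Agent.S0341.result S
  have hinj := ev_injective hg hev
  ext P
  constructor
  · intro h
    obtain ⟨hP, x, hx⟩ := isAssociatedPrime_iff.1 h
    have hQ : P.comap (algebraMap S C) ∈ associatedPrimes S S := by
      refine isAssociatedPrime_iff.2 ⟨Ideal.IsPrime.comap _, ev x, Ideal.ext fun s => ?_⟩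
      rw [Ideal.mem_comap, hx, Submodule.mem_colon_singleton, Submodule.mem_colon_singleton,
        Submodule.mem_bot, Submodule.mem_bot, algebraMap_smul, ← map_smul, map_eq_zero_iff ev hinj]
    exact ⟨hP, by rw [← ringKrullDim_quotient_comap hg, ringKrullDim_quotient_of_mem_associatedPrimes hQ, hS]⟩
  · rintro ⟨hP, hdim⟩
    have hmin : P.comap (algebraMap S C) ∈ minimalPrimes S :=
      Ideal.height_eq_zero_iff.1 (height_comap_eq_zero hg hS P hdim)
    have hass : IsAssociatedPrime (P.comap (algebraMap S C)) S := by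
      refine Module.associatedPrimes.minimalPrimes_annihilator_subset_associatedPrimes S S ?_
      rwa [Module.annihilator_eq_bot.2 inferInstance]
    obtain ⟨-, x, hx⟩ := isAssociatedPrime_iff.1 hass
    obtain ⟨h, rfl⟩ := exists_ev_eq hev hg (x := x) fun s hs => by
      have h1 : s ∈ P.comap (algebraMap S C) := by rw [Ideal.mem_comap, hs]; exact P.zero_mem
      rw [hx, Submodule.mem_colon_singleton, Submodule.mem_bot, smul_eq_mul] at h1
      exact h1
    refine isAssociatedPrime_iff.2 ⟨hP, h, Ideal.ext fun c => ?_⟩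
    obtain ⟨s, rfl⟩ := hg c
    rw [← Ideal.mem_comap, hx, Submodule.mem_colon_singleton, Submodule.mem_colon_singleton,
      Submodule.mem_bot, Submodule.mem_bot, algebraMap_smul, ← map_smul, map_eq_zero_iff ev hinj]

include hg hev in
/-- What kills `Hom_S(C,S)` vanishes at the primes `P` with `dim C/P = n`. -/
theorem exists_notMem_mul_eq_zero {n : ℕ} (hS : ringKrullDim S = n) {c : C} (hc : ∀ x : H, c • x = 0)
    (P : Ideal C) [P.IsPrime] (hP : ringKrullDim (C ⧸ P) = n) : ∃ v, v ∉ P ∧ v * c = 0 := by
  obtain ⟨s, rfl⟩ := hg c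
  set Q := P.comap (algebraMap S C) with hQdef
  have hh : Q.height = 0 := height_comap_eq_zero hg hS P hP
  haveI := (Groth.L29.Gorenstein.finite_injdim_self_iff.1
    (LocCoh.IsGorensteinLocalRing.exists_hasInjectiveDimensionLT (A := S))).1.isGorensteinLocalRing_localization Q
  let A := Localization.AtPrime Q
  have hA : ringKrullDim A = 0 := by
    rw [IsLocalization.AtPrime.ringKrullDim_eq_height Q A, hh]; rfl
  let a := RingHom.ker (algebraMap S C)
  obtain ⟨T, hT⟩ := (IsNoetherian.noetherian a : a.FG)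
  have key : algebraMap S A s ∈ a.map (algebraMap S A) := by
    refine mem_of_forall_annihilating hA _ fun y hy => ?_
    obtain ⟨⟨y₀, t⟩, rfl⟩ := IsLocalization.mk'_surjective Q.primeCompl y
    have h2 : ∀ g : T, ∃ w : Q.primeCompl, (w : S) * (g.1 * y₀) = 0 := fun g => by
      have h0 := hy (algebraMap S A g.1)
        (Ideal.mem_map_of_mem _ (show g.1 ∈ a by rw [← hT]; exact Submodule.subset_span g.2))
      rw [IsLocalization.mul_mk'_eq_mk'_of_mul, IsLocalization.mk'_eq_zero_iff] at h0
      exact h0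
    choose w hw using h2
    set W : Q.primeCompl := ∏ g : T, w g with hW
    obtain ⟨h, hh'⟩ := exists_ev_eq hev hg (x := (W : S) * y₀) fun r hr => by
      have hr' : r ∈ Ideal.span (T : Set S) := by
        rw [← Ideal.submodule_span_eq, hT]
        exact hr
      have hsub : (T : Set S) ⊆
          ((LinearMap.ker (LinearMap.toSpanSingleton S S ((W : S) * y₀)) : Ideal S) : Set S) := fun g hgT => by
        rw [SetLike.mem_coe, LinearMap.mem_ker, LinearMap.toSpanSingleton_apply, smul_eq_mul]
        obtain ⟨d, hd⟩ := Finset.dvd_prod_of_mem (fun g : T => (w g : S)) (Finset.mem_univ ⟨g, hgT⟩)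
        rw [hW, Submonoid.coe_finsetProd, hd,
          show g * ((w ⟨g, hgT⟩ : S) * d * y₀) = d * ((w ⟨g, hgT⟩ : S) * (g * y₀)) by ring, hw, mul_zero]
      simpa using Ideal.span_le.2 hsub hr'
    have h3 : s * ((W : S) * y₀) = 0 := by
      have h3 := congrArg ev (hc h)
      rwa [algebraMap_smul, map_smul, map_zero, hh', smul_eq_mul] at h3
    rw [IsLocalization.mul_mk'_eq_mk'_of_mul, IsLocalization.mk'_eq_zero_iff]
    exact ⟨W, by rw [← h3]; ring⟩
  obtain ⟨v, hv, hva⟩ := (IsLocalization.algebraMap_mem_map_algebraMap_iff Q.primeCompl A a s).1 key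
  exact ⟨algebraMap S C v, fun h => hv h, by rw [← map_mul]; exact hva⟩

end Groth.L04.Canon
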