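import Groth.Agent.L04.Canon.CMProps
import Groth.Agent.L04.Canon.Gor
import Groth.Agent.L04.Canon.GorProps
import Groth.Agent.L04.LC.ExtLoc
import Groth.Agent.L04.LC.Nonvanish
import Groth.Agent.L04.MatlisBC
import Groth.Agent.L01.NagataComplete

/-!
# The Matlis dual of local cohomology over a complete local ring
-/

set_option autoImplicit false
universe u

open CategoryTheory CategoryTheory.Abelian IsLocalRing InjHull TensorProduct

noncomputable section

namespace Groth.L04.Canon

open Groth.L10.FormCat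

section Restrict

variable {S C : Type u} [CommRing S] [CommRing C] [Algebra S C] (hg : Function.Surjective (algebraMap S C))
  {N : Type u} [AddCommGroup N] [Module S N] [Module C N] [IsScalarTower S C N]

include hg in
theorem ringKrullDim_quotient_comap' (P : Ideal C) :
    ringKrullDim (S ⧸ P.comap (algebraMap S C)) = ringKrullDim (C ⧸ P) :=
  ringKrullDim_eq_of_ringEquiv (RingEquiv.ofBijective (Ideal.quotientMap P (algebraMap S C) le_rfl)
    ⟨Ideal.quotientMap_injective, Ideal.quotientMap_surjective hg⟩)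

include hg in
theorem supportDim_restrict [Module.Finite C N] :
    Module.supportDim S N = Module.supportDim C N := by
  haveI : Module.Finite S C := Module.Finite.of_surjective (Algebra.linearMap S C) hg
  haveI : Module.Finite S N := Module.Finite.trans C N
  rw [Module.supportDim_eq_ringKrullDim_quotient_annihilator,
    Module.supportDim_eq_ringKrullDim_quotient_annihilator, ← ringKrullDim_quotient_comap' hg]
  refine ringKrullDim_eq_of_ringEquiv (Ideal.quotEquivOfEq (Ideal.ext fun s => ?_))
  simp [Ideal.mem_comap, Module.mem_annihilator, algebraMap_smul]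

include hg in
theorem mem_associatedPrimes_restrict [IsNoetherianRing S] [IsNoetherianRing C] (p : Ideal S) :
    p ∈ associatedPrimes S N ↔ ∃ P ∈ associatedPrimes C N, P.comap (algebraMap S C) = p := by
  constructor
  · intro h
    obtain ⟨hp, x, hx⟩ := isAssociatedPrime_iff.1 h
    have hker : RingHom.ker (algebraMap S C) ≤ p := fun s hs => by
      rw [hx, Submodule.mem_colon_singleton, Submodule.mem_bot, ← algebraMap_smul C, (RingHom.mem_ker).1 hs,
        zero_smul]
    haveI := Ideal.map_isPrime_of_surjective hg hker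
    have heq : (p.map (algebraMap S C)).comap (algebraMap S C) = p := by
      rw [Ideal.comap_map_of_surjective' _ hg, sup_eq_left]
      exact hker
    refine ⟨_, isAssociatedPrime_iff.2 ⟨inferInstance, x, Ideal.ext fun c => ?_⟩, heq⟩
    obtain ⟨s, rfl⟩ := hg c
    rw [← Ideal.mem_comap, heq, hx, Submodule.mem_colon_singleton, Submodule.mem_colon_singleton,
      Submodule.mem_bot, Submodule.mem_bot, algebraMap_smul]
  · rintro ⟨P, hP, rfl⟩
    obtain ⟨hP, x, hx⟩ := isAssociatedPrime_iff.1 hP
    refine isAssociatedPrime_iff.2 ⟨Ideal.IsPrime.comap _, x, Ideal.ext fun s => ?_⟩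
    rw [Ideal.mem_comap, hx, Submodule.mem_colon_singleton, Submodule.mem_colon_singleton,
      Submodule.mem_bot, Submodule.mem_bot, algebraMap_smul]

theorem mem_support_restrict (P : PrimeSpectrum C) (hg : Function.Surjective (algebraMap S C)) :
    (⟨P.asIdeal.comap (algebraMap S C), inferInstance⟩ : PrimeSpectrum S) ∈ Module.support S N ↔
      P ∈ Module.support C N := by
  rw [Module.mem_support_iff', Module.mem_support_iff']
  refine exists_congr fun m => ⟨fun h c hc => ?_, fun h s hs => ?_⟩
  · obtain ⟨s, rfl⟩ := hg c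
    rw [algebraMap_smul]
    exact h s hc
  · rw [← algebraMap_smul C]
    exact h _ hs

end Restrict

section DualRestrict

variable {S C : Type u} [CommRing S] [IsLocalRing S] [IsNoetherianRing S] [CommRing C] [IsLocalRing C]
  [IsNoetherianRing C] [Algebra S C] (hg : Function.Surjective (algebraMap S C))
  {ES : Type u} [AddCommGroup ES] [Module S ES] {fS : ResidueField S →ₗ[S] ES} (hfS : IsInjectiveHull fS)
  {EC : Type u} [AddCommGroup EC] [Module S EC] [Module C EC] [IsScalarTower S C EC]
  {fC : ResidueField C →ₗ[C] EC} (hfC : IsInjectiveHull fC)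

include hg hfS hfC in
/-- `Hom_C(X, E_C) = Hom_S(X, E_S)`. -/
theorem nonempty_dual_restrict (X : Type u) [AddCommGroup X] [Module S X] [Module C X] [IsScalarTower S C X] :
    Nonempty ((X →ₗ[C] EC) ≃ₗ[S] (X →ₗ[S] ES)) := by
  obtain ⟨Eh, _, _, _, _, ev, hev⟩ := exists_coind (R := C) hg ES
  obtain ⟨g, hgh⟩ := exists_isInjectiveHull_coind hg hev hfS
  obtain ⟨eE, -⟩ := Groth.L04.exists_equiv_of_isInjectiveHull hfC hgh
  exact ⟨((LinearEquiv.refl C X).arrowCongr eE).restrictScalars S ≪≫ₗ coindHomEquiv hev X⟩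

include hg hfS hfC in
/-- The dual of local cohomology does not depend on the ring. -/
theorem nonempty_dual_H_restrict (i : ℕ) (M : Type u) [AddCommGroup M] [Module S M] [Module C M]
    [IsScalarTower S C M] :
    Nonempty ((LocCoh.H (maximalIdeal C) i M →ₗ[C] EC) ≃ₗ[S] (LocCoh.H (maximalIdeal S) i M →ₗ[S] ES)) := by
  have hres := Groth.L04.LC.exists_H_restrict_equiv (R := S) (R' := C) (maximalIdeal S) i M
  haveI := IsLocalHom.of_surjective (algebraMap S C) hg
  rw [map_maximalIdeal_of_surjective _ hg] at hres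
  obtain ⟨φ, hφ⟩ := hres
  letI : Module S (LocCoh.H (maximalIdeal C) i M) := Module.compHom _ (algebraMap S C)
  haveI : IsScalarTower S C (LocCoh.H (maximalIdeal C) i M) := IsScalarTower.of_algebraMap_smul fun _ _ => rfl
  let φ' : LocCoh.H (maximalIdeal C) i M ≃ₗ[S] LocCoh.H (maximalIdeal S) i M :=
    { φ with map_smul' := fun s x => hφ s x }
  obtain ⟨e⟩ := nonempty_dual_restrict hg hfS hfC (LocCoh.H (maximalIdeal C) i M)
  exact ⟨e ≪≫ₗ φ'.arrowCongr (LinearEquiv.refl S ES)⟩

include hg hfS hfC in
/-- Biduality for modules over a complete quotient. -/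
theorem nonempty_bidual_of_complete [IsAdicComplete (maximalIdeal C) C] (X : Type u) [AddCommGroup X]
    [Module S X] [Module C X] [IsScalarTower S C X] [Module.Finite C X] :
    Nonempty (((X →ₗ[S] ES) →ₗ[S] ES) ≃ₗ[S] X) := by
  obtain ⟨e1⟩ := nonempty_dual_restrict hg hfS hfC X
  obtain ⟨e2⟩ := nonempty_dual_restrict hg hfS hfC (X →ₗ[C] EC)
  obtain ⟨b⟩ := nonempty_bidual_equiv hfC X
  let c : AdicCompletion (maximalIdeal C) C ⊗[C] X ≃ₗ[C] X :=
    (TensorProduct.congr (AdicCompletion.ofLinearEquiv (maximalIdeal C) C) (LinearEquiv.refl C X)).symm ≪≫ₗ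
      TensorProduct.lid C X
  exact ⟨e1.symm.arrowCongr (LinearEquiv.refl S ES) |>.trans e2.symm |>.trans
    ((b.symm ≪≫ₗ c).restrictScalars S)⟩

end DualRestrict

section Gorenstein

theorem smul_ext_eq_zero {S : Type u} [CommRing S] {M N : Type u} [AddCommGroup M] [Module S M]
    [AddCommGroup N] [Module S N] {r : S} (hr : ∀ m : M, r • m = 0) {k : ℕ}
    (x : Ext (ModuleCat.of S M) (ModuleCat.of S N) k) : r • x = 0 := by
  have h0 : r • 𝟙 (ModuleCat.of S M) = 0 := ModuleCat.hom_ext (LinearMap.ext hr)
  rw [← Ext.mk₀_id_comp x, ← Ext.smul_comp, ← Ext.mk₀_smul, h0, Ext.mk₀_zero, Ext.zero_comp]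

variable {S : Type u} [CommRing S] [LocCoh.IsGorensteinLocalRing S] {n : ℕ} (hS : ringKrullDim S = n)
  (M : Type u) [AddCommGroup M] [Module S M] [Module.Finite S M]

include hS in
theorem ext_duality_gorenstein : ∃ (E : Type u) (_ : AddCommGroup E) (_ : Module S E)
    (f : ResidueField S →ₗ[S] E), IsInjectiveHull f ∧ ∀ i : ℕ,
      (i ≤ n → Nonempty (LocCoh.H (maximalIdeal S) (n - i) M ≃ₗ[S]
        (Ext (ModuleCat.of S M) (ModuleCat.of S S) i →ₗ[S] E))) ∧
      (n < i → Subsingleton (Ext (ModuleCat.of S M) (ModuleCat.of S S) i)) := by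
  haveI : LocCoh.IsCohenMacaulayLocalRing S := Groth.Agent.S0341.result S
  obtain ⟨f, hf⟩ := Groth.L29.Gorenstein.exists_isInjectiveHull_H_top (A := S) n hS
  exact ⟨_, _, _, f, hf, fun i =>
    ext_duality_CM hS hf (LinearMap.ringLmapEquivSelf S S (LocCoh.H (maximalIdeal S) n S)) i M⟩

include hS in
theorem mem_support_ext_le (i : ℕ) (Q : PrimeSpectrum S)
    (hQ : Q ∈ Module.support S (Ext (ModuleCat.of S M) (ModuleCat.of S S) i)) : qd Q + i ≤ n := by
  haveI : LocCoh.IsCohenMacaulayLocalRing S := Groth.Agent.S0341.result S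
  haveI := Q.isPrime
  haveI : LocCoh.IsGorensteinLocalRing (Localization.AtPrime Q.asIdeal) :=
    (Groth.L29.Gorenstein.finite_injdim_self_iff.1
      (LocCoh.IsGorensteinLocalRing.exists_hasInjectiveDimensionLT (A := S))).1.isGorensteinLocalRing_localization _
  have h2 := ringKrullDim_quotient_add_height Q.asIdeal
  rw [dim_quot, hS] at h2
  obtain ⟨h0, hh0⟩ := ENat.ne_top_iff_exists.1 (Ideal.height_ne_top_of_isPrime (I := Q.asIdeal))
  rw [← hh0] at h2
  have h2' : qd Q + h0 = n := by exact_mod_cast h2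
  by_contra hlt
  have hd : ringKrullDim (Localization.AtPrime Q.asIdeal) = h0 := by
    rw [IsLocalization.AtPrime.ringKrullDim_eq_height Q.asIdeal, ← hh0]; rfl
  obtain ⟨E, _, _, f, -, hE⟩ := ext_duality_gorenstein hd (LocalizedModule Q.asIdeal.primeCompl M)
  obtain ⟨e⟩ := Groth.L04.LC.nonempty_localized_ext_equiv Q.asIdeal.primeCompl i M S
  haveI : Subsingleton (Ext (ModuleCat.of (Localization.AtPrime Q.asIdeal) (LocalizedModule Q.asIdeal.primeCompl M))
      (ModuleCat.of (Localization.AtPrime Q.asIdeal) (Localization.AtPrime Q.asIdeal)) i) := (hE i).2 (by omega)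
  exact (Module.notMem_support_iff.2 e.toEquiv.subsingleton) hQ

include hS in
theorem mem_associatedPrimes_hom_iff (Q : Ideal S) :
    Q ∈ associatedPrimes S (M →ₗ[S] S) ↔
      ∃ h : Q.IsPrime, ringKrullDim (S ⧸ Q) = n ∧ (⟨Q, h⟩ : PrimeSpectrum S) ∈ Module.support S M := by
  haveI : LocCoh.IsCohenMacaulayLocalRing S := Groth.Agent.S0341.result S
  constructor
  · intro h
    obtain ⟨hQ, φ, hφ⟩ := isAssociatedPrime_iff.1 h
    obtain ⟨k, s, hs⟩ := Submodule.fg_iff_exists_fin_generating_family.1 (Module.Finite.fg_top (R := S) (M := M))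
    have hle : Finset.univ.inf (fun j => Submodule.colon (⊥ : Submodule S S) {φ (s j)}) ≤ Q := fun r hr => by
      rw [hφ, Submodule.mem_colon_singleton, Submodule.mem_bot]
      refine LinearMap.ext_on_range hs fun j => ?_
      have := (Submodule.mem_finsetInf).1 hr j (Finset.mem_univ j)
      rw [Submodule.mem_colon_singleton, Submodule.mem_bot] at this
      simpa using this
    obtain ⟨j, -, hj⟩ := (Ideal.IsPrime.inf_le' hQ).1 hle
    have heq : Q = Submodule.colon (⊥ : Submodule S S) {φ (s j)} := le_antisymm (fun r hr => by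
      rw [hφ, Submodule.mem_colon_singleton, Submodule.mem_bot] at hr
      rw [Submodule.mem_colon_singleton, Submodule.mem_bot]
      simpa using LinearMap.congr_fun hr (s j)) hj
    have hass : Q ∈ associatedPrimes S S := isAssociatedPrime_iff.2 ⟨hQ, _, heq⟩
    refine ⟨hQ, (ringKrullDim_quotient_of_mem_associatedPrimes hass).trans hS,
      Module.mem_support_iff'.2 ⟨s j, fun r hr h0 => hr ?_⟩⟩
    show r ∈ Q
    rw [heq, Submodule.mem_colon_singleton, Submodule.mem_bot, ← map_smul, h0, map_zero]
  · rintro ⟨hQ, hdim, hsupp⟩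
    haveI := hQ
    haveI : LocCoh.IsGorensteinLocalRing (Localization.AtPrime Q) :=
      (Groth.L29.Gorenstein.finite_injdim_self_iff.1
        (LocCoh.IsGorensteinLocalRing.exists_hasInjectiveDimensionLT (A := S))).1.isGorensteinLocalRing_localization _
    have hht : Q.height = 0 := by
      have h2 := ringKrullDim_quotient_add_height Q
      obtain ⟨h0, hh0⟩ := ENat.ne_top_iff_exists.1 (Ideal.height_ne_top_of_isPrime (I := Q))
      rw [hdim, hS, ← hh0] at h2
      have : n + h0 = n := by exact_mod_cast h2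
      rw [← hh0]
      exact_mod_cast (by omega : h0 = 0)
    have hd : ringKrullDim (Localization.AtPrime Q) = (0 : ℕ) := by
      rw [IsLocalization.AtPrime.ringKrullDim_eq_height Q, hht]; rfl
    obtain ⟨E, _, _, f, -, hE⟩ := ext_duality_gorenstein hd (LocalizedModule Q.primeCompl M)
    obtain ⟨e'⟩ := (hE 0).1 le_rfl
    haveI : Nontrivial (LocalizedModule Q.primeCompl M) := hsupp
    have hsd : Module.supportDim (Localization.AtPrime Q) (LocalizedModule Q.primeCompl M) = (0 : ℕ) :=
      le_antisymm ((Module.supportDim_le_ringKrullDim _ _).trans hd.le)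
        (le_trans (by exact_mod_cast zero_le) (Groth.L04.depth_le_supportDim (R := Localization.AtPrime Q)))
    haveI := Groth.L04.LC.nontrivial_H_supportDim (LocalizedModule Q.primeCompl M) 0 hsd
    obtain ⟨e⟩ := Groth.L04.LC.nonempty_localized_ext_equiv Q.primeCompl 0 M S
    have hsuppX : (⟨Q, hQ⟩ : PrimeSpectrum S) ∈ Module.support S (Ext (ModuleCat.of S M) (ModuleCat.of S S) 0) := by
      by_contra hX
      rw [Module.notMem_support_iff] at hX
      haveI : Subsingleton (Ext (ModuleCat.of (Localization.AtPrime Q) (LocalizedModule Q.primeCompl M))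
          (ModuleCat.of (Localization.AtPrime Q) (Localization.AtPrime Q)) 0) := by
        haveI := e.symm.toEquiv.subsingleton
        exact inferInstanceAs (Subsingleton (Ext (ModuleCat.of (Localization Q.primeCompl) (LocalizedModule Q.primeCompl M))
          (ModuleCat.of (Localization Q.primeCompl) (LocalizedModule Q.primeCompl S)) 0))
      exact not_subsingleton _ ((e'.toEquiv.subsingleton_congr).2
        ⟨fun a b => LinearMap.ext fun x => by rw [Subsingleton.elim x 0, map_zero, map_zero]⟩)
    have hsuppH : (⟨Q, hQ⟩ : PrimeSpectrum S) ∈ Module.support S (M →ₗ[S] S) := by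
      rwa [(homEquivExt (R := S) (K := S) M).support_eq]
    refine Module.associatedPrimes.minimalPrimes_annihilator_subset_associatedPrimes S (M →ₗ[S] S)
      ⟨⟨hQ, Module.annihilator_le_of_mem_support hsuppH⟩, fun q ⟨hq, _⟩ hqQ => ?_⟩
    have hmin := Ideal.height_eq_zero_iff.1 hht
    exact hmin.2 ⟨hq, bot_le⟩ hqQ

end Gorenstein

/-- Structure of `Hom(H^i_m(M), E)` over a complete local ring. -/
theorem dual_H_props {C : Type u} [CommRing C] [IsLocalRing C] [IsNoetherianRing C]
    [IsAdicComplete (maximalIdeal C) C] {n : ℕ} (hn : ringKrullDim C = n)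
    {E : Type u} [AddCommGroup E] [Module C E] {f : ResidueField C →ₗ[C] E} (hf : IsInjectiveHull f)
    (M : Type u) [AddCommGroup M] [Module C M] [Module.Finite C M] :
    (∀ i : ℕ, Module.Finite C (LocCoh.H (maximalIdeal C) i M →ₗ[C] E) ∧
      Module.supportDim C (LocCoh.H (maximalIdeal C) i M →ₗ[C] E) ≤ (i : WithBot ℕ∞)) ∧
    associatedPrimes C (LocCoh.H (maximalIdeal C) n M →ₗ[C] E) =
      {P : Ideal C | P ∈ associatedPrimes C M ∧ ringKrullDim (C ⧸ P) = n} := by
  obtain ⟨S, _, _, φ, hφ, hS⟩ := exists_gorenstein_model_of_complete C hn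
  letI : Algebra S C := φ.toAlgebra
  have hg : Function.Surjective (algebraMap S C) := hφ
  haveI : Module.Finite S C := Module.Finite.of_surjective (Algebra.linearMap S C) hg
  letI : Module S M := Module.compHom M (algebraMap S C)
  haveI : IsScalarTower S C M := IsScalarTower.of_algebraMap_smul fun _ _ => rfl
  haveI : Module.Finite S M := Module.Finite.trans C M
  letI : Module S E := Module.compHom E (algebraMap S C)
  haveI : IsScalarTower S C E := IsScalarTower.of_algebraMap_smul fun _ _ => rfl
  obtain ⟨ES, _, _, fS, hfS, hdual⟩ := ext_duality_gorenstein hS M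
  have hex : ∀ i : ℕ, i ≤ n → Nonempty ((LocCoh.H (maximalIdeal C) i M →ₗ[C] E) ≃ₗ[S]
      Ext (ModuleCat.of S M) (ModuleCat.of S S) (n - i)) := fun i hi => by
    obtain ⟨e⟩ := nonempty_dual_H_restrict hg hfS hf i M
    obtain ⟨d⟩ := (hdual (n - i)).1 (Nat.sub_le n i)
    rw [show n - (n - i) = i by omega] at d
    let X := Ext (ModuleCat.of S M) (ModuleCat.of S S) (n - i)
    have hkill : ∀ r ∈ RingHom.ker (algebraMap S C), ∀ x : X, r • x = 0 := fun r hr x =>
      smul_ext_eq_zero (fun m => by
        show algebraMap S C r • m = 0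
        rw [(RingHom.mem_ker).1 hr, zero_smul]) x
    letI : Module (S ⧸ RingHom.ker (algebraMap S C)) X :=
      Module.IsTorsionBySet.module (fun x r => hkill r.1 r.2 x : Module.IsTorsionBySet S X (RingHom.ker (algebraMap S C) : Set S))
    let ψ := (RingHom.quotientKerEquivOfSurjective hg).symm.toRingHom
    letI : Module C X := Module.compHom X ψ
    haveI : IsScalarTower S C X := IsScalarTower.of_algebraMap_smul fun s x => by
      show ψ (algebraMap S C s) • x = s • x
      rw [show ψ (algebraMap S C s) = Ideal.Quotient.mk _ s from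
        (RingEquiv.symm_apply_eq _).2 (RingHom.quotientKerEquivOfSurjective_apply_mk hg s).symm]
      rfl
    haveI : Module.Finite S X := inferInstance
    haveI : Module.Finite C X := Module.Finite.of_restrictScalars_finite S C X
    obtain ⟨b⟩ := nonempty_bidual_of_complete hg hfS hf X
    exact ⟨e ≪≫ₗ d.arrowCongr (LinearEquiv.refl S ES) ≪≫ₗ b⟩
  have hfin : ∀ i, Module.Finite C (LocCoh.H (maximalIdeal C) i M →ₗ[C] E) := fun i => by
    rcases le_or_gt i n with hi | hi
    · obtain ⟨e⟩ := hex i hi
      haveI : Module.Finite S (LocCoh.H (maximalIdeal C) i M →ₗ[C] E) := Module.Finite.equiv e.symm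
      exact Module.Finite.of_restrictScalars_finite S C _
    · haveI := Groth.L04.LC.subsingleton_H_of_supportDim_lt (maximalIdeal C) M i
        (((Module.supportDim_le_ringKrullDim C M).trans hn.le).trans_lt (by exact_mod_cast hi))
      haveI : Subsingleton (LocCoh.H (maximalIdeal C) i M →ₗ[C] E) :=
        ⟨fun a b => LinearMap.ext fun x => by rw [Subsingleton.elim x 0, map_zero, map_zero]⟩
      infer_instance
  refine ⟨fun i => ⟨hfin i, ?_⟩, ?_⟩
  · haveI := hfin i
    rcases le_or_gt i n with hi | hi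
    · obtain ⟨e⟩ := hex i hi
      rw [← supportDim_restrict hg, Module.supportDim_eq_of_equiv e]
      by_contra hlt
      obtain ⟨Q, hQ, hd⟩ := exists_mem_le_qd (n := i + 1) _ (show ((i + 1 : ℕ) : WithBot ℕ∞) ≤
          Module.supportDim S (Ext (ModuleCat.of S M) (ModuleCat.of S S) (n - i)) by
        push_cast
        exact ENat.WithBot.add_one_le_iff.2 (not_le.1 hlt))
      have := mem_support_ext_le hS M (n - i) Q hQ
      omega
    · exact ((Module.supportDim_le_ringKrullDim C _).trans hn.le).trans (by exact_mod_cast hi.le)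
  · obtain ⟨e⟩ := hex n le_rfl
    rw [Nat.sub_self] at e
    ext P
    have hiff : ∀ Q : Ideal S, Q ∈ associatedPrimes S (LocCoh.H (maximalIdeal C) n M →ₗ[C] E) ↔
        ∃ h : Q.IsPrime, ringKrullDim (S ⧸ Q) = n ∧ (⟨Q, h⟩ : PrimeSpectrum S) ∈ Module.support S M := fun Q => by
      rw [← mem_associatedPrimes_hom_iff hS M Q]
      exact (e ≪≫ₗ (homEquivExt (R := S) (K := S) M).symm).isAssociatedPrime_iff
    constructor
    · intro hP
      obtain ⟨hP1, hd, hsupp⟩ := (hiff _).1 ((mem_associatedPrimes_restrict hg _).2 ⟨P, hP, rfl⟩)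
      haveI := hP.isPrime
      rw [ringKrullDim_quotient_comap' hg] at hd
      have hsC := (mem_support_restrict (⟨P, inferInstance⟩ : PrimeSpectrum C) hg).1 hsupp
      refine ⟨Module.associatedPrimes.minimalPrimes_annihilator_subset_associatedPrimes C M
        ⟨⟨inferInstance, Module.annihilator_le_of_mem_support hsC⟩, fun q ⟨hq, _⟩ hqP => ?_⟩, hd⟩
      have hq' := (qd_eq_iff (⟨P, inferInstance⟩ : PrimeSpectrum C) n).1 hd
      exact (congrArg PrimeSpectrum.asIdeal (eq_of_le_of_qd (p := ⟨q, hq⟩) (q := ⟨P, inferInstance⟩) hqP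
        (by rw [hq']; exact qd_le hn _))).ge
    · rintro ⟨hP, hd⟩
      obtain ⟨hPp, x, hx⟩ := isAssociatedPrime_iff.1 hP
      haveI := hPp
      have hsC : (⟨P, hPp⟩ : PrimeSpectrum C) ∈ Module.support C M :=
        Module.mem_support_iff'.2 ⟨x, fun c hc h0 => hc (by
          show c ∈ P; rw [hx, Submodule.mem_colon_singleton, Submodule.mem_bot]; exact h0)⟩
      obtain ⟨P', hP', heq⟩ := (mem_associatedPrimes_restrict hg _).1 ((hiff (P.comap (algebraMap S C))).2
        ⟨inferInstance, (ringKrullDim_quotient_comap' hg P).trans hd, (mem_support_restrict _ hg).2 hsC⟩)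
      rwa [Ideal.comap_injective_of_surjective _ hg heq] at hP'

end Groth.L04.Canon
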