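import Groth.Agent.L04.Canon.CMProps
import Groth.Agent.L04.Canon.TopDualAss
import Groth.Agent.S0342
import Groth.Agent.L04.CMBasic
import Mathlib.LinearAlgebra.FiniteDimensional.Basic
import Mathlib.RingTheory.UniqueFactorizationDomain.Basic

/-!
# The canonical module of a Cohen–Macaulay quotient domain as an ideal
-/

set_option autoImplicit false
universe u

open CategoryTheory Abelian IsLocalRing InjHull

noncomputable section

namespace Groth.L04.Canon

open Groth.L04.LC

/-- A nonzero functional on a finite torsion-free module over a domain. -/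
theorem exists_hom_ne_zero_of_domain {A : Type u} [CommRing A] [IsDomain A] (K : Type u) [AddCommGroup K]
    [Module A K] [Module.Finite A K] {x : K} (hx : ∀ a : A, a • x = 0 → a = 0) :
    ∃ ψ : K →ₗ[A] A, ψ x ≠ 0 := by
  classical
  let F := FractionRing A
  let S := nonZeroDivisors A
  let V := LocalizedModule S K
  have hx0 : LocalizedModule.mkLinearMap S K x ≠ 0 := fun h => by
    obtain ⟨s, hs⟩ := (IsLocalizedModule.eq_zero_iff S (LocalizedModule.mkLinearMap S K)).1 h
    exact nonZeroDivisors.coe_ne_zero s (hx _ hs)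
  obtain ⟨φ, hφ⟩ : ∃ φ : V →ₗ[F] F, φ (LocalizedModule.mkLinearMap S K x) ≠ 0 := by
    by_contra! h
    exact hx0 ((Module.forall_dual_apply_eq_zero_iff F _).1 h)
  let ψ₀ : K →ₗ[A] F := (φ.restrictScalars A).comp (LocalizedModule.mkLinearMap S K)
  obtain ⟨T, hT⟩ := Module.Finite.fg_top (R := A) (M := K)
  obtain ⟨b, hb⟩ := IsLocalization.exist_integer_multiples_of_finset S (T.image ψ₀)
  have hint : ∀ y : K, ∃ a : A, algebraMap A F a = (b : A) • ψ₀ y := fun y => by
    have hy : y ∈ Submodule.span A (T : Set K) := by rw [hT]; exact Submodule.mem_top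
    induction hy using Submodule.span_induction with
    | mem z hz => exact hb _ (Finset.mem_image_of_mem _ hz)
    | zero => exact ⟨0, by simp⟩
    | add z w _ _ hz hw =>
      obtain ⟨c, hc⟩ := hz
      obtain ⟨d, hd⟩ := hw
      exact ⟨c + d, by rw [map_add, hc, hd, map_add, smul_add]⟩
    | smul r z _ hz =>
      obtain ⟨c, hc⟩ := hz
      exact ⟨r * c, by rw [map_mul, hc, map_smul, smul_comm (b : A) r, ← Algebra.smul_def]⟩
  choose g hg using hint
  have hinj : Function.Injective (algebraMap A F) := IsFractionRing.injective A F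
  refine ⟨{ toFun := g
            map_add' := fun y z => hinj (by rw [map_add, hg, hg, hg, map_add, smul_add])
            map_smul' := fun r y => hinj (by
              rw [RingHom.id_apply, smul_eq_mul, map_mul, hg, hg, map_smul, smul_comm (b : A) r, ← Algebra.smul_def]) },
    fun h => hφ ?_⟩
  have h' : (b : A) • ψ₀ x = 0 := by
    rw [← hg x, show g x = 0 from h, map_zero]
  rw [Algebra.smul_def] at h'
  exact (mul_eq_zero.1 h').resolve_left fun h0 =>
    nonZeroDivisors.coe_ne_zero b (hinj (h0.trans (map_zero _).symm))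

section Domain

variable {A : Type u} [CommRing A] [IsDomain A] [LocCoh.IsCohenMacaulayLocalRing A] {d : ℕ} (hd : ringKrullDim A = d)
  {E : Type u} [AddCommGroup E] [Module A E] {f : ResidueField A →ₗ[A] E} (hf : IsInjectiveHull f)
  {K : Type u} [AddCommGroup K] [Module A K] [Module.Finite A K]
  (eK : (K →ₗ[A] E) ≃ₗ[A] LocCoh.H (maximalIdeal A) d A)

include hd hf eK in
/-- The canonical module of a Cohen–Macaulay domain is the ring or an unmixed ideal of height one. -/
theorem canon_equiv_ideal : Nonempty (K ≃ₗ[A] A) ∨ ∃ I : Ideal A, I ≠ ⊤ ∧ I ≠ ⊥ ∧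
    (∀ q ∈ associatedPrimes A (A ⧸ I), q.height = 1) ∧ Nonempty (K ≃ₗ[A] I) := by
  haveI hKnt : Nontrivial K := Groth.L04.nontrivial_of_isCohenMacaulayModule (isCohenMacaulayModule_canon hd hf eK)
  have htf : ∀ (a : A) (x : K), a • x = 0 → x ≠ 0 → a = 0 := fun a x hax hx => by
    obtain ⟨q, hq, hle⟩ := exists_le_isAssociatedPrime_of_isNoetherianRing A x hx
    haveI := hq.isPrime
    have hmem : a ∈ q := hle (by rw [Submodule.mem_colon_singleton, Submodule.mem_bot]; exact hax)
    have hdim := depth_le_ringKrullDim_quotient (M := K) hq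
    have hdK : (d : ℕ∞) ≤ LocCoh.depth A K := le_depth_canon hd hf eK
    have h2 := ringKrullDim_quotient_add_height q
    obtain ⟨h0, hh0⟩ := ENat.ne_top_iff_exists.1 (Ideal.height_ne_top_of_isPrime (I := q))
    obtain ⟨e, he⟩ := Groth.L01.exists_dim_eq_nat (R := A ⧸ q)
    rw [he, hd, ← hh0] at h2
    rw [he] at hdim
    have h2' : e + h0 = d := by exact_mod_cast h2
    have h3 : ((d : ℕ∞) : WithBot ℕ∞) ≤ (e : WithBot ℕ∞) := le_trans (WithBot.coe_le_coe.2 hdK) hdim
    have h3' : d ≤ e := by exact_mod_cast h3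
    have hq0 : q.height = 0 := by rw [← hh0]; exact_mod_cast (show h0 = 0 by omega)
    rw [Ideal.height_eq_zero_iff, IsDomain.minimalPrimes_eq_singleton_bot, Set.mem_singleton_iff] at hq0
    rw [hq0] at hmem
    exact hmem
  obtain ⟨x, hx⟩ := exists_ne (0 : K)
  obtain ⟨ψ, hψ⟩ := exists_hom_ne_zero_of_domain K (x := x) fun a ha => htf a x ha hx
  have hinj : Function.Injective ψ := by
    obtain ⟨r, hr⟩ := exists_eq_smul_id hd hf eK (ψ.smulRight x)
    have hr' : ∀ y, ψ y • x = r • y := fun y => LinearMap.congr_fun hr y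
    have hrψ : r = ψ x := by
      by_contra hne
      exact hx (Classical.byContradiction fun hx' => hne (sub_eq_zero.1 (htf (r - ψ x) x
        (by rw [sub_smul, hr' x, sub_self]) hx')))
    refine (injective_iff_map_eq_zero ψ).2 fun y hy => ?_
    by_contra hy'
    have h := hr' y
    rw [hy, zero_smul, hrψ] at h
    exact hψ (htf _ y h.symm hy')
  let I : Ideal A := LinearMap.range ψ
  let e : K ≃ₗ[A] I := LinearEquiv.ofInjective ψ hinj
  by_cases htop : I = ⊤
  · exact Or.inl ⟨e ≪≫ₗ LinearEquiv.ofTop I htop⟩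
  have hI0 : I ≠ ⊥ := fun h => hψ (by
    have : ψ x ∈ I := LinearMap.mem_range_self ψ x
    rwa [h, Submodule.mem_bot] at this)
  refine Or.inr ⟨I, htop, hI0, fun q hq => ?_, ⟨e⟩⟩
  haveI := IsAssociatedPrime.isPrime hq
  have hS := ses_shortExact I.subtype I.mkQ I.injective_subtype I.mkQ_surjective (LinearMap.exact_subtype_mkQ I)
  have hdA := (le_idealDepth_iff_H (maximalIdeal A) A d).1 (depth_self hd).ge
  have hdI : ∀ j < d, Subsingleton (LocCoh.H (maximalIdeal A) j I) := by
    have hdK := (le_idealDepth_iff_H (maximalIdeal A) K d).1 (le_depth_canon hd hf eK)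
    intro j hj
    haveI := hdK j hj
    exact (((localCohomology (maximalIdeal A) j).mapIso e.toModuleIso).toLinearEquiv).symm.toEquiv.subsingleton
  have hdQ : ((d - 1 : ℕ) : ℕ∞) ≤ LocCoh.idealDepth (maximalIdeal A) (A ⧸ I) :=
    (le_idealDepth_iff_H (maximalIdeal A) (A ⧸ I) (d - 1)).2 fun j hj =>
      subsingleton_H_right (maximalIdeal A) hS j (hdA j (by omega)) (hdI (j + 1) (by omega))
  have hdim := depth_le_ringKrullDim_quotient (M := A ⧸ I) hq
  have h2 := ringKrullDim_quotient_add_height q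
  obtain ⟨h0, hh0⟩ := ENat.ne_top_iff_exists.1 (Ideal.height_ne_top_of_isPrime (I := q))
  obtain ⟨e', he'⟩ := Groth.L01.exists_dim_eq_nat (R := A ⧸ q)
  rw [he', hd, ← hh0] at h2
  rw [he'] at hdim
  have h2' : e' + h0 = d := by exact_mod_cast h2
  have h3 : (((d - 1 : ℕ) : ℕ∞) : WithBot ℕ∞) ≤ (e' : WithBot ℕ∞) := le_trans (WithBot.coe_le_coe.2 hdQ) hdim
  have h3' : d - 1 ≤ e' := by exact_mod_cast h3
  have hne0 : h0 ≠ 0 := fun h => by
    have hq0 : q.height = 0 := by rw [← hh0, h]; rfl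
    rw [Ideal.height_eq_zero_iff, IsDomain.minimalPrimes_eq_singleton_bot, Set.mem_singleton_iff] at hq0
    have hIq : I ≤ q := by
      have := IsAssociatedPrime.annihilator_le hq
      rwa [Submodule.annihilator_top, Ideal.annihilator_quotient] at this
    rw [hq0, le_bot_iff] at hIq
    exact hI0 hIq
  rw [← hh0]
  exact_mod_cast (show h0 = 1 by omega)

/-- In a factorial domain an unmixed ideal of height one is principal. -/
theorem exists_eq_span_of_unmixed {A : Type u} [CommRing A] [IsDomain A] [IsNoetherianRing A]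
    [UniqueFactorizationMonoid A] {I : Ideal A} (hI : I ≠ ⊥)
    (hass : ∀ q ∈ associatedPrimes A (A ⧸ I), q.height = 1) : ∃ g : A, g ≠ 0 ∧ I = Ideal.span {g} := by
  classical
  obtain ⟨x, hxI, hx⟩ := Submodule.exists_mem_ne_zero_of_ne_bot hI
  obtain ⟨c, ⟨g, hg, hgc⟩, hmin⟩ := (wellFounded_dvdNotUnit (α := A)).has_min
    {c : A | ∃ g, I ≤ Ideal.span {g} ∧ g * c = x} ⟨x, 1, by simp, one_mul x⟩
  have hg0 : g ≠ 0 := fun h => hx (by rw [← hgc, h, zero_mul])
  refine ⟨g, hg0, le_antisymm hg ?_⟩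
  let J : Ideal A := Submodule.comap (LinearMap.mulLeft A g) I
  suffices hJ : J = ⊤ by
    rw [Ideal.span_singleton_le_iff_mem]
    have h1 : (1 : A) ∈ J := hJ ▸ Submodule.mem_top
    simpa [J] using h1
  by_contra hJ
  haveI : Nontrivial (A ⧸ J) := Ideal.Quotient.nontrivial_iff.2 hJ
  let μ : A ⧸ J →ₗ[A] A ⧸ I := Submodule.mapQ J I (LinearMap.mulLeft A g) le_rfl
  have hμ : Function.Injective μ := by
    refine (injective_iff_map_eq_zero μ).2 fun z hz => ?_
    obtain ⟨a, rfl⟩ := Submodule.Quotient.mk_surjective J z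
    rw [Submodule.mapQ_apply, Submodule.Quotient.mk_eq_zero] at hz
    exact (Submodule.Quotient.mk_eq_zero J).2 hz
  obtain ⟨q, hq⟩ := associatedPrimes.nonempty A (A ⧸ J)
  haveI := IsAssociatedPrime.isPrime hq
  have hq1 := hass q (IsAssociatedPrime.map_of_injective μ hq hμ)
  have hJq : J ≤ q := by
    have := IsAssociatedPrime.annihilator_le hq
    rwa [Submodule.annihilator_top, Ideal.annihilator_quotient] at this
  have hq0 : q ≠ ⊥ := fun h => by
    rw [h, Ideal.height_bot] at hq1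
    exact zero_ne_one hq1
  obtain ⟨π, hπq, hπ⟩ := Ideal.IsPrime.exists_mem_prime_of_ne_bot (I := q) inferInstance hq0
  haveI hπp : (Ideal.span {π}).IsPrime := (Ideal.span_singleton_prime hπ.ne_zero).2 hπ
  have hqπ : q = Ideal.span {π} := by
    by_contra hne
    have hlt : Ideal.span {π} < q := lt_of_le_of_ne ((Ideal.span_singleton_le_iff_mem _).2 hπq) (Ne.symm hne)
    have h1 := Ideal.height_strict_mono_of_isPrime hlt
    have h0 : (⊥ : Ideal A) < Ideal.span {π} := bot_lt_iff_ne_bot.2 (by simpa using hπ.ne_zero)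
    have h2 := Ideal.height_strict_mono_of_isPrime h0
    rw [hq1, ENat.lt_one_iff_eq_zero] at h1
    rw [h1] at h2
    exact not_lt_zero h2
  have hIg : I ≤ Ideal.span {g * π} := fun y hy => by
    obtain ⟨b, rfl⟩ := Ideal.mem_span_singleton'.1 (hg hy)
    have hb : b ∈ J := by simpa [J, mul_comm] using hy
    obtain ⟨b', rfl⟩ := Ideal.mem_span_singleton'.1 (hqπ ▸ hJq hb)
    exact Ideal.mem_span_singleton'.2 ⟨b', by ring⟩
  obtain ⟨c', hc'⟩ := Ideal.mem_span_singleton'.1 (hIg hxI)
  refine hmin c' ⟨g * π, hIg, by rw [← hc']; ring⟩ ⟨fun h0 => ?_, π, hπ.not_unit, ?_⟩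
  · rw [h0, zero_mul] at hc'
    exact hx hc'.symm
  · exact mul_left_cancel₀ hg0 (by rw [hgc, ← hc']; ring)

include hd hf eK in
/-- A factorial Cohen–Macaulay domain with a canonical module is Gorenstein. -/
theorem isGorenstein_of_ufd [UniqueFactorizationMonoid A] : LocCoh.IsGorensteinLocalRing A := by
  have e : Nonempty (K ≃ₗ[A] A) := by
    rcases canon_equiv_ideal hd hf eK with h | ⟨I, -, hI0, hass, ⟨e⟩⟩
    · exact h
    · obtain ⟨g, hg, rfl⟩ := exists_eq_span_of_unmixed hI0 hass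
      exact ⟨e ≪≫ₗ (LinearEquiv.toSpanNonzeroSingleton A A g hg).symm⟩
  obtain ⟨e⟩ := e
  haveI h := hasInjectiveDimensionLT_canon hd hf eK
  exact { exists_hasInjectiveDimensionLT := ⟨d + 1, hasInjectiveDimensionLT_of_iso e.toModuleIso (d + 1)⟩ }

end Domain

/-- The canonical module of `B/p` for a Gorenstein `B`. -/
theorem exists_canon_quotient (B : Type u) [CommRing B] [LocCoh.IsGorensteinLocalRing B] (p : Ideal B) [p.IsPrime]
    [IsLocalRing (B ⧸ p)] (r : ℕ) (hr : p.height = r) :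
    ∃ (d : ℕ) (E : Type u) (_ : AddCommGroup E) (_ : Module (B ⧸ p) E) (f : ResidueField (B ⧸ p) →ₗ[B ⧸ p] E)
      (K : Type u) (_ : AddCommGroup K) (_ : Module (B ⧸ p) K) (_ : Module B K) (_ : IsScalarTower B (B ⧸ p) K)
      (_ : Module.Finite (B ⧸ p) K),
      ringKrullDim (B ⧸ p) = d ∧ IsInjectiveHull f ∧
        Nonempty ((K →ₗ[B ⧸ p] E) ≃ₗ[B ⧸ p] LocCoh.H (maximalIdeal (B ⧸ p)) d (B ⧸ p)) ∧
        Nonempty (Ext (ModuleCat.of B (B ⧸ p)) (ModuleCat.of B B) r ≃ₗ[B] K) := by
  haveI : LocCoh.IsCohenMacaulayLocalRing B := Groth.Agent.S0341.result B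
  obtain ⟨n, hn⟩ := Groth.L01.exists_dim_eq_nat (R := B)
  obtain ⟨d, hd⟩ := Groth.L01.exists_dim_eq_nat (R := B ⧸ p)
  have h2 := ringKrullDim_quotient_add_height p
  rw [hd, hn, hr] at h2
  have h2' : d + r = n := by exact_mod_cast h2
  obtain ⟨EB, _, _, fB, hfB, hdual⟩ := ext_duality_gorenstein hn (B ⧸ p)
  obtain ⟨φ⟩ := (hdual r).1 (by omega)
  rw [show n - r = d by omega] at φ
  have hg : Function.Surjective (algebraMap B (B ⧸ p)) := Ideal.Quotient.mk_surjective
  obtain ⟨E, _, _, _, _, ev, hev⟩ := exists_coind (R := B ⧸ p) hg EB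
  obtain ⟨f, hf⟩ := exists_isInjectiveHull_coind hg hev hfB
  let K := Ext (ModuleCat.of B (B ⧸ p)) (ModuleCat.of B B) r
  have hkill : Module.IsTorsionBySet B K (p : Set B) := fun x b => smul_ext_eq_zero (fun m => by
    obtain ⟨y, rfl⟩ := Submodule.Quotient.mk_surjective p m
    rw [← Submodule.Quotient.mk_smul, Submodule.Quotient.mk_eq_zero]
    exact p.mul_mem_right y b.2) x
  letI : Module (B ⧸ p) K := hkill.module
  haveI : IsScalarTower B (B ⧸ p) K := hkill.isScalarTower
  haveI : Module.Finite (B ⧸ p) K := Module.Finite.of_restrictScalars_finite B (B ⧸ p) K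
  obtain ⟨e1⟩ := nonempty_dual_restrict hg hfB hf K
  have hres := Groth.L04.LC.exists_H_restrict_equiv (R := B) (R' := B ⧸ p) (maximalIdeal B) d (B ⧸ p)
  haveI := IsLocalHom.of_surjective (algebraMap B (B ⧸ p)) hg
  rw [map_maximalIdeal_of_surjective _ hg] at hres
  obtain ⟨ρ, hρ⟩ := hres
  let Ψ : (K →ₗ[B ⧸ p] E) ≃+ LocCoh.H (maximalIdeal (B ⧸ p)) d (B ⧸ p) :=
    e1.toAddEquiv.trans (φ.symm.toAddEquiv.trans ρ.symm)
  refine ⟨d, E, inferInstance, inferInstance, f, K, inferInstance, inferInstance, inferInstance, inferInstance,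
    inferInstance, hd, hf, ⟨{ Ψ with map_smul' := fun c x => ?_ }⟩, ⟨LinearEquiv.refl B K⟩⟩
  obtain ⟨b, rfl⟩ := hg c
  show ρ.symm (φ.symm (e1 (algebraMap B (B ⧸ p) b • x))) = algebraMap B (B ⧸ p) b • ρ.symm (φ.symm (e1 x))
  apply ρ.injective
  rw [hρ, AddEquiv.apply_symm_apply, AddEquiv.apply_symm_apply, algebraMap_smul, map_smul, map_smul]

end Groth.L04.Canon
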