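import Groth.Agent.L04.Canon.HLVGlobal
import Groth.Agent.L29.Dual.Normalized
import Groth.Agent.L03.FlatLemmas
import Groth.Prelude.Def_DualLC
import Mathlib.Algebra.Category.ModuleCat.FilteredColimits
import Mathlib.Algebra.Category.Grp.FilteredColimits

/-!
# Vanishing of `H⁰_I(ω)` and Hartshorne–Lichtenbaum
-/

set_option autoImplicit false
set_option backward.isDefEq.respectTransparency false
universe u

open CategoryTheory CategoryTheory.Limits IsLocalRing TensorProduct

attribute [local instance] HasDerivedCategory.standard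

noncomputable section

namespace Groth.L04.CdDim

open Groth.L29.HomD

section Flat

variable {A : Type u} [CommRing A]

/-- In a flat module `J₁M ∩ J₂M = (J₁ ∩ J₂)M`. -/
theorem inf_smul_top {M : Type u} [AddCommGroup M] [Module A M] [Module.Flat A M]
    (J₁ J₂ : Ideal A) (n : M) (h₁ : n ∈ J₁ • (⊤ : Submodule A M)) (h₂ : n ∈ J₂ • (⊤ : Submodule A M)) :
    n ∈ (J₁ ⊓ J₂) • (⊤ : Submodule A M) := by
  let φ : (A ⧸ (J₁ ⊓ J₂)) →ₗ[A] (A ⧸ J₁) × (A ⧸ J₂) :=
    (Submodule.mapQ _ J₁ LinearMap.id (inf_le_left : J₁ ⊓ J₂ ≤ J₁)).prod (Submodule.mapQ _ J₂ LinearMap.id (inf_le_right : J₁ ⊓ J₂ ≤ J₂))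
  have hφ : Function.Injective φ := by
    rw [← LinearMap.ker_eq_bot, LinearMap.ker_eq_bot']
    intro x hx
    obtain ⟨x, rfl⟩ := Submodule.mkQ_surjective (J₁ ⊓ J₂) x
    have e1 := congrArg Prod.fst hx
    have e2 := congrArg Prod.snd hx
    exact (Submodule.Quotient.mk_eq_zero _).2
      ⟨(Submodule.Quotient.mk_eq_zero _).1 e1, (Submodule.Quotient.mk_eq_zero _).1 e2⟩
  have h0 : ∀ J : Ideal A, n ∈ J • (⊤ : Submodule A M) → (1 : A ⧸ J) ⊗ₜ[A] n = 0 := fun J hJ => by
    rw [← (TensorProduct.quotTensorEquivQuotSMul M J).map_eq_zero_iff,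
      TensorProduct.quotTensorEquivQuotSMul_mk_one_tmul, Submodule.Quotient.mk_eq_zero]
    exact hJ
  have h3 : φ.rTensor M (1 ⊗ₜ n) = 0 := by
    apply (TensorProduct.prodLeft A A (A ⧸ J₁) (A ⧸ J₂) M).injective
    rw [map_zero, LinearMap.rTensor_tmul]
    change TensorProduct.prodLeft A A (A ⧸ J₁) (A ⧸ J₂) M (((1 : A ⧸ J₁), (1 : A ⧸ J₂)) ⊗ₜ[A] n) = 0
    rw [TensorProduct.prodLeft_tmul]
    exact Prod.ext (h0 _ h₁) (h0 _ h₂)
  have h4 := Module.Flat.rTensor_preserves_injective_linearMap φ hφ (h3.trans (map_zero _).symm)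
  rwa [← (TensorProduct.quotTensorEquivQuotSMul M (J₁ ⊓ J₂)).map_eq_zero_iff,
    TensorProduct.quotTensorEquivQuotSMul_mk_one_tmul, Submodule.Quotient.mk_eq_zero] at h4

/-- Colons by finitely generated ideals commute with flat base change (one inclusion). -/
theorem mem_map_of_colon {C : Type u} [CommRing C] [Algebra A C] [Module.Flat A C] (P Q G : Ideal A)
    (hG : G.FG) (hPQ : ∀ x, (∀ g ∈ G, g * x ∈ P) → x ∈ Q) (c : C)
    (hc : ∀ g ∈ G, algebraMap A C g * c ∈ P.map (algebraMap A C)) : c ∈ Q.map (algebraMap A C) := by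
  classical
  obtain ⟨s, hs⟩ := hG
  have key : ∀ t : Finset A, (∀ g ∈ t, g ∈ G) →
      c ∈ (t.inf fun g => P.colon ({g} : Set A)) • (⊤ : Submodule A C) := by
    intro t
    induction t using Finset.induction with
    | empty => intro _; simp [Ideal.map_top]
    | insert a t _ ih =>
      intro h
      rw [Finset.inf_insert]
      refine inf_smul_top _ _ c (Groth.L03.FlatLemmas.mem_colon_smul_top P a c ?_)
        (ih fun g hg => h g (Finset.mem_insert_of_mem hg))
      rw [Ideal.smul_top_eq_map, Submodule.restrictScalars_mem, Algebra.smul_def]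
      exact hc a (h a (Finset.mem_insert_self _ _))
  have hle : (s.inf fun g => P.colon ({g} : Set A)) ≤ Q := fun x hx => by
    refine hPQ x fun g hg => ?_
    rw [← hs] at hg
    induction hg using Submodule.span_induction with
    | mem g hg =>
      have := Submodule.mem_colon_singleton.1 (Finset.inf_le (f := fun g => P.colon ({g} : Set A)) hg hx)
      rwa [smul_eq_mul, mul_comm] at this
    | zero => simp
    | add a b _ _ ha hb => rw [add_mul]; exact P.add_mem ha hb
    | smul r a _ ha => rw [smul_eq_mul, mul_assoc]; exact P.mul_mem_left r ha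
  have h1 := Submodule.smul_mono hle (le_refl (⊤ : Submodule A C))
    (key s fun g hg => hs ▸ Submodule.subset_span hg)
  rwa [Ideal.smul_top_eq_map, Submodule.restrictScalars_mem] at h1

end Flat

section Dualizing

variable {A : Type u} [CommRing A] [IsLocalRing A] [IsNoetherianRing A]

/-- The saturation of `J` at the maximal ideal. -/
def sat (J : Ideal A) : Ideal A where
  carrier := {x | ∃ k, ∀ g ∈ maximalIdeal A ^ k, g * x ∈ J}
  zero_mem' := ⟨0, fun g _ => by simp⟩
  add_mem' := fun {x y} hx hy => by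
    obtain ⟨k, hk⟩ := hx
    obtain ⟨l, hl⟩ := hy
    exact ⟨max k l, fun g hg => by
      rw [mul_add]
      exact J.add_mem (hk g (Ideal.pow_le_pow_right (le_max_left _ _) hg))
        (hl g (Ideal.pow_le_pow_right (le_max_right _ _) hg))⟩
  smul_mem' := fun r x hx => by
    obtain ⟨k, hk⟩ := hx
    exact ⟨k, fun g hg => by rw [smul_eq_mul, mul_left_comm]; exact J.mul_mem_left r (hk g hg)⟩

theorem mem_sat {J : Ideal A} {x : A} : x ∈ sat J ↔ ∃ k, ∀ g ∈ maximalIdeal A ^ k, g * x ∈ J := Iff.rfl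

theorem sat_mono {J J' : Ideal A} (h : J ≤ J') : sat J ≤ sat J' :=
  fun _ ⟨k, hk⟩ => ⟨k, fun g hg => h (hk g hg)⟩

theorem exists_kills (J : Ideal A) : ∃ k, ∀ g ∈ maximalIdeal A ^ k, ∀ x ∈ sat J, g * x ∈ J := by
  obtain ⟨s, hs⟩ := (sat J).fg_of_isNoetherianRing
  have hmem : ∀ x : s, ∃ k, ∀ g ∈ maximalIdeal A ^ k, g * (x : A) ∈ J :=
    fun x => mem_sat.1 (hs ▸ Submodule.subset_span x.2)
  choose k hk using hmem
  refine ⟨s.attach.sup k, fun g hg x hx => ?_⟩
  rw [← hs] at hx
  induction hx using Submodule.span_induction with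
  | mem x hx => exact hk ⟨x, hx⟩ g (Ideal.pow_le_pow_right (Finset.le_sup (Finset.mem_attach _ ⟨x, hx⟩)) hg)
  | zero => simp
  | add a b _ _ ha hb => rw [mul_add]; exact J.add_mem ha hb
  | smul r a _ ha => rw [smul_eq_mul, mul_left_comm]; exact J.mul_mem_left r ha

/-- Finite modules killed by a power of the maximal ideal are Artinian. -/
theorem isArtinian_of_kills {M : Type u} [AddCommGroup M] [Module A M] [Module.Finite A M] (k : ℕ)
    (hk : ∀ a ∈ maximalIdeal A ^ k, ∀ x : M, a • x = 0) : IsArtinian A M := by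
  have hM : Module.IsTorsionBySet A M ((maximalIdeal A ^ k : Ideal A) : Set A) := fun x a => hk a a.2 x
  letI := hM.module
  haveI : IsScalarTower A (A ⧸ maximalIdeal A ^ k) M := hM.isScalarTower
  haveI : Module.Finite (A ⧸ maximalIdeal A ^ k) M := Module.Finite.of_restrictScalars_finite A _ M
  haveI : IsArtinianRing (A ⧸ maximalIdeal A ^ k) := by
    rw [isArtinianRing_iff_krullDimLE_zero]
    refine Ring.KrullDimLE.mk₀ fun J hJ => ?_
    have h : maximalIdeal A ≤ J.comap (Ideal.Quotient.mk _) := by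
      refine Ideal.IsPrime.le_of_pow_le (n := k) fun x hx => ?_
      rw [Ideal.mem_comap, Ideal.Quotient.eq_zero_iff_mem.mpr hx]
      exact J.zero_mem
    have hmax : (J.comap (Ideal.Quotient.mk (maximalIdeal A ^ k))).IsMaximal :=
      (maximalIdeal.isMaximal A).eq_of_le (Ideal.IsPrime.ne_top inferInstance) h ▸ maximalIdeal.isMaximal A
    rw [← Ideal.map_comap_of_surjective _ Ideal.Quotient.mk_surjective J]
    exact Ideal.IsMaximal.map_of_surjective_of_ker_le Ideal.Quotient.mk_surjective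
      (by rw [RingHom.ker_eq_comap_bot]; exact Ideal.comap_mono bot_le)
  exact isArtinian_of_surjective_algebraMap (R := A ⧸ maximalIdeal A ^ k) Ideal.Quotient.mk_surjective

/-- A nonzero finite module surjects onto the residue field. -/
theorem exists_surjective_residue (M : Type u) [AddCommGroup M] [Module A M] [Module.Finite A M] [Nontrivial M] :
    ∃ q : M →ₗ[A] ResidueField A, Function.Surjective q := by
  obtain ⟨K, hK, -⟩ := (IsCoatomic.eq_top_or_exists_le_coatom (⊥ : Submodule A M)).resolve_left bot_ne_top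
  haveI : IsSimpleModule A (M ⧸ K) := isSimpleModule_iff_isCoatom.2 hK
  obtain ⟨J, hJ, ⟨e⟩⟩ := isSimpleModule_iff_quot_maximal.1 ‹IsSimpleModule A (M ⧸ K)›
  obtain rfl : J = maximalIdeal A := eq_maximalIdeal hJ
  exact ⟨e.toLinearMap ∘ₗ K.mkQ, e.surjective.comp (Submodule.mkQ_surjective K)⟩

omit [IsLocalRing A] [IsNoetherianRing A] in
/-- A class in the colimit defining `H⁰_I(W)` vanishes only if it dies at a finite stage. -/
theorem exists_pre_eq_zero {W : Dual.D A} (I : Ideal A) (h0 : Subsingleton (Dual2.HDI A I W 0)) (n : ℕ)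
    (φ : Dual.inD A (A ⧸ I ^ n) ⟶ W⟦(0 : ℤ)⟧) :
    ∃ (m : ℕ) (hm : n ≤ m), pre W (Submodule.mapQ (I ^ m) (I ^ n) LinearMap.id (Ideal.pow_le_pow_right hm)) 0 φ = 0 := by
  let F := (localCohomology.ringModIdeals (localCohomology.idealPowersDiagram I) ⋙
    DerivedCategory.singleFunctor (ModuleCat.{u} A) 0).op ⋙ (linearYoneda A (Dual.D A)).obj (W⟦(0 : ℤ)⟧)
  haveI : IsFiltered ℕᵒᵖᵒᵖ := IsFiltered.of_equivalence (opOpEquivalence ℕ).symm
  haveI : Limits.PreservesFilteredColimitsOfSize.{0, 0} (forget AddCommGrpCat.{u + 1}) :=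
    Limits.preservesSmallestFilteredColimits_of_preservesFilteredColimits.{u + 1, u + 1} _
  haveI : Limits.PreservesColimitsOfShape ℕᵒᵖᵒᵖ (forget AddCommGrpCat.{u + 1}) :=
    Limits.PreservesFilteredColimitsOfSize.preserves_filtered_colimits _
  haveI : Limits.PreservesColimitsOfShape ℕᵒᵖᵒᵖ (forget (ModuleCat.{u + 1} A)) :=
    Limits.comp_preservesColimitsOfShape (forget₂ (ModuleCat.{u + 1} A) AddCommGrpCat.{u + 1})
      (forget AddCommGrpCat.{u + 1})
  let j : ℕᵒᵖᵒᵖ := Opposite.op (Opposite.op n)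
  have h : (colimit.ι F j).hom φ = (colimit.ι F j).hom 0 := Subsingleton.elim _ _
  obtain ⟨k, a, b, hab⟩ := Concrete.colimit_exists_of_rep_eq F (i := j) (j := j) φ 0 h
  refine ⟨k.unop.unop, leOfHom a.unop.unop, ?_⟩
  rw [map_zero] at hab
  exact hab

variable {ω : Dual.D A} (hω : Dual.IsDualizing A ω) (hn : Dual.IsNormalized A ω)

include hω hn in
/-- A surjection with torsion kernel induces an injection on `Hom(-, ω)`. -/
theorem pre_injective {M N : Type u} [AddCommGroup M] [Module A M] [Module.Finite A M] [AddCommGroup N]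
    [Module A N] (q : M →ₗ[A] N) (hq : Function.Surjective q) (k : ℕ)
    (hk : ∀ a ∈ maximalIdeal A ^ k, ∀ x : M, a • x = 0) : Function.Injective (pre ω q 0) := by
  haveI : IsNoetherian A M := isNoetherian_of_isNoetherianRing_of_finite A M
  haveI : Subsingleton (Dual.inD A (LinearMap.ker q) ⟶ ω⟦(-1 : ℤ)⟧) :=
    subsingleton_hom_of_kills hω hn (LinearMap.ker q) k (fun a ha x => Subtype.ext (hk a ha x)) (-1) (by decide)
  rw [injective_iff_map_eq_zero]
  intro φ hφ
  have h := exact_right ω (LinearMap.ker q).subtype q Subtype.val_injective hq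
    (LinearMap.exact_subtype_ker_map q) (-1)
  obtain ⟨χ, rfl⟩ := (h φ).1 hφ
  rw [Subsingleton.elim χ 0, map_zero]

include hω hn in
/-- If `H⁰_I(ω) = 0` then the torsion of `A/I^m` eventually dies in `A/I^n`. -/
theorem exists_sat_le (I : Ideal A) (h0 : Subsingleton (Dual2.HDI A I ω 0)) (n : ℕ) :
    ∃ m, n ≤ m ∧ sat (I ^ m) ≤ I ^ n := by
  -- the images stabilise
  obtain ⟨k, hk⟩ := exists_kills (I ^ n)
  let T : ℕ → Submodule A (A ⧸ I ^ n) := fun m => Submodule.map (I ^ n).mkQ (sat (I ^ (n + m)))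
  have hTanti : Antitone T := fun a b hab =>
    Submodule.map_mono (sat_mono (Ideal.pow_le_pow_right (by omega)))
  have hTk : ∀ m, ∀ a ∈ maximalIdeal A ^ k, ∀ x : T m, a • x = 0 := fun m a ha x => by
    obtain ⟨_, y, hy, rfl⟩ := x
    refine Subtype.ext ?_
    change a • (I ^ n).mkQ y = 0
    rw [← map_smul, Submodule.mkQ_apply, Submodule.Quotient.mk_eq_zero, smul_eq_mul]
    exact hk a ha y (sat_mono (Ideal.pow_le_pow_right (by omega)) hy)
  haveI : IsArtinian A (T 0) := by
    exact isArtinian_of_kills k (hTk 0)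
  obtain ⟨N, hN⟩ := IsArtinian.monotone_stabilizes (R := A) (M := T 0)
    ⟨fun m => OrderDual.toDual ((T m).comap (T 0).subtype),
      fun a b hab => Submodule.comap_mono (hTanti hab)⟩
  have hst : ∀ m, N ≤ m → T N ≤ T m := fun m hm x hx => by
    have := congrArg OrderDual.ofDual (hN m hm)
    change (T N).comap (T 0).subtype = (T m).comap (T 0).subtype at this
    exact (SetLike.ext_iff.1 this ⟨x, hTanti (Nat.zero_le _) hx⟩).1 hx
  refine ⟨n + N, by omega, fun x hx => ?_⟩
  by_contra hxn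
  haveI : Nontrivial (T N) := by
    refine ⟨⟨⟨(I ^ n).mkQ x, Submodule.mem_map_of_mem hx⟩, 0, fun h => hxn ?_⟩⟩
    exact (Submodule.Quotient.mk_eq_zero _).1 (congrArg Subtype.val h)
  -- a surjection onto the residue field
  obtain ⟨q, hq⟩ : ∃ q : T N →ₗ[A] ResidueField A, Function.Surjective q :=
    exists_surjective_residue (T N)
  obtain ⟨e⟩ := residue_hom_zero hω hn
  let φ' := pre ω q 0 (e.symm 1)
  have hφ' : φ' ≠ 0 := fun h => one_ne_zero (e.symm.injective
    ((pre_injective hω hn q hq k (hTk N) (h.trans (map_zero _).symm)).trans (map_zero _).symm))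
  -- extend to `A/I^n`
  haveI : Subsingleton (Dual.inD A ((A ⧸ I ^ n) ⧸ T N) ⟶ ω⟦(0 : ℤ) + 1⟧) :=
    subsingleton_of_pos ω (good_of_isDualizing hω) hn _ _ (by decide)
  obtain ⟨φ, hφ⟩ := (exact_left ω (T N).subtype (T N).mkQ Subtype.val_injective (Submodule.mkQ_surjective _)
    (LinearMap.exact_subtype_mkQ _) 0 φ').1 (Subsingleton.elim _ _)
  -- its class in the colimit vanishes
  obtain ⟨m, hm, hzero⟩ := exists_pre_eq_zero I h0 n φ
  let M' := max m (n + N)
  have hM : I ^ M' ≤ I ^ n := Ideal.pow_le_pow_right (by omega)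
  let π : (A ⧸ I ^ M') →ₗ[A] (A ⧸ I ^ n) := Submodule.mapQ _ _ LinearMap.id hM
  have hπ0 : pre ω π 0 φ = 0 := by
    have e1 : π = Submodule.mapQ (I ^ m) (I ^ n) LinearMap.id (Ideal.pow_le_pow_right hm) ∘ₗ
        Submodule.mapQ (I ^ M') (I ^ m) LinearMap.id (Ideal.pow_le_pow_right (le_max_left _ _)) :=
      Submodule.linearMap_qext _ (LinearMap.ext fun x => rfl)
    rw [e1, pre_comp, LinearMap.comp_apply, hzero, map_zero]
  obtain ⟨k', hk'⟩ := exists_kills (I ^ M')
  let Γ : Submodule A (A ⧸ I ^ M') := Submodule.map (I ^ M').mkQ (sat (I ^ M'))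
  have hmap : Γ.map π = T (M' - n) := by
    change (Submodule.map (I ^ M').mkQ (sat (I ^ M'))).map π = Submodule.map (I ^ n).mkQ (sat (I ^ (n + (M' - n))))
    rw [← Submodule.map_comp, show n + (M' - n) = M' by omega]
    rfl
  have hTN : T (M' - n) = T N := le_antisymm (hTanti (by omega)) (hst _ (by omega))
  let r : Γ →ₗ[A] T N := π.restrict fun x hx => hTN ▸ hmap ▸ Submodule.mem_map_of_mem hx
  have hr : Function.Surjective r := fun y => by
    have hy : (y : A ⧸ I ^ n) ∈ Γ.map π := by rw [hmap, hTN]; exact y.2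
    obtain ⟨z, hz, hzy⟩ := Submodule.mem_map.1 hy
    exact ⟨⟨z, hz⟩, Subtype.ext hzy⟩
  refine hφ' (pre_injective hω hn r hr k' (fun a ha x => ?_) ?_)
  · obtain ⟨_, y, hy, rfl⟩ := x
    refine Subtype.ext ?_
    change a • (I ^ M').mkQ y = 0
    rw [← map_smul, Submodule.mkQ_apply, Submodule.Quotient.mk_eq_zero, smul_eq_mul]
    exact hk' a ha y hy
  · rw [map_zero, ← hφ, ← LinearMap.comp_apply, ← pre_comp,
      show (T N).subtype ∘ₗ r = π ∘ₗ Γ.subtype from rfl, pre_comp, LinearMap.comp_apply, hπ0, map_zero]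

end Dualizing

end Groth.L04.CdDim
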