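import Groth.Agent.L04.Canon.CdDim

/-!
# `H⁰_I(ω) = 0` implies `cd(A, I) < dim A`
-/

set_option autoImplicit false
universe u

open CategoryTheory IsLocalRing

noncomputable section

namespace Groth.L04.CdDim

variable {A : Type u} [CommRing A] [IsLocalRing A] [IsNoetherianRing A]

/-- For a minimal prime there is an element outside killing a power of it. -/
theorem exists_mul_pow_eq_bot {C : Type u} [CommRing C] [IsNoetherianRing C] {p : Ideal C}
    (hp : p ∈ minimalPrimes C) : ∃ (c : C) (N : ℕ), c ∉ p ∧ ∀ x ∈ p ^ N, c * x = 0 := by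
  classical
  haveI : p.IsPrime := hp.1.1
  have hfin : (minimalPrimes C).Finite := minimalPrimes.finite_of_isNoetherianRing C
  obtain ⟨c, hc, hcp⟩ : ∃ c ∈ (hfin.toFinset.erase p).inf id, c ∉ p := by
    by_contra h
    push_neg at h
    obtain ⟨q, hq, hqp⟩ := (Ideal.IsPrime.inf_le' ‹p.IsPrime›).1 h
    obtain ⟨hqne, hq⟩ := Finset.mem_erase.1 hq
    exact hqne (le_antisymm hqp (hp.2 ⟨(Set.Finite.mem_toFinset _ |>.1 hq).1.1, bot_le⟩ hqp))
  obtain ⟨N, hN⟩ := IsNoetherianRing.isNilpotent_nilradical C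
  have hle : Ideal.span {c} * p ≤ nilradical C := by
    rw [Ideal.span_singleton_mul_le_iff]
    intro x hx
    rw [nilradical_eq_sInf, Ideal.mem_sInf]
    intro Q hQ
    haveI : Q.IsPrime := hQ
    obtain ⟨q, hq, hqQ⟩ := Ideal.exists_minimalPrimes_le (show (⊥ : Ideal C) ≤ Q from bot_le)
    rcases eq_or_ne q p with rfl | hne
    · exact Q.mul_mem_left c (hqQ hx)
    · exact Q.mul_mem_right x (hqQ (Finset.inf_le (f := id)
        (Finset.mem_erase.2 ⟨hne, hfin.mem_toFinset.2 hq⟩) hc))
  refine ⟨c ^ N, N, fun h => hcp (Ideal.IsPrime.mem_of_pow_mem ‹_› N h), fun x hx => ?_⟩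
  have h : c ^ N * x ∈ (Ideal.span {c} * p) ^ N := by
    rw [mul_pow, Ideal.span_singleton_pow]
    exact Ideal.mul_mem_mul (Ideal.mem_span_singleton_self _) hx
  simpa [hN] using (Ideal.pow_right_mono hle N) h

/-- If `H⁰_I(ω) = 0` for a normalized dualizing complex then `H^i_I` vanishes from `dim A` on. -/
theorem subsingleton_H_of_subsingleton_HDI {ω : Dual.D A} (hω : Dual.IsDualizing A ω)
    (hn : Dual.IsNormalized A ω) (I : Ideal A) (h0 : Subsingleton (Dual2.HDI A I ω 0)) (M : Type u)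
    [AddCommGroup M] [Module A M] (i : ℕ) (hi : ringKrullDim A ≤ (i : WithBot ℕ∞)) :
    Subsingleton (LocCoh.H I i M) := by
  by_cases hI : I ≤ maximalIdeal A
  swap
  · obtain rfl : I = ⊤ := by_contra fun h => hI (le_maximalIdeal h)
    exact Groth.L04.Canon.subsingleton_H_top_ideal i M
  obtain ⟨d, hd⟩ : ∃ d : ℕ, ringKrullDim A = d :=
    ⟨((ringKrullDim A).unbot ringKrullDim_ne_bot).toNat, by
      have h1 : (ringKrullDim A).unbot ringKrullDim_ne_bot ≠ ⊤ := fun h => ringKrullDim_ne_top (R := A)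
        (by rw [← WithBot.coe_unbot _ ringKrullDim_ne_bot, h]; rfl)
      conv_lhs => rw [← WithBot.coe_unbot _ (ringKrullDim_ne_bot (R := A)), ← ENat.coe_toNat h1]
      rfl⟩
  have key : 1 ≤ d ∧ LocCoh.CdLE A I (d - 1) := by
    refine Groth.L04.Canon.cdLE_of_completion I hd fun p hp _ => ?_
    haveI := Groth.L01.AnalUnram.isNoetherianRing_completion A
    haveI := Groth.L01.CompletionExt.faithfullyFlat A
    let C := AdicCompletion (maximalIdeal A) A
    set J := I.map (algebraMap A C)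
    haveI : p.IsPrime := hp.1.1
    have hmC : (maximalIdeal A).map (algebraMap A C) = maximalIdeal C := AdicCompletion.maximalIdeal_eq_map.symm
    have hJ : J ≤ maximalIdeal C := hmC ▸ Ideal.map_mono hI
    have hne : J ⊔ p ≠ ⊤ := fun h => (maximalIdeal.isMaximal C).ne_top
      (top_unique (h ▸ sup_le hJ (le_maximalIdeal hp.1.1.ne_top)))
    rw [← not_lt]
    intro hlt
    have h00 : ringKrullDim (C ⧸ (J ⊔ p)) ≤ 0 := by
      generalize ringKrullDim (C ⧸ (J ⊔ p)) = z at hlt
      induction z using WithBot.recBotCoe with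
      | bot => exact bot_le
      | coe z =>
        have : z < 1 := by exact_mod_cast hlt
        rw [ENat.lt_one_iff_eq_zero] at this
        rw [this]
        rfl
    haveI : Nontrivial (C ⧸ (J ⊔ p)) := Ideal.Quotient.nontrivial_iff.2 hne
    haveI : Ring.KrullDimLE 0 (C ⧸ (J ⊔ p)) := Ring.krullDimLE_iff.2 h00
    have hrad : maximalIdeal C ≤ (J ⊔ p).radical := by
      rw [Ideal.radical_eq_sInf]
      refine le_sInf fun Q hQ => ?_
      haveI := hQ.2
      haveI : (Q.map (Ideal.Quotient.mk (J ⊔ p))).IsPrime := Ideal.map_isPrime_of_surjective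
        Ideal.Quotient.mk_surjective (by rw [Ideal.mk_ker]; exact hQ.1)
      have hmax : (Q.map (Ideal.Quotient.mk (J ⊔ p))).IsMaximal := Ideal.IsPrime.isMaximal' inferInstance
      have := Ideal.comap_isMaximal_of_surjective (Ideal.Quotient.mk (J ⊔ p)) Ideal.Quotient.mk_surjective
        (K := Q.map (Ideal.Quotient.mk (J ⊔ p)))
      rw [Ideal.comap_map_of_surjective' _ Ideal.Quotient.mk_surjective, Ideal.mk_ker, sup_eq_left.2 hQ.1] at this
      exact (eq_maximalIdeal this).ge
    obtain ⟨N, hN⟩ := Ideal.exists_pow_le_of_le_radical_of_fg hrad (maximalIdeal C).fg_of_isNoetherianRing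
    obtain ⟨c, N', hcp, hc⟩ := exists_mul_pow_eq_bot hp
    refine hcp ?_
    have hmem : c ∈ (⨅ n : ℕ, J ^ n) := by
      refine Submodule.mem_iInf _ |>.2 fun n => ?_
      obtain ⟨m, -, hm⟩ := exists_sat_le hω hn I h0 n
      rw [← Ideal.map_pow]
      refine mem_map_of_colon (I ^ m) (I ^ n) (maximalIdeal A ^ (N * (m + N')))
        (Submodule.FG.pow (maximalIdeal A).fg_of_isNoetherianRing _) (fun x hx => hm ⟨_, hx⟩) c fun g hg => ?_
      have h1 : algebraMap A C g ∈ (J ⊔ p) ^ (m + N') := by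
        refine Ideal.pow_right_mono hN _ ?_
        rw [← pow_mul, ← hmC, ← Ideal.map_pow]
        exact Ideal.mem_map_of_mem _ hg
      obtain ⟨a, ha, b, hb, hab⟩ := Submodule.mem_sup.1 (Ideal.sup_pow_add_le_pow_sup_pow h1)
      rw [← hab, add_mul, mul_comm b c, hc b hb, add_zero, Ideal.map_pow]
      exact Ideal.mul_mem_right c _ ha
    rw [Ideal.iInf_pow_eq_bot_of_isLocalRing J (fun h => (maximalIdeal.isMaximal C).ne_top
      (top_unique (h ▸ hJ)))] at hmem
    rw [Ideal.mem_bot] at hmem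
    exact hmem ▸ p.zero_mem
  rw [hd] at hi
  have : d ≤ i := by exact_mod_cast hi
  exact key.2 M i (by omega)

end Groth.L04.CdDim
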