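import Mathlib.RingTheory.Filtration
import Mathlib.RingTheory.Localization.Submodule
import Mathlib.RingTheory.Ideal.KrullsHeightTheorem
import Mathlib.RingTheory.HopkinsLevitzki
import Mathlib.RingTheory.Localization.AtPrime.Basic
import Mathlib.RingTheory.AdicCompletion.Basic
import Mathlib.RingTheory.Spectrum.Prime.Basic
import Mathlib.RingTheory.Ideal.Quotient.Operations

/-!
# Chevalley's lemma and symbolic powers of a one-dimensional prime
-/

set_option autoImplicit false
universe u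

open IsLocalRing

namespace Groth.L04.Canon

variable {S : Type u} [CommRing S] [IsLocalRing S] [IsNoetherianRing S]

/-- Krull: `∩ (J + m^k) = J`. -/
theorem mem_of_forall_mem_sup_pow (J : Ideal S) {z : S} (hz : ∀ k, z ∈ J ⊔ maximalIdeal S ^ k) : z ∈ J := by
  have hbot := Ideal.iInf_pow_smul_eq_bot_of_isLocalRing (M := S ⧸ J) (maximalIdeal S) (maximalIdeal.isMaximal S).ne_top
  rw [← Submodule.Quotient.mk_eq_zero J, ← Submodule.mem_bot S, ← hbot, Submodule.mem_iInf]
  intro k
  obtain ⟨a, ha, b, hb, rfl⟩ := Submodule.mem_sup.1 (hz k)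
  rw [Submodule.Quotient.mk_add, (Submodule.Quotient.mk_eq_zero J).2 ha, zero_add]
  have h : (Submodule.Quotient.mk b : S ⧸ J) = b • Submodule.Quotient.mk 1 := by
    rw [← Submodule.Quotient.mk_smul, smul_eq_mul, mul_one]
  rw [h]
  exact Submodule.smul_mem_smul hb trivial

theorem exists_stable_sup_pow (J : ℕ → Ideal S) (hJ : Antitone J) (k : ℕ) :
    ∃ N, ∀ n, N ≤ n → J n ⊔ maximalIdeal S ^ k = J N ⊔ maximalIdeal S ^ k := by
  rcases Nat.eq_zero_or_pos k with rfl | hk
  · exact ⟨0, fun n _ => by simp⟩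
  have hne : maximalIdeal S ^ k ≠ ⊤ :=
    ne_top_of_le_ne_top (maximalIdeal.isMaximal S).ne_top (Ideal.pow_le_self hk.ne')
  haveI : IsArtinianRing (S ⧸ maximalIdeal S ^ k) := by
    haveI : Ring.KrullDimLE 0 (S ⧸ maximalIdeal S ^ k) := by
      refine Ring.krullDimLE_zero_iff.2 fun I hI => ?_
      haveI := hI
      have hle : maximalIdeal S ^ k ≤ I.comap (Ideal.Quotient.mk (maximalIdeal S ^ k)) := fun x hx => by
        rw [Ideal.mem_comap, Ideal.Quotient.eq_zero_iff_mem.2 hx]
        exact I.zero_mem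
      have hc : I.comap (Ideal.Quotient.mk (maximalIdeal S ^ k)) = maximalIdeal S :=
        ((maximalIdeal.isMaximal S).eq_of_le (Ideal.comap_ne_top _ hI.ne_top)
          ((Ideal.IsPrime.comap (Ideal.Quotient.mk (maximalIdeal S ^ k))).le_of_pow_le hle)).symm
      have hI' := (Ideal.map_comap_of_surjective _ Ideal.Quotient.mk_surjective I).symm
      rw [hc] at hI'
      rw [hI']
      exact (Ideal.map_eq_top_or_isMaximal_of_surjective _ Ideal.Quotient.mk_surjective
        (maximalIdeal.isMaximal S)).resolve_left (hI' ▸ hI.ne_top)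
    exact isArtinianRing_iff_krullDimLE_zero.2 inferInstance
  let F : ℕ →o (Submodule (S ⧸ maximalIdeal S ^ k) (S ⧸ maximalIdeal S ^ k))ᵒᵈ :=
    ⟨fun n => OrderDual.toDual ((J n).map (Ideal.Quotient.mk _)), fun a b h => Ideal.map_mono (hJ h)⟩
  obtain ⟨N, hN⟩ := IsArtinian.monotone_stabilizes F
  refine ⟨N, fun n hn => ?_⟩
  have h := congrArg (Ideal.comap (Ideal.Quotient.mk (maximalIdeal S ^ k)))
    (show (J N).map (Ideal.Quotient.mk (maximalIdeal S ^ k)) = (J n).map (Ideal.Quotient.mk (maximalIdeal S ^ k)) from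
      congrArg OrderDual.ofDual (hN n hn))
  rw [Ideal.comap_map_of_surjective' _ Ideal.Quotient.mk_surjective,
    Ideal.comap_map_of_surjective' _ Ideal.Quotient.mk_surjective, Ideal.mk_ker] at h
  exact h.symm

/-- Chevalley's lemma. -/
theorem exists_le_iInf_sup_pow [IsAdicComplete (maximalIdeal S) S] (J : ℕ → Ideal S) (hJ : Antitone J) (k : ℕ) :
    ∃ n, J n ≤ (⨅ i, J i) ⊔ maximalIdeal S ^ k := by
  choose N hN using exists_stable_sup_pow J hJ
  refine ⟨N k, fun x hx => ?_⟩
  have hL : ∀ j i, J (N j) ≤ J i ⊔ maximalIdeal S ^ j := fun j i => by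
    rcases le_total (N j) i with h | h
    · rw [hN j i h]; exact le_sup_left
    · exact le_sup_of_le_left (hJ h)
  have hstep : ∀ (j : ℕ) (y : S), y ∈ J (N j) → ∃ y' ∈ J (N (j + 1)), y' - y ∈ maximalIdeal S ^ j := by
    intro j y hy
    obtain ⟨a, ha, b, hb, rfl⟩ := Submodule.mem_sup.1 (hL j (N (j + 1)) hy)
    exact ⟨a, ha, by simpa using neg_mem hb⟩
  choose! step hstep hstep' using hstep
  let y : ℕ → S := Nat.rec x fun j yj => step (k + j) yj
  have hy : ∀ j, y j ∈ J (N (k + j)) := fun j => by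
    induction j with
    | zero => exact hx
    | succ j ih => exact hstep (k + j) _ ih
  have hdiff : ∀ a b, a ≤ b → y b - y a ∈ maximalIdeal S ^ (k + a) := fun a b hab => by
    induction b, hab using Nat.le_induction with
    | base => simp
    | succ b hb ih =>
      have h := Ideal.pow_le_pow_right (I := maximalIdeal S) (show k + a ≤ k + b by omega) (hstep' (k + b) _ (hy b))
      have : y (b + 1) - y a = (step (k + b) (y b) - y b) + (y b - y a) := by
        show step (k + b) (y b) - y a = _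
        ring
      rw [this]
      exact add_mem h ih
  obtain ⟨z, hz⟩ := IsPrecomplete.prec' (I := maximalIdeal S) y (fun {a b} hab => by
    rw [SModEq.sub_mem, smul_eq_mul, Ideal.mul_top, ← neg_sub, neg_mem_iff]
    exact Ideal.pow_le_pow_right (by omega) (hdiff a b hab))
  have hz' : ∀ j, y j - z ∈ maximalIdeal S ^ j := fun j => by
    simpa [SModEq.sub_mem, smul_eq_mul, Ideal.mul_top] using hz j
  have hzJ : z ∈ ⨅ i, J i := by
    refine Submodule.mem_iInf _ |>.2 fun i => mem_of_forall_mem_sup_pow _ fun j => ?_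
    have hle : J i ⊔ maximalIdeal S ^ (k + j) ≤ J i ⊔ maximalIdeal S ^ j :=
      sup_le le_sup_left (le_trans (Ideal.pow_le_pow_right (show j ≤ k + j by omega)) le_sup_right)
    have h1 : y j ∈ J i ⊔ maximalIdeal S ^ j := hle (hL (k + j) i (hy j))
    rw [show z = y j - (y j - z) by ring]
    exact sub_mem h1 (Ideal.mem_sup_right (hz' j))
  have hxz : x - z ∈ maximalIdeal S ^ k := by
    have h := hdiff 0 k (Nat.zero_le k)
    rw [show x - z = (y k - z) - (y k - y 0) by show x - z = (y k - z) - (y k - x); ring]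
    exact sub_mem (hz' k) (by simpa using h)
  rw [show x = z + (x - z) by ring]
  exact add_mem (Ideal.mem_sup_left hzJ) (Ideal.mem_sup_right hxz)

/-- The symbolic power. -/
noncomputable def symb (P : Ideal S) [P.IsPrime] (m : ℕ) : Ideal S :=
  ((P ^ m).map (algebraMap S (Localization.AtPrime P))).comap (algebraMap S (Localization.AtPrime P))

theorem mem_symb_iff (P : Ideal S) [P.IsPrime] (m : ℕ) (x : S) : x ∈ symb P m ↔ ∃ t, t ∉ P ∧ t * x ∈ P ^ m := by
  rw [symb, Ideal.mem_comap, IsLocalization.algebraMap_mem_map_algebraMap_iff P.primeCompl]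
  exact Iff.rfl

theorem antitone_symb (P : Ideal S) [P.IsPrime] : Antitone (symb P) := fun _ _ h =>
  Ideal.comap_mono (Ideal.map_mono (Ideal.pow_le_pow_right h))

theorem iInf_symb (P : Ideal S) [P.IsPrime] :
    ⨅ m, symb P m = RingHom.ker (algebraMap S (Localization.AtPrime P)) := by
  haveI : IsNoetherianRing (Localization.AtPrime P) := IsLocalization.isNoetherianRing P.primeCompl _ inferInstance
  simp only [symb, ← Ideal.comap_iInf, Ideal.map_pow, Localization.AtPrime.map_eq_maximalIdeal]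
  rw [Ideal.iInf_pow_eq_bot_of_isLocalRing _ (maximalIdeal.isMaximal _).ne_top]
  rfl

theorem mem_symb_of_pow (P : Ideal S) [P.IsPrime] (hP : P ≠ maximalIdeal S) {n k : ℕ} {x : S}
    (h : ∀ b ∈ maximalIdeal S ^ k, b * x ∈ symb P n) : x ∈ symb P n := by
  obtain ⟨s, hs, hsP⟩ := SetLike.exists_of_lt (lt_of_le_of_ne (le_maximalIdeal (Ideal.IsPrime.ne_top ‹_›)) hP)
  obtain ⟨t, ht, htx⟩ := (mem_symb_iff P n _).1 (h _ (Ideal.pow_mem_pow hs k))
  refine (mem_symb_iff P n x).2 ⟨t * s ^ k, fun hmem => ?_, by rwa [mul_assoc]⟩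
  rcases (Ideal.IsPrime.mem_or_mem ‹_› hmem) with h1 | h1
  · exact ht h1
  · exact hsP (Ideal.IsPrime.mem_of_pow_mem ‹_› k h1)

/-- Near the closed point the symbolic powers are controlled by the powers. -/
theorem exists_inf_symb_le (P : Ideal S) [P.IsPrime] (hP1 : ∀ q : Ideal S, q.IsPrime → P < q → q = maximalIdeal S)
    (n : ℕ) : ∃ k, maximalIdeal S ^ k ⊓ symb P n ≤ P ^ n := by
  rcases Nat.eq_zero_or_pos n with rfl | hn
  · exact ⟨0, by simp⟩
  obtain ⟨T, hT⟩ := (IsNoetherian.noetherian (symb P n) : (symb P n).FG)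
  have hrad : maximalIdeal S ≤ (Submodule.colon (P ^ n) (symb P n : Set S)).radical := by
    rw [Ideal.radical_eq_sInf]
    refine le_sInf fun q ⟨hle, hq⟩ => ?_
    have hPq : P ≤ q := by
      have h1 : P ^ n ≤ q := le_trans (fun r hr => Submodule.mem_colon.2 fun x _ => (P ^ n).mul_mem_right x hr) hle
      exact hq.le_of_pow_le h1
    rcases hPq.lt_or_eq with hlt | rfl
    · exact (hP1 q hq hlt).ge
    · exfalso
      choose! t ht htx using fun x (hx : x ∈ symb P n) => (mem_symb_iff P n x).1 hx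
      have hmem : ∏ x ∈ T, t x ∈ Submodule.colon (P ^ n) (symb P n : Set S) := by
        refine Submodule.mem_colon.2 fun x hx => ?_
        rw [SetLike.mem_coe, ← hT] at hx
        have hsub : (T : Set S) ⊆
            (Submodule.comap (LinearMap.mulLeft S (∏ y ∈ T, t y)) (P ^ n) : Ideal S) := fun g hg => by
          rw [SetLike.mem_coe, Submodule.mem_comap, LinearMap.mulLeft_apply]
          obtain ⟨c, hc⟩ := Finset.dvd_prod_of_mem t hg
          rw [hc, mul_comm (t g) c, mul_assoc]
          exact (P ^ n).mul_mem_left c (htx g (hT ▸ Submodule.subset_span hg))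
        exact Submodule.span_le.2 hsub hx
      obtain ⟨g, hg, hgP⟩ := (Ideal.IsPrime.prod_mem_iff).1 (hle hmem)
      exact ht g (hT ▸ Submodule.subset_span hg) hgP
  obtain ⟨c, hc⟩ := Ideal.exists_pow_le_of_le_radical_of_fg hrad (maximalIdeal S).fg_of_isNoetherianRing
  obtain ⟨k₀, hk₀⟩ := Ideal.exists_pow_inf_eq_pow_smul (maximalIdeal S) (symb P n : Submodule S S)
  refine ⟨c + k₀, ?_⟩
  have h := hk₀ (c + k₀) (by omega)
  rw [Nat.add_sub_cancel, smul_eq_mul, Ideal.mul_top, smul_eq_mul, smul_eq_mul, Ideal.mul_top] at h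
  rw [h]
  refine le_trans (Ideal.mul_mono le_rfl inf_le_right) (Ideal.mul_le.2 fun b hb x hx => ?_)
  exact Submodule.mem_colon.1 (hc hb) x hx

/-- Some element outside `P` carries high symbolic powers into given powers. -/
theorem exists_mul_symb_le [IsAdicComplete (maximalIdeal S) S] (P : Ideal S) [P.IsPrime]
    (hP1 : ∀ q : Ideal S, q.IsPrime → P < q → q = maximalIdeal S) :
    ∃ s, s ∉ P ∧ ∀ n, ∃ m, n ≤ m ∧ ∀ x ∈ symb P m, s * x ∈ P ^ n := by
  classical
  set K := RingHom.ker (algebraMap S (Localization.AtPrime P))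
  obtain ⟨T, hT⟩ := (IsNoetherian.noetherian K : K.FG)
  choose! t ht htx using fun x (hx : x ∈ K) => (show ∃ t, t ∉ P ∧ t * x = 0 by
    obtain ⟨t, ht⟩ := (IsLocalization.map_eq_zero_iff P.primeCompl (Localization.AtPrime P) x).1 hx
    exact ⟨t, t.2, ht⟩)
  have hsT : ∀ g ∈ T, g ∈ K := fun g hg => hT ▸ Submodule.subset_span hg
  refine ⟨∏ x ∈ T, t x, fun hmem => ?_, fun n => ?_⟩
  · obtain ⟨g, hg, hgP⟩ := (Ideal.IsPrime.prod_mem_iff).1 hmem
    exact ht g (hsT g hg) hgP
  obtain ⟨k, hk⟩ := exists_inf_symb_le P hP1 n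
  obtain ⟨m, hm⟩ := exists_le_iInf_sup_pow (symb P) (antitone_symb P) k
  rw [iInf_symb] at hm
  refine ⟨max n m, le_max_left _ _, fun x hx => hk ⟨?_, ?_⟩⟩
  · obtain ⟨a, ha, b, hb, rfl⟩ := Submodule.mem_sup.1 (hm (antitone_symb P (le_max_right n m) hx))
    have h0 : (∏ y ∈ T, t y) * a = 0 := by
      have hsub : (T : Set S) ⊆ (LinearMap.ker (LinearMap.mulLeft S (∏ y ∈ T, t y)) : Ideal S) := fun g hg => by
        rw [SetLike.mem_coe, LinearMap.mem_ker, LinearMap.mulLeft_apply]
        obtain ⟨c, hc⟩ := Finset.dvd_prod_of_mem t hg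
        rw [hc, mul_comm (t g) c, mul_assoc, htx g (hsT g hg), mul_zero]
      have ha' : a ∈ Submodule.span S (T : Set S) := by rw [hT]; exact ha
      simpa using Submodule.span_le.2 hsub ha'
    rw [mul_add, h0, zero_add]
    exact (maximalIdeal S ^ k).mul_mem_left _ hb
  · exact (symb P n).mul_mem_left _ (antitone_symb P (le_max_left n m) hx)

end Groth.L04.Canon
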