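import Groth.Agent.S17759
import Groth.Agent.L04.Canon.GorAnn
import Groth.Agent.L04.MatlisBC
import Groth.Agent.L04.LC.ExtCompare

/-!
# The top local cohomology module is cofinite
-/

set_option autoImplicit false
universe u

open CategoryTheory Abelian IsLocalRing InjHull TensorProduct

noncomputable section

namespace Groth.L04.Canon

open Groth.L10.FormCat Groth.L04.LC

/-- `Ext^i(N, H)` is Artinian for `N` finite and `H` Artinian. -/
theorem isArtinian_ext {R : Type u} [CommRing R] [IsNoetherianRing R] (H : Type u) [AddCommGroup H]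
    [Module R H] [IsArtinian R H] :
    ∀ (i : ℕ) (N : Type u) [AddCommGroup N] [Module R N] [Module.Finite R N],
      IsArtinian R (Ext (ModuleCat.of R N) (ModuleCat.of R H) i) := by
  intro i
  induction i with
  | zero =>
    intro N _ _ _
    obtain ⟨k, π, hπ⟩ := Module.Finite.exists_fin' R N
    haveI : IsArtinian R ((Fin k → R) →ₗ[R] H) :=
      isArtinian_of_injective ((Pi.basisFun R (Fin k)).constr R).symm.toLinearMap (LinearEquiv.injective _)
    haveI : IsArtinian R (N →ₗ[R] H) :=
      isArtinian_of_injective (LinearMap.lcomp R H π) fun a b h => LinearMap.ext fun x => by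
        obtain ⟨y, rfl⟩ := hπ x
        exact LinearMap.congr_fun h y
    exact isArtinian_of_injective (homEquivExt (R := R) (K := H) N).symm.toLinearMap (LinearEquiv.injective _)
  | succ i ih =>
    intro N _ _ _
    obtain ⟨k, π, hπ⟩ := Module.Finite.exists_fin' R N
    have hS := ses_shortExact (LinearMap.ker π).subtype π (LinearMap.ker π).injective_subtype hπ
      (LinearMap.exact_subtype_ker_map π)
    haveI : Module.Finite R (LinearMap.ker π) := inferInstance
    haveI := ih (LinearMap.ker π)
    haveI : Projective (ses (LinearMap.ker π).subtype π (LinearMap.exact_subtype_ker_map π).linearMap_comp_eq_zero).X₂ :=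
      inferInstanceAs (Projective (ModuleCat.of R (Fin k → R)))
    exact isArtinian_of_surjective (Ext (ModuleCat.of R (LinearMap.ker π)) (ModuleCat.of R H) i)
      (extδ hS (ModuleCat.of R H) i (i + 1) (by omega))
      (extδ_surjective hS (ModuleCat.of R H) i (i + 1) (by omega))

/-- Over a complete local ring, the top module satisfies `rad(J + ann) ⊇ m`. -/
theorem maximalIdeal_le_radical_sup_annihilator {C : Type u} [CommRing C] [IsLocalRing C] [IsNoetherianRing C]
    [IsAdicComplete (maximalIdeal C) C] (J : Ideal C) (N : Type u) [AddCommGroup N] [Module C N]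
    [Module.Finite C N] {n : ℕ} (hn : Module.supportDim C N ≤ n) :
    maximalIdeal C ≤ (J ⊔ Module.annihilator C (LocCoh.H J n N)).radical := by
  by_cases hne : Subsingleton (LocCoh.H J n N)
  · haveI := hne
    rw [Module.annihilator_eq_top_iff.2 inferInstance, sup_top_eq, Ideal.radical_top]
    exact le_top
  have hJ : J ≤ maximalIdeal C := by
    by_contra h
    have htop : J = ⊤ := by
      by_contra h'
      exact h (le_maximalIdeal h')
    subst htop
    exact hne (subsingleton_H_top_ideal n N)
  have hn' : Module.supportDim C N = n :=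
    le_antisymm hn (not_lt.1 fun hlt => hne (subsingleton_H_of_supportDim_lt J N n hlt))
  haveI : Nontrivial N := by
    refine not_subsingleton_iff_nontrivial.1 fun h => ?_
    rw [Module.supportDim_eq_bot_of_subsingleton] at hn'
    exact WithBot.bot_ne_coe hn'
  obtain ⟨E, _, _, f, hf⟩ := Groth.Agent.S0299.result C (ResidueField C)
  set a := Module.annihilator C N with ha
  have hne' : a ≠ ⊤ := fun h => not_subsingleton N (Module.annihilator_eq_top_iff.1 h)
  haveI := Groth.L01.isLocalRing_quotient hne'
  haveI := Groth.L01.NagataComplete.isAdicComplete_quotient a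
  have hg : Function.Surjective (algebraMap C (C ⧸ a)) := Ideal.Quotient.mk_surjective
  have hd : ringKrullDim (C ⧸ a) = n :=
    (Module.supportDim_eq_ringKrullDim_quotient_annihilator (R := C) (M := N)).symm.trans hn'
  letI : Module (C ⧸ a) N :=
    Module.IsTorsionBySet.module (fun x r => Module.mem_annihilator.1 r.2 x : Module.IsTorsionBySet C N (a : Set C))
  haveI : IsScalarTower C (C ⧸ a) N := IsScalarTower.of_algebraMap_smul fun _ _ => rfl
  haveI : Module.Finite (C ⧸ a) N := Module.Finite.of_restrictScalars_finite C (C ⧸ a) N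
  obtain ⟨EC, _, _, _, _, ev, hev⟩ := exists_coind (R := C ⧸ a) hg E
  obtain ⟨g, hgh⟩ := exists_isInjectiveHull_coind hg hev hf
  obtain ⟨e⟩ := nonempty_dual_H_restrict_ideal hg hf hgh J n N
  haveI : Module.Finite C (LocCoh.H J n N →ₗ[C] E) := by
    by_cases hJ' : J.map (algebraMap C (C ⧸ a)) ≤ maximalIdeal (C ⧸ a)
    · haveI := finite_dual_top hd hgh hJ' N
      haveI : Module.Finite C (C ⧸ a) := Module.Finite.of_surjective (Algebra.linearMap C (C ⧸ a)) hg
      haveI : Module.Finite C (LocCoh.H (J.map (algebraMap C (C ⧸ a))) n N →ₗ[C ⧸ a] EC) := Module.Finite.trans (C ⧸ a) _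
      exact Module.Finite.equiv e
    · have htop : J.map (algebraMap C (C ⧸ a)) = ⊤ := by
        by_contra h'
        exact hJ' (le_maximalIdeal h')
      haveI : Subsingleton (LocCoh.H (J.map (algebraMap C (C ⧸ a))) n N) := by
        rw [htop]; exact subsingleton_H_top_ideal n N
      haveI : Subsingleton (LocCoh.H (J.map (algebraMap C (C ⧸ a))) n N →ₗ[C ⧸ a] EC) :=
        ⟨fun x y => LinearMap.ext fun z => by rw [Subsingleton.elim z 0, map_zero, map_zero]⟩
      haveI := e.symm.toEquiv.subsingleton
      infer_instance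
  have hass := Groth.Agent.S17759.result C E f hf J N n hn'
  rw [annihilator_dual_eq hf, Ideal.radical_eq_sInf]
  refine le_sInf fun q ⟨hq, hqp⟩ => ?_
  have hsupp : (⟨q, hqp⟩ : PrimeSpectrum C) ∈ Module.support C (LocCoh.H J n N →ₗ[C] E) := by
    rw [Module.support_eq_zeroLocus]; exact le_sup_right.trans hq
  obtain ⟨p, hp, hpq⟩ := Ideal.exists_minimalPrimes_le (I := Module.annihilator C (LocCoh.H J n N →ₗ[C] E))
    (J := q) (Module.annihilator_le_of_mem_support hsupp)
  have hp' : p ∈ associatedPrimes C (LocCoh.H J n N →ₗ[C] E) :=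
    Module.associatedPrimes.minimalPrimes_annihilator_subset_associatedPrimes C _ hp
  rw [hass] at hp'
  exact hp'.2.2.2 ▸ hqp.radical_le_iff.2 (sup_le (le_sup_left.trans hq) hpq)

/-- The top local cohomology module is `I`-cofinite. -/
theorem isFiniteLength_ext_top {R : Type u} [CommRing R] [IsNoetherianRing R] [IsLocalRing R] (I : Ideal R)
    (M : Type u) [AddCommGroup M] [Module R M] [Module.Finite R M] {n : ℕ} (hn : Module.supportDim R M ≤ n)
    (i : ℕ) : IsFiniteLength R (Ext (ModuleCat.of R (R ⧸ I)) (ModuleCat.of R (LocCoh.H I n M)) i) := by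
  haveI := Groth.L01.AnalUnram.isNoetherianRing_completion R
  haveI := Groth.L01.CompletionExt.faithfullyFlat R
  let C := AdicCompletion (maximalIdeal R) R
  haveI : IsAdicComplete (maximalIdeal C) C := by
    rw [AdicCompletion.maximalIdeal_eq_map]
    exact AdicCompletion.isAdicComplete_self _ (maximalIdeal R).fg_of_isNoetherianRing
  haveI := isArtinian_H_of_supportDim_le I n M hn
  set J := I.map (algebraMap R C) with hJ
  let H' := LocCoh.H J n (C ⊗[R] M)
  letI : Module R H' := Module.compHom H' (algebraMap R C)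
  haveI : IsScalarTower R C H' := IsScalarTower.of_algebraMap_smul fun _ _ => rfl
  obtain ⟨ψ⟩ := Groth.L04.LC.nonempty_H_baseChange_equiv (R' := C) I n M
  have hb := mk_completion_bijective (R := R) (I := LocCoh.H I n M)
    (isPowerTorsion_of_isArtinian (R := R) (M := LocCoh.H I n M))
  let θ : LocCoh.H I n M ≃ₗ[R] H' :=
    (LinearEquiv.ofBijective (TensorProduct.mk R C (LocCoh.H I n M) 1) hb).trans (ψ.restrictScalars R)
  haveI : IsArtinian R H' := isArtinian_of_injective θ.symm.toLinearMap θ.symm.injective
  have hsd : Module.supportDim C (C ⊗[R] M) ≤ n := by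
    haveI : Module.Finite C (C ⊗[R] M) := inferInstance
    rw [Module.supportDim_eq_ringKrullDim_quotient_annihilator (R := R) (M := M)] at hn
    by_cases ht : Module.annihilator R M = ⊤
    · haveI := Module.annihilator_eq_top_iff.1 ht
      rw [Module.supportDim_eq_bot_of_subsingleton]
      exact bot_le
    · rw [← ringKrullDim_quotient_map_completion ht] at hn
      rw [Module.supportDim_eq_ringKrullDim_quotient_annihilator]
      refine le_trans (ringKrullDim_le_of_surjective _ (Ideal.Quotient.factor_surjective ?_)) hn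
      exact Ideal.map_le_iff_le_comap.2 fun r hr => Module.mem_annihilator.2
        (algebraMap_smul_tmul_eq_zero (Module.mem_annihilator.1 hr))
  obtain ⟨k, hk⟩ := Ideal.exists_pow_le_of_le_radical_of_fg
    (maximalIdeal_le_radical_sup_annihilator J (C ⊗[R] M) hsd) (maximalIdeal C).fg_of_isNoetherianRing
  let X := Ext (ModuleCat.of R (R ⧸ I)) (ModuleCat.of R H') i
  let φ : C → (ModuleCat.of R H' ⟶ ModuleCat.of R H') := fun c =>
    ModuleCat.ofHom ((LinearMap.lsmul C H' c).restrictScalars R)
  have hφ1 : ∀ r : R, φ (algebraMap R C r) = r • 𝟙 _ := fun r => ModuleCat.hom_ext (LinearMap.ext fun h => rfl)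
  have hφadd : ∀ c c', φ (c + c') = φ c + φ c' := fun c c' =>
    ModuleCat.hom_ext (LinearMap.ext fun h => add_smul c c' (h : H'))
  have hφmul : ∀ c c', φ (c * c') = φ c' ≫ φ c := fun c c' =>
    ModuleCat.hom_ext (LinearMap.ext fun h => mul_smul c c' (h : H'))
  let K : Ideal C :=
    { carrier := {c | ∀ x : X, x.comp (Ext.mk₀ (φ c)) (add_zero i) = 0}
      add_mem' := fun {c c'} hc hc' x => by
        rw [hφadd, Ext.mk₀_add, Ext.comp_add, hc x, hc' x, add_zero]
      zero_mem' := fun x => by
        rw [show φ 0 = 0 from ModuleCat.hom_ext (LinearMap.ext fun h => zero_smul C (h : H')), Ext.mk₀_zero,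
          Ext.comp_zero]
      smul_mem' := fun c c' hc' x => by
        rw [smul_eq_mul, hφmul, ← Ext.mk₀_comp_mk₀, ← Ext.comp_assoc_of_second_deg_zero, hc' x, Ext.zero_comp] }
  have hJK : J ≤ K := Ideal.map_le_iff_le_comap.2 fun r hr x => by
    rw [hφ1, Ext.mk₀_smul, Ext.comp_smul, Ext.comp_mk₀_id]
    exact smul_ext_eq_zero (fun m => by
      obtain ⟨y, rfl⟩ := Submodule.Quotient.mk_surjective I m
      rw [← Submodule.Quotient.mk_smul, Submodule.Quotient.mk_eq_zero]
      exact I.mul_mem_right y hr) x
  have hannK : Module.annihilator C H' ≤ K := fun c hc x => by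
    rw [show φ c = 0 from ModuleCat.hom_ext (LinearMap.ext fun h => Module.mem_annihilator.1 hc h), Ext.mk₀_zero,
      Ext.comp_zero]
  have hkill : ∀ a ∈ maximalIdeal R ^ k, ∀ x : X, a • x = 0 := fun a ha x => by
    have hmem : algebraMap R C a ∈ K := sup_le hJK hannK (hk (by
      rw [AdicCompletion.maximalIdeal_eq_map, ← Ideal.map_pow]
      exact Ideal.mem_map_of_mem _ ha))
    have h := hmem x
    rwa [hφ1, Ext.mk₀_smul, Ext.comp_smul, Ext.comp_mk₀_id] at h
  haveI : IsArtinian R X := isArtinian_ext H' i (R ⧸ I)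
  have hfl : IsFiniteLength R X := isFiniteLength_H_iff_radical.isFiniteLength_of_killed_artinian (R := R) k hkill
  obtain ⟨hN, hA⟩ := isFiniteLength_iff_isNoetherian_isArtinian.1 hfl
  let η : Ext (ModuleCat.of R (R ⧸ I)) (ModuleCat.of R (LocCoh.H I n M)) i →ₗ[R] X :=
    { toFun := fun x => x.comp (Ext.mk₀ θ.toModuleIso.hom) (add_zero i)
      map_add' := fun a b => Ext.add_comp a b _ _
      map_smul' := fun r a => Ext.smul_comp _ _ _ _ }
  have hη : Function.Injective η := fun a b h => by
    have h' := congrArg (fun z : X => z.comp (Ext.mk₀ θ.toModuleIso.inv) (add_zero i)) h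
    simpa only [η, LinearMap.coe_mk, AddHom.coe_mk, Ext.comp_assoc_of_second_deg_zero, Ext.mk₀_comp_mk₀,
      Iso.hom_inv_id, Ext.comp_mk₀_id] using h'
  exact isFiniteLength_iff_isNoetherian_isArtinian.2
    ⟨isNoetherian_of_injective η hη, isArtinian_of_injective η hη⟩

end Groth.L04.Canon
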