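import Groth.Agent.L04.Canon.Bidual
import Groth.Agent.L04.Canon.Gor
import Groth.Agent.L04.MatlisBC
import Groth.Agent.L01.CompletionReg

/-!
# The completion of a canonical module has a Gorenstein model
-/

set_option autoImplicit false
universe u

open IsLocalRing InjHull TensorProduct CategoryTheory

noncomputable section

namespace Groth.L04.Canon

/-- Uniqueness of canonical modules. -/
theorem nonempty_equiv_of_canon {R : Type u} [CommRing R] [IsLocalRing R] [IsNoetherianRing R]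
    {E : Type u} [AddCommGroup E] [Module R E] {f : ResidueField R →ₗ[R] E} (hf : IsInjectiveHull f)
    {K K' H : Type u} [AddCommGroup K] [Module R K] [Module.Finite R K] [AddCommGroup K'] [Module R K']
    [Module.Finite R K'] [AddCommGroup H] [Module R H]
    (eK : (K →ₗ[R] E) ≃ₗ[R] H) (eK' : (K' →ₗ[R] E) ≃ₗ[R] H) : Nonempty (K ≃ₗ[R] K') := by
  obtain ⟨b⟩ := nonempty_bidual_equiv hf K
  obtain ⟨b'⟩ := nonempty_bidual_equiv hf K'
  exact nonempty_equiv_of_tensor
    (b ≪≫ₗ (eK ≪≫ₗ eK'.symm).arrowCongr (LinearEquiv.refl R E) ≪≫ₗ b'.symm)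

variable {R : Type u} [CommRing R] [IsLocalRing R] [IsNoetherianRing R]

local notation "Rh" => AdicCompletion (maximalIdeal R) R

/-- `R`-linear maps into torsion modules over the completion are linear over the completion. -/
theorem linear_of_torsion {X Y : Type u} [AddCommGroup X] [Module R X] [Module Rh X] [IsScalarTower R Rh X]
    [AddCommGroup Y] [Module R Y] [Module Rh Y] [IsScalarTower R Rh Y] (Φ : X ≃ₗ[R] Y)
    (hY : LocCoh.IsPowerTorsion (maximalIdeal R) Y) (a : Rh) (x : X) : Φ (a • x) = a • Φ x := by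
  obtain ⟨k, hk⟩ := hY (Φ x)
  obtain ⟨r, hr⟩ := Ideal.Quotient.mk_surjective (AdicCompletion.evalₐ (maximalIdeal R) k a)
  have hmem : a - algebraMap R Rh r ∈ (maximalIdeal R ^ k).map (algebraMap R Rh) := by
    rw [← Submodule.restrictScalars_mem R, ← Ideal.smul_top_eq_map,
      AdicCompletion.pow_smul_top_eq_ker_eval (maximalIdeal R).fg_of_isNoetherianRing, LinearMap.mem_ker]
    have h1 : AdicCompletion.evalₐ (maximalIdeal R) k (a - algebraMap R Rh r) = 0 := by
      rw [map_sub, AlgHom.commutes, Ideal.Quotient.algebraMap_eq, hr, sub_self]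
    have h := AdicCompletion.factor_evalₐ_eq_eval (I := maximalIdeal R) (a - algebraMap R Rh r) (n := k) (by simp)
    rw [h1, map_zero] at h
    exact h.symm
  have key : ∀ (Z : Type u) [AddCommGroup Z] [Module R Z] [Module Rh Z] [IsScalarTower R Rh Z] (z : Z),
      (∀ c ∈ maximalIdeal R ^ k, c • z = 0) → a • z = r • z := by
    intro Z _ _ _ _ z hz
    have hle : (maximalIdeal R ^ k).map (algebraMap R Rh) ≤ LinearMap.ker (LinearMap.toSpanSingleton Rh Z z) :=
      Ideal.map_le_iff_le_comap.2 fun c hc => by simp [hz c hc]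
    have := hle hmem
    rw [LinearMap.mem_ker, LinearMap.toSpanSingleton_apply, sub_smul, algebraMap_smul, sub_eq_zero] at this
    exact this
  rw [key X x fun c hc => Φ.injective (by rw [map_smul, hk c hc, map_zero]), key Y (Φ x) hk, map_smul]

theorem exists_completion_canon {n : ℕ} {E : Type u} [AddCommGroup E] [Module R E]
    {f : ResidueField R →ₗ[R] E} (hf : IsInjectiveHull f) {K : Type u} [AddCommGroup K] [Module R K]
    (eK : (K →ₗ[R] E) ≃ₗ[R] LocCoh.H (maximalIdeal R) n R) :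
    ∃ g : ResidueField Rh →ₗ[Rh] Rh ⊗[R] E, IsInjectiveHull g ∧
      Nonempty ((Rh ⊗[R] K →ₗ[Rh] Rh ⊗[R] E) ≃ₗ[Rh] LocCoh.H (maximalIdeal Rh) n Rh) := by
  haveI := Groth.L01.AnalUnram.isNoetherianRing_completion R
  obtain ⟨g, hg⟩ := Groth.L04.exists_isInjectiveHull_baseChange (A := R) (B := Rh)
    AdicCompletion.maximalIdeal_eq_map.symm hf
  let mkE : E ≃ₗ[R] Rh ⊗[R] E :=
    LinearEquiv.ofBijective _ (Groth.L04.mk_completion_bijective (hull_isPowerTorsion hf))
  let H0 := LocCoh.H (maximalIdeal R) n R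
  have htorH : LocCoh.IsPowerTorsion (maximalIdeal R) H0 :=
    Groth.L04.LC.isPowerTorsion_H (maximalIdeal R) n (ModuleCat.of R R)
  let mkH : H0 ≃ₗ[R] Rh ⊗[R] H0 := LinearEquiv.ofBijective _ (Groth.L04.mk_completion_bijective htorH)
  let Φ : (Rh ⊗[R] K →ₗ[Rh] Rh ⊗[R] E) ≃ₗ[R] Rh ⊗[R] H0 :=
    (LinearMap.liftBaseChangeEquiv Rh).symm.restrictScalars R ≪≫ₗ
      (LinearEquiv.refl R K).arrowCongr mkE.symm ≪≫ₗ eK ≪≫ₗ mkH
  have htor : LocCoh.IsPowerTorsion (maximalIdeal R) (Rh ⊗[R] H0) := fun y => by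
    obtain ⟨k, hk⟩ := htorH (mkH.symm y)
    exact ⟨k, fun c hc => mkH.symm.injective (by rw [map_smul, hk c hc, map_zero])⟩
  let Φ' : (Rh ⊗[R] K →ₗ[Rh] Rh ⊗[R] E) ≃ₗ[Rh] Rh ⊗[R] H0 :=
    { Φ with map_smul' := linear_of_torsion Φ htor }
  obtain ⟨ψ⟩ := Groth.L04.LC.nonempty_H_baseChange_equiv (R' := Rh) (maximalIdeal R) n R
  have hR : Nonempty (LocCoh.H ((maximalIdeal R).map (algebraMap R Rh)) n (Rh ⊗[R] R) ≃ₗ[Rh]
      LocCoh.H (maximalIdeal Rh) n Rh) := by
    rw [AdicCompletion.maximalIdeal_eq_map]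
    exact ⟨((localCohomology ((maximalIdeal R).map (algebraMap R Rh)) n).mapIso
      ((Algebra.TensorProduct.rid R Rh Rh).toLinearEquiv.toModuleIso)).toLinearEquiv⟩
  obtain ⟨ρ⟩ := hR
  exact ⟨g, hg, ⟨Φ' ≪≫ₗ ψ ≪≫ₗ ρ⟩⟩

/-- The completion of a canonical module is `Hom_S(R^, S)` for a Gorenstein model `S`. -/
theorem exists_model {n : ℕ} (hn : ringKrullDim R = n) {E : Type u} [AddCommGroup E] [Module R E]
    {f : ResidueField R →ₗ[R] E} (hf : IsInjectiveHull f) {K : Type u} [AddCommGroup K] [Module R K]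
    [Module.Finite R K] (eK : (K →ₗ[R] E) ≃ₗ[R] LocCoh.H (maximalIdeal R) n R) :
    ∃ (S : Type u) (_ : CommRing S) (_ : LocCoh.IsGorensteinLocalRing S) (_ : Algebra S Rh),
      Function.Surjective (algebraMap S Rh) ∧ ringKrullDim S = n ∧
      ∃ (H : Type u) (_ : AddCommGroup H) (_ : Module S H) (_ : Module Rh H) (_ : IsScalarTower S Rh H)
        (ev : H →ₗ[S] S), Function.Bijective (Groth.L04.coindToHom (B := Rh) ev) ∧
          Nonempty (Rh ⊗[R] K ≃ₗ[Rh] H) := by
  haveI := Groth.L01.AnalUnram.isNoetherianRing_completion R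
  haveI : IsAdicComplete (maximalIdeal Rh) Rh := by
    rw [AdicCompletion.maximalIdeal_eq_map]
    exact AdicCompletion.isAdicComplete_self _ (maximalIdeal R).fg_of_isNoetherianRing
  obtain ⟨g, hg, ⟨eh⟩⟩ := exists_completion_canon hf eK
  obtain ⟨S, _, _, φ, hφ, hS⟩ := exists_gorenstein_model_of_complete Rh (n := n)
    ((Groth.L01.CompletionReg.ringKrullDim_completion R).trans hn)
  letI : Algebra S Rh := φ.toAlgebra
  obtain ⟨H, _, _, _, _, ev, hev⟩ := exists_coind (R := Rh) hφ S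
  haveI := finite_coind (R := Rh) hφ hev
  obtain ⟨eH⟩ := nonempty_canon_coind hφ hev hS hg
  exact ⟨S, inferInstance, inferInstance, inferInstance, hφ, hS, H, inferInstance, inferInstance, inferInstance,
    inferInstance, ev, hev, nonempty_equiv_of_canon hg eh eH⟩

end Groth.L04.Canon
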