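import Groth.Agent.L04.Canon.Connected

/-!
# Connectedness of `V(I) ∖ Z` and of punctured spectra of quotients (complete local rings)
-/

set_option autoImplicit false
universe u

open IsLocalRing PrimeSpectrum

noncomputable section

namespace Groth.L04.Canon

open Groth.L10.FormCat Groth.L04.LC

variable {R : Type u} [CommRing R] [IsLocalRing R] [IsNoetherianRing R]

theorem qd_anti {p q : PrimeSpectrum R} (h : p ≤ q) : qd q ≤ qd p := by
  rcases h.lt_or_eq with h | h
  · exact (qd_lt h).le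
  · exact h ▸ le_rfl

theorem qd_le_quotDim {K : Ideal R} {q : PrimeSpectrum R} (hq : K ≤ q.asIdeal) :
    ((qd q : ℕ) : WithBot ℕ∞) ≤ ringKrullDim (R ⧸ K) :=
  le_trans (le_of_eq (((qd_eq_iff q _).2 rfl).symm))
    (ringKrullDim_le_of_surjective _ (Ideal.Quotient.factor_surjective hq))

/-- In a complete local domain a component of `V(J)` has dimension at least `dim R - cd J`. -/
theorem component_bound_domain [IsDomain R] [IsAdicComplete (maximalIdeal R) R] {n : ℕ}
    (hn : ringKrullDim R = n) {J : Ideal R} {k : ℕ} (hk : LocCoh.CdLE R J k) (q : PrimeSpectrum R)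
    (hq : q.asIdeal ∈ J.minimalPrimes) : n ≤ k + qd q := by
  classical
  have hfin : {r : PrimeSpectrum R | r.asIdeal ∈ J.minimalPrimes}.Finite :=
    J.finite_minimalPrimes_of_isNoetherianRing.preimage
      (fun a _ b _ h => PrimeSpectrum.ext h)
  let T := hfin.toFinset
  have hT : ∀ r : PrimeSpectrum R, r ∈ T ↔ r.asIdeal ∈ J.minimalPrimes := fun r => hfin.mem_toFinset
  obtain ⟨q₀, hq₀, hmin⟩ := T.exists_min_image qd ⟨q, (hT q).2 hq⟩
  have hqq : qd q₀ ≤ qd q := hmin q ((hT q).2 hq)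
  suffices n ≤ k + qd q₀ by omega
  have hinf : T.inf PrimeSpectrum.asIdeal = J.radical := by
    rw [← Ideal.sInf_minimalPrimes]
    refine le_antisymm (le_sInf fun p hp => ?_) (Finset.le_inf fun r hr => sInf_le ((hT r).1 hr))
    exact Finset.inf_le (f := PrimeSpectrum.asIdeal) ((hT ⟨p, hp.1.1⟩).2 hp)
  have hJ : J ≠ ⊤ := ne_top_of_le_ne_top q.2.ne_top hq.1.2
  rcases (T.erase q₀).eq_empty_or_nonempty with hT1 | hne
  · have hrad : J.radical = q₀.asIdeal := by
      rw [← hinf, ← Finset.insert_erase hq₀, hT1]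
      simp
    refine dim_le_cd_add hn (qd q₀) J k hJ (le_antisymm (quotDim_le_iff_forall.2 fun r hr => ?_)
      (qd_le_quotDim ((hT q₀).1 hq₀).1.2)) hk
    exact qd_anti (show q₀.asIdeal ≤ r.asIdeal from hrad ▸ r.2.radical_le_iff.2 hr)
  · set b := (T.erase q₀).inf PrimeSpectrum.asIdeal
    obtain ⟨q₁, hq₁⟩ := hne
    have hbq : b ≤ q₁.asIdeal := Finset.inf_le (f := PrimeSpectrum.asIdeal) hq₁
    have hb : b ≠ ⊤ := ne_top_of_le_ne_top q₁.2.ne_top hbq
    have hrad : (q₀.asIdeal ⊓ b).radical = J.radical := by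
      rw [show q₀.asIdeal ⊓ b = J.radical by rw [← hinf, ← Finset.inf_insert, Finset.insert_erase hq₀],
        Ideal.radical_idem]
    have hab : q₀.asIdeal ⊔ b ≠ ⊤ := ne_top_of_le_ne_top (maximalIdeal.isMaximal R).ne_top
      (sup_le (le_maximalIdeal q₀.2.ne_top) (le_maximalIdeal hb))
    obtain ⟨δ, hδ⟩ := exists_quotDim_eq hab
    have hlt : δ < qd q₀ := by
      have h' := hδ.ge
      rw [ringKrullDim_quotient] at h'
      obtain ⟨r, hr, hrn⟩ := exists_mem_le_qd _ h'
      have hr' : q₀.asIdeal ⊔ b ≤ r.asIdeal := hr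
      obtain ⟨r', hr'T, hr'r⟩ := (Ideal.IsPrime.inf_le' r.2).1 (le_sup_right.trans hr')
      have hne' : q₀ ≠ r := by
        rintro rfl
        rw [Finset.mem_erase] at hr'T
        exact hr'T.1 (PrimeSpectrum.ext (le_antisymm hr'r
          (((hT q₀).1 hq₀).2 ((hT r').1 hr'T.2).1 hr'r)))
      exact lt_of_le_of_lt hrn (qd_lt (lt_of_le_of_ne (show q₀.asIdeal ≤ r.asIdeal from le_sup_left.trans hr') hne'))
    have hδb : δ < qd q₁ := lt_of_lt_of_le hlt (hmin q₁ (Finset.mem_of_mem_erase hq₁))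
    have := faltings_domain hn δ q₀.asIdeal b k q₀.2.ne_top hb hδ
      (by rw [(qd_eq_iff q₀ _).2 rfl]; exact_mod_cast hlt)
      (lt_of_lt_of_le (by exact_mod_cast hδb) (qd_le_quotDim hbq))
      (cdLE_of_radical_eq hrad.symm hk)
    omega

/-- In a complete local ring a component of `V(J)` lies on a component of dimension at most `cd J` more. -/
theorem component_bound [IsAdicComplete (maximalIdeal R) R] {J : Ideal R} {k : ℕ}
    (hk : LocCoh.CdLE R J k) (q : PrimeSpectrum R) (hq : q.asIdeal ∈ J.minimalPrimes) :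
    ∃ p : PrimeSpectrum R, p.asIdeal ∈ minimalPrimes R ∧ p ≤ q ∧ qd p ≤ k + qd q := by
  obtain ⟨p, hp, hpq⟩ := Ideal.exists_minimalPrimes_le (I := (⊥ : Ideal R)) (J := q.asIdeal) bot_le
  refine ⟨⟨p, hp.1.1⟩, hp, hpq, ?_⟩
  haveI := hp.1.1
  haveI := Groth.L01.isLocalRing_quotient hp.1.1.ne_top
  haveI := Groth.L01.NagataComplete.isAdicComplete_quotient p
  haveI : (q.asIdeal.map (algebraMap R (R ⧸ p))).IsPrime :=
    Ideal.map_isPrime_of_surjective Ideal.Quotient.mk_surjective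
      (show RingHom.ker (Ideal.Quotient.mk p) ≤ q.asIdeal by rw [Ideal.mk_ker]; exact hpq)
  have hmin : q.asIdeal.map (algebraMap R (R ⧸ p)) ∈ (J.map (algebraMap R (R ⧸ p))).minimalPrimes := by
    refine ⟨⟨inferInstance, Ideal.map_mono hq.1.2⟩, fun Q ⟨hQ, hJQ⟩ hQq => ?_⟩
    haveI := hQ
    have h1 : q.asIdeal ≤ Q.comap (algebraMap R (R ⧸ p)) :=
      hq.2 ⟨inferInstance, Ideal.map_le_iff_le_comap.1 hJQ⟩ ((Ideal.comap_mono hQq).trans (le_of_eq
        (show (q.asIdeal.map (Ideal.Quotient.mk p)).comap (Ideal.Quotient.mk p) = q.asIdeal by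
          rw [Ideal.comap_map_of_surjective' _ Ideal.Quotient.mk_surjective, Ideal.mk_ker, sup_eq_left.2 hpq])))
    exact Ideal.map_le_iff_le_comap.2 h1
  have hqd : qd (⟨q.asIdeal.map (algebraMap R (R ⧸ p)), inferInstance⟩ : PrimeSpectrum (R ⧸ p)) = qd q := by
    refine (qd_eq_iff (⟨q.asIdeal.map (algebraMap R (R ⧸ p)), inferInstance⟩ : PrimeSpectrum (R ⧸ p)) _).1 ?_
    show ringKrullDim ((R ⧸ p) ⧸ q.asIdeal.map (algebraMap R (R ⧸ p))) = _
    rw [quotDim_map, sup_eq_left.2 hpq]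
    exact (qd_eq_iff q _).2 rfl
  have := component_bound_domain (R := R ⧸ p) (n := qd (⟨p, hp.1.1⟩ : PrimeSpectrum R))
    ((qd_eq_iff (⟨p, hp.1.1⟩ : PrimeSpectrum R) _).2 rfl) (cdLE_map (R' := R ⧸ p) J hk)
    ⟨q.asIdeal.map (algebraMap R (R ⧸ p)), inferInstance⟩ hmin
  rw [hqd] at this
  exact this

theorem closedPoint_mem_of_isClosed {C : Set (PrimeSpectrum R)} (hC : IsClosed C) {x : PrimeSpectrum R}
    (hx : x ∈ C) : closedPoint R ∈ C :=
  ((le_iff_specializes x (closedPoint R)).1 (le_maximalIdeal x.2.ne_top)).mem_closed hC hx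

/-- `V(I) ∖ Z` is connected when `Z` is small. -/
theorem isConnected_zeroLocus_diff [IsAdicComplete (maximalIdeal R) R] (I : Ideal R) (hI : I ≠ ⊤)
    (e : ℕ) (he : LocCoh.CdLE R I e) (Z : Set (PrimeSpectrum R)) (hZ : IsClosed Z)
    (hZI : Z ⊆ zeroLocus (I : Set R))
    (hdim : ∀ p ∈ minimalPrimes R,
      topologicalKrullDim Z + ((e + 1 : ℕ) : WithBot ℕ∞) < ringKrullDim (R ⧸ p))
    (hc : ∀ Z' : Set (PrimeSpectrum R), IsClosed Z' → ¬ _root_.IsConnected Z'ᶜ →
      topologicalKrullDim Z + ((e : ℕ) : WithBot ℕ∞) < topologicalKrullDim Z') :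
    _root_.IsConnected (zeroLocus (I : Set R) \ Z) := by
  classical
  have hmI : closedPoint R ∈ zeroLocus (I : Set R) := le_maximalIdeal hI
  rcases Z.eq_empty_or_nonempty with rfl | ⟨z, hz⟩
  · rw [Set.sdiff_empty]
    refine ⟨⟨_, hmI⟩, isPreconnected_closed_iff.2 fun t t' ht ht' _ ⟨x, _, hx⟩ ⟨y, _, hy⟩ => ?_⟩
    exact ⟨closedPoint R, hmI, closedPoint_mem_of_isClosed ht hx, closedPoint_mem_of_isClosed ht' hy⟩
  obtain ⟨c, hcZ⟩ := (isClosed_iff_zeroLocus_ideal Z).1 hZ
  subst hcZ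
  have hctop : c ≠ ⊤ := ne_top_of_le_ne_top z.2.ne_top hz
  obtain ⟨δ, hδ⟩ := exists_quotDim_eq hctop
  rw [topologicalKrullDim_zeroLocus, hδ] at hdim hc
  have hbig : ∀ p : PrimeSpectrum R, p.asIdeal ∈ minimalPrimes R → δ + e + 1 < qd p := fun p hp => by
    have h := hdim _ hp
    rw [(qd_eq_iff p _).2 rfl] at h
    have h' : δ + (e + 1) < qd p := by exact_mod_cast h
    omega
  refine ⟨?_, isPreconnected_closed_iff.2 fun t t' ht ht' hcov hnt hnt' => ?_⟩
  · by_contra hemp
    rw [Set.not_nonempty_iff_eq_empty, Set.sdiff_eq_empty] at hemp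
    obtain ⟨p, hp, -⟩ := Ideal.exists_minimalPrimes_le (I := (⊥ : Ideal R)) (J := maximalIdeal R) bot_le
    have h1 := qd_le_cd_add (⟨p, hp.1.1⟩ : PrimeSpectrum R) hI (δ := δ)
      (quotDim_le_iff_forall.2 fun r hr => qd_le_of_mem hδ.le (hemp (le_sup_left.trans hr : I ≤ r.asIdeal))) he
    have := hbig ⟨p, hp.1.1⟩ hp
    omega
  by_contra hne
  rw [Set.not_nonempty_iff_eq_empty] at hne
  let piece : Set (PrimeSpectrum R) → Ideal R := fun t =>
    vanishingIdeal ((t ∪ zeroLocus (c : Set R)) ∩ zeroLocus (I : Set R))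
  have hV : ∀ t, IsClosed t → zeroLocus (piece t : Set R) =
      (t ∪ zeroLocus (c : Set R)) ∩ zeroLocus (I : Set R) := fun t ht => by
    rw [zeroLocus_vanishingIdeal_eq_closure, ((ht.union (isClosed_zeroLocus _)).inter (isClosed_zeroLocus _)).closure_eq]
  have hinf : (piece t ⊓ piece t').radical = I.radical := by
    rw [← zeroLocus_eq_iff, zeroLocus_inf, hV t ht, hV t' ht', ← Set.union_inter_distrib_right,
      Set.inter_eq_right]
    intro x hx
    by_cases hxc : x ∈ zeroLocus (c : Set R)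
    · exact Or.inl (Or.inr hxc)
    · exact (hcov ⟨hx, hxc⟩).imp Or.inl Or.inl
  have hsupZ : zeroLocus ((piece t ⊔ piece t' : Ideal R) : Set R) = zeroLocus (c : Set R) := by
    rw [zeroLocus_sup, hV t ht, hV t' ht']
    ext x
    constructor
    · rintro ⟨⟨hxt, hxI⟩, hxt', -⟩
      by_contra hxc
      exact (hne.subset ⟨⟨hxI, hxc⟩, hxt.resolve_right hxc, hxt'.resolve_right hxc⟩).elim
    · exact fun hx => ⟨⟨Or.inr hx, hZI hx⟩, Or.inr hx, hZI hx⟩
  have hsupdim : ringKrullDim (R ⧸ (piece t ⊔ piece t')) = δ := by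
    rw [← topologicalKrullDim_zeroLocus, hsupZ, topologicalKrullDim_zeroLocus, hδ]
  have hlarge : ∀ t t', IsClosed t → IsClosed t' →
      zeroLocus (I : Set R) \ zeroLocus (c : Set R) ⊆ t ∪ t' →
      (zeroLocus (I : Set R) \ zeroLocus (c : Set R) ∩ (t ∩ t')) = ∅ →
      (zeroLocus (I : Set R) \ zeroLocus (c : Set R) ∩ t).Nonempty →
      piece t ≠ ⊤ ∧ (δ : WithBot ℕ∞) < ringKrullDim (R ⧸ piece t) := by
    rintro t t' ht ht' hcov hne ⟨x, ⟨hxI, hxc⟩, hxt⟩
    obtain ⟨q, hq, hqx⟩ := Ideal.exists_minimalPrimes_le (I := I) (J := x.asIdeal) hxI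
    let Q : PrimeSpectrum R := ⟨q, hq.1.1⟩
    have hQI : Q ∈ zeroLocus (I : Set R) := hq.1.2
    have hspec : Q ⤳ x := (le_iff_specializes Q x).1 hqx
    have hQc : Q ∉ zeroLocus (c : Set R) := fun h => hxc (hspec.mem_closed (isClosed_zeroLocus _) h)
    have hQt : Q ∈ t := (hcov ⟨hQI, hQc⟩).resolve_right fun h =>
      (hne.subset ⟨⟨hxI, hxc⟩, hxt, hspec.mem_closed ht' h⟩).elim
    have hQa : piece t ≤ Q.asIdeal :=
      (show Q ∈ zeroLocus (piece t : Set R) from (hV t ht) ▸ ⟨Or.inl hQt, hQI⟩)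
    obtain ⟨p, hp, -, hpd⟩ := component_bound he Q hq
    have h1 := hbig p hp
    exact ⟨ne_top_of_le_ne_top Q.2.ne_top hQa,
      lt_of_lt_of_le (by exact_mod_cast (show δ < qd Q by omega)) (qd_le_quotDim hQa)⟩
  obtain ⟨hatop, hda⟩ := hlarge t t' ht ht' hcov hne hnt
  obtain ⟨hbtop, hdb⟩ := hlarge t' t ht' ht (Set.union_comm t t' ▸ hcov) (Set.inter_comm t t' ▸ hne) hnt'
  have hmain := connectedness (piece t) (piece t') hatop hbtop hsupdim hda hdb
    (cdLE_of_radical_eq hinf.symm he)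
  rcases min_le_iff.1 hmain with h | h
  · obtain ⟨Z', hZ', hnc, hdZ'⟩ := exists_connDim_eq (T := PrimeSpectrum R)
    have h1 := hc Z' hZ' hnc
    obtain ⟨c', rfl⟩ := (isClosed_iff_zeroLocus_ideal Z').1 hZ'
    rw [topologicalKrullDim_zeroLocus] at h1 hdZ'
    have hc' : c' ≠ ⊤ := by
      rintro rfl
      haveI : Subsingleton (R ⧸ (⊤ : Ideal R)) := Ideal.Quotient.subsingleton_iff.2 rfl
      rw [ringKrullDim_eq_bot_of_subsingleton] at h1
      exact not_lt_bot h1
    obtain ⟨D, hD⟩ := exists_quotDim_eq hc'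
    rw [hD] at h1 hdZ'
    rw [← hdZ'] at h
    have h1' : δ + e < D := by exact_mod_cast h1
    have h' : D + 1 ≤ δ + e + 1 := by exact_mod_cast h
    omega
  · have hlow : ((δ + e + 2 : ℕ) : WithBot ℕ∞) ≤ LocCoh.subdim (PrimeSpectrum R) := by
      refine le_iInf₂ fun C hC => ?_
      rw [← zeroLocus_minimalPrimes] at hC
      obtain ⟨p, hp, rfl⟩ := hC
      rw [Function.comp_apply, topologicalKrullDim_zeroLocus]
      refine le_trans ?_ (qd_le_quotDim (q := (⟨p, hp.1.1⟩ : PrimeSpectrum R)) le_rfl)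
      have := hbig ⟨p, hp.1.1⟩ hp
      exact_mod_cast this
    have : δ + e + 2 ≤ δ + e + 1 := by exact_mod_cast hlow.trans h
    omega

section Punctured

/-- The punctured part of `V(K)`. -/
def punct (K : Ideal R) : Set (PrimeSpectrum R) := zeroLocus (K : Set R) \ {closedPoint R}

omit [IsNoetherianRing R] in
theorem isOpen_compl_closedPoint : IsOpen ({closedPoint R}ᶜ : Set (PrimeSpectrum R)) :=
  (IsLocalRing.isClosed_singleton_closedPoint (R := R)).isOpen_compl

theorem topologicalKrullDim_punct (K : Ideal R) :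
    topologicalKrullDim (punct K) = Order.krullDim (punct K) := by
  haveI : QuasiSober (punct K) :=
    haveI : QuasiSober (zeroLocus (K : Set R)) :=
      (isClosed_zeroLocus _).isClosedEmbedding_subtypeVal.quasiSober
    Topology.IsOpenEmbedding.quasiSober
      (f := Set.inclusion (show punct K ⊆ zeroLocus (K : Set R) from fun x hx => hx.1))
      ⟨Topology.IsEmbedding.inclusion _, by
        rw [Set.range_inclusion]
        convert! (isOpen_compl_closedPoint (R := R)).preimage continuous_subtype_val using 1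
        ext x
        exact ⟨fun h => h.2, fun h => ⟨x.2, h⟩⟩⟩
  let φ : punct K ≃o (TopologicalSpace.IrreducibleCloseds (punct K))ᵒᵈ :=
    { toEquiv := irreducibleSetEquivPoints.toEquiv.symm.trans OrderDual.toDual
      map_rel_iff' := fun {p q} => (RelIso.symm irreducibleSetEquivPoints).map_rel_iff.trans
        ((subtype_specializes_iff p q).trans (le_iff_specializes p.1 q.1).symm) }
  rw [Order.krullDim_eq_of_orderIso φ, Order.krullDim_orderDual]
  rfl

theorem le_dim_punct {K : Ideal R} {x : PrimeSpectrum R} (hx : x ∈ punct K) {n : ℕ}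
    (h : n + 1 ≤ qd x) : (n : WithBot ℕ∞) ≤ topologicalKrullDim (punct K) := by
  rw [topologicalKrullDim_punct]
  obtain ⟨s, hs, hsl⟩ := Order.exists_series_of_le_coheight x (n := n + 1)
    (le_trans (by exact_mod_cast h) (ENat.natCast_toNat_le_self _))
  have hmem : ∀ i : Fin (n + 1), s ⟨i.1, by omega⟩ ∈ punct K := fun i => by
    refine ⟨hx.1.trans (hs ▸ s.head_le _ : x.asIdeal ≤ _), fun hm => ?_⟩
    have hlt : s ⟨i.1, by omega⟩ < s.last := s.strictMono (show (⟨i.1, by omega⟩ : Fin (s.length + 1)) < Fin.last _ from Fin.lt_def.2 (show i.1 < s.length by omega))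
    rw [Set.mem_singleton_iff.1 hm] at hlt
    exact hlt.not_ge (le_maximalIdeal s.last.2.ne_top)
  exact Order.le_krullDim_iff.2 ⟨LTSeries.mk n (fun i => ⟨_, hmem i⟩)
    (fun i j hij => show s _ < s _ from s.strictMono (Fin.lt_def.2 (by simpa using hij))), rfl⟩

theorem dim_punct_le {K : Ideal R} {n : ℕ} (h : ∀ x ∈ punct K, qd x ≤ n + 1) :
    topologicalKrullDim (punct K) ≤ (n : WithBot ℕ∞) := by
  rw [topologicalKrullDim_punct]
  refine iSup_le fun l => ?_
  have hmono : StrictMono (Subtype.val : punct K → PrimeSpectrum R) := Subtype.strictMono_coe _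
  let s : LTSeries (PrimeSpectrum R) := LTSeries.map l Subtype.val hmono
  have hlast : s.last < closedPoint R := by
    show (LTSeries.map l Subtype.val hmono).last < _
    rw [LTSeries.last_map]
    exact lt_of_le_of_ne (le_maximalIdeal l.last.1.2.ne_top) l.last.2.2
  have h1 := qd_add_length_le (s.snoc (closedPoint R) hlast)
  simp only [RelSeries.last_snoc, RelSeries.head_snoc, RelSeries.snoc_length] at h1
  have h2 : qd s.head ≤ n + 1 := h _ (show (LTSeries.map l Subtype.val hmono).head ∈ punct K by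
    rw [LTSeries.head_map]; exact l.head.2)
  have h3 : s.length = l.length := rfl
  exact_mod_cast (show l.length ≤ n by omega)

theorem zeroLocus_eq_of_punct (K : Ideal R) (hK : K ≠ ⊤) :
    zeroLocus (K : Set R) = insert (closedPoint R) (punct K) := by
  rw [punct, Set.insert_sdiff_singleton, Set.insert_eq_of_mem]
  exact le_maximalIdeal hK

end Punctured

end Groth.L04.Canon
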