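import Groth.Agent.L04.Canon.ConnPunctured
import Groth.Prelude.Def_FEt
import Groth.Prelude.Def_LefX

/-!
# Connectedness in dimension `≥ k` passes to hyperplane sections of the punctured spectrum
-/

set_option autoImplicit false
universe u

open IsLocalRing PrimeSpectrum TopologicalSpace

noncomputable section

namespace Groth.L04.Canon

open Groth.L10.FormCat Groth.L04.LC

variable (A : Type u) [CommRing A] [IsLocalRing A] [IsNoetherianRing A]

/-- The punctured spectrum as a subspace of `Spec A`. -/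
def puncVal : ↥(FEt.puncturedSpec A) → PrimeSpectrum A := fun x => x.1

omit [IsNoetherianRing A] in
theorem isEmbedding_puncVal : Topology.IsEmbedding (puncVal A) :=
  Topology.IsEmbedding.subtypeVal

omit [IsNoetherianRing A] in
theorem range_puncVal : Set.range (puncVal A) = ({closedPoint A}ᶜ : Set (PrimeSpectrum A)) :=
  Subtype.range_coe

variable {A}

theorem qd_closedPoint : qd (closedPoint A) = 0 := by
  have h : IsMax (closedPoint A) := fun q _ => le_maximalIdeal q.2.ne_top
  simp [qd, Order.coheight_eq_zero.2 h]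

theorem dim_image_puncVal (Z : Set ↥(FEt.puncturedSpec A)) :
    topologicalKrullDim (puncVal A '' Z) = topologicalKrullDim Z :=
  (((isEmbedding_puncVal A).homeomorphImage Z).isHomeomorph.topologicalKrullDim_eq _).symm

theorem two_le_qd_of_components {k : ℕ} (hk : 1 ≤ k)
    (ha : ∀ Z ∈ irreducibleComponents ↥(FEt.puncturedSpec A),
      ((k + 1 : ℕ) : WithBot ℕ∞) ≤ topologicalKrullDim ↥Z)
    (hb : LefX.ConnectedInDim ↥(FEt.puncturedSpec A) k)
    (p : PrimeSpectrum A) (hp : p.asIdeal ∈ minimalPrimes A) : k + 2 ≤ qd p := by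
  by_contra hlt
  have hmin : ∀ q : PrimeSpectrum A, q ≤ p → q = p := fun q hq =>
    le_antisymm hq (hp.2 ⟨q.2, bot_le⟩ hq)
  by_cases hpm : p = closedPoint A
  · have hall : ∀ q : PrimeSpectrum A, q = closedPoint A := fun q =>
      (hmin q (hpm ▸ le_maximalIdeal q.2.ne_top)).trans hpm
    have hconn := hb ∅ isClosed_empty (by
      haveI : IsEmpty (TopologicalSpace.IrreducibleCloseds ↥(∅ : Set ↥(FEt.puncturedSpec A))) :=
        ⟨fun s => s.isIrreducible.nonempty.elim fun y _ => y.2⟩
      rw [topologicalKrullDim, Order.krullDim_eq_bot]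
      exact WithBot.bot_lt_coe _)
    obtain ⟨x, -⟩ := hconn.nonempty
    exact x.2 (hall x.1)
  let x : ↥(FEt.puncturedSpec A) := ⟨p, hpm⟩
  have hirr : IsIrreducible (closure {x}) := isIrreducible_singleton.closure
  have hcomp : closure {x} ∈ irreducibleComponents ↥(FEt.puncturedSpec A) := by
    refine ⟨hirr, fun T hT hle => ?_⟩
    have hT' : IsIrreducible (puncVal A '' T) :=
      IsIrreducible.image hT _ (isEmbedding_puncVal A).continuous.continuousOn
    obtain ⟨q, hq⟩ : ∃ q, IsGenericPoint q (closure (puncVal A '' T)) :=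
      ⟨_, hT'.isGenericPoint_genericPoint_closure⟩
    have hxT : p ∈ closure (puncVal A '' T) :=
      subset_closure ⟨x, hle (subset_closure rfl), rfl⟩
    have hqp : q = p := hmin q ((le_iff_specializes q p).2 (hq.specializes hxT))
    intro y hy
    rw [(isEmbedding_puncVal A).isInducing.closure_eq_preimage_closure_image, Set.image_singleton]
    show puncVal A y ∈ closure {p}
    rw [← hqp]
    exact hq.def.symm ▸ subset_closure ⟨y, hy, rfl⟩
  have hsub : puncVal A '' closure {x} ⊆ punct p.asIdeal := by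
    rintro _ ⟨y, hy, rfl⟩
    refine ⟨?_, y.2⟩
    have := image_closure_subset_closure_image (isEmbedding_puncVal A).continuous ⟨y, hy, rfl⟩
    rw [Set.image_singleton] at this
    exact (le_iff_specializes p y.1).2 (specializes_iff_mem_closure.2 this)
  have h1 := (ha _ hcomp).trans ((dim_image_puncVal _).ge.trans ((topologicalKrullDim_mono hsub).trans
    (dim_punct_le (n := k) fun z hz => (qd_anti (show p ≤ z from hz.1)).trans (by omega))))
  exact absurd (show k + 1 ≤ k by exact_mod_cast h1) (by omega)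

theorem lt_dim_of_not_isConnected_compl {k : ℕ} (hk : 1 ≤ k)
    (hb : LefX.ConnectedInDim ↥(FEt.puncturedSpec A) k) {W : Set (PrimeSpectrum A)} (hW : IsClosed W)
    (hnc : ¬ _root_.IsConnected Wᶜ) : (k : WithBot ℕ∞) < topologicalKrullDim W := by
  have hmW : closedPoint A ∈ W := by
    by_contra hmW
    have : W = ∅ := Set.eq_empty_of_forall_notMem fun x hx => hmW (closedPoint_mem_of_isClosed hW hx)
    subst this
    refine hnc ⟨⟨closedPoint A, hmW⟩, isPreconnected_closed_iff.2 fun t t' ht ht' _ ⟨x, _, hx⟩ ⟨y, _, hy⟩ => ?_⟩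
    exact ⟨closedPoint A, hmW, closedPoint_mem_of_isClosed ht hx, closedPoint_mem_of_isClosed ht' hy⟩
  obtain ⟨c, rfl⟩ := (isClosed_iff_zeroLocus_ideal W).1 hW
  rw [topologicalKrullDim_zeroLocus]
  by_contra hle
  rw [not_lt] at hle
  let Z : Set ↥(FEt.puncturedSpec A) := puncVal A ⁻¹' zeroLocus (c : Set A)
  have himg : puncVal A '' Z = punct c := by
    rw [Set.image_preimage_eq_inter_range, range_puncVal]
    rfl
  have hdim : topologicalKrullDim Z < (k : WithBot ℕ∞) := by
    rw [← dim_image_puncVal, himg]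
    refine (dim_punct_le (n := k - 1) fun z hz => ?_).trans_lt (by exact_mod_cast (show k - 1 < k by omega))
    exact (qd_le_of_mem hle hz.1).trans (by omega)
  have h := (hb Z (hW.preimage (isEmbedding_puncVal A).continuous) hdim).image (puncVal A)
    (isEmbedding_puncVal A).continuous.continuousOn
  refine hnc ?_
  convert! h using 1
  rw [← Set.preimage_compl, Set.image_preimage_eq_inter_range, range_puncVal, eq_comm, Set.inter_eq_left]
  exact fun y hy hy' => hy (Set.mem_singleton_iff.1 hy' ▸ hmW)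

variable (J : Ideal A) [IsLocalRing (A ⧸ J)]

/-- The punctured spectrum of `A ⧸ J` inside `Spec A`. -/
def quotVal : ↥(FEt.puncturedSpec (A ⧸ J)) → PrimeSpectrum A :=
  PrimeSpectrum.comap (Ideal.Quotient.mk J) ∘ puncVal (A ⧸ J)

theorem comap_closedPoint_quot : PrimeSpectrum.comap (Ideal.Quotient.mk J) (closedPoint (A ⧸ J)) = closedPoint A := by
  haveI : IsLocalHom (Ideal.Quotient.mk J) :=
    IsLocalHom.of_surjective _ Ideal.Quotient.mk_surjective
  exact IsLocalRing.comap_closedPoint (Ideal.Quotient.mk J)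

omit [IsNoetherianRing A] in
theorem isEmbedding_quotVal : Topology.IsEmbedding (quotVal J) :=
  ((isClosedEmbedding_comap_of_surjective (A ⧸ J) (Ideal.Quotient.mk J)
    Ideal.Quotient.mk_surjective).isEmbedding).comp (isEmbedding_puncVal (A ⧸ J))

theorem range_quotVal : Set.range (quotVal J) = punct J := by
  rw [quotVal, Set.range_comp, range_puncVal, Set.compl_eq_univ_sdiff,
    Set.image_sdiff (isClosedEmbedding_comap_of_surjective (A ⧸ J) (Ideal.Quotient.mk J)
      Ideal.Quotient.mk_surjective).injective, Set.image_univ, Set.image_singleton, comap_closedPoint_quot,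
    range_comap_of_surjective _ _ Ideal.Quotient.mk_surjective, Ideal.mk_ker]
  rfl

theorem dim_image_quotVal (Z : Set ↥(FEt.puncturedSpec (A ⧸ J))) :
    topologicalKrullDim (quotVal J '' Z) = topologicalKrullDim Z :=
  (((isEmbedding_quotVal J).homeomorphImage Z).isHomeomorph.topologicalKrullDim_eq _).symm

theorem le_dim_component [IsAdicComplete (maximalIdeal A) A] {k m : ℕ} (hk : 1 ≤ k) (hmk : m ≤ k)
    (hJ : LocCoh.CdLE A J m)
    (ha : ∀ Z ∈ irreducibleComponents ↥(FEt.puncturedSpec A),
      ((k + 1 : ℕ) : WithBot ℕ∞) ≤ topologicalKrullDim ↥Z)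
    (hb : LefX.ConnectedInDim ↥(FEt.puncturedSpec A) k)
    (Z : Set ↥(FEt.puncturedSpec (A ⧸ J))) (hZ : Z ∈ irreducibleComponents ↥(FEt.puncturedSpec (A ⧸ J))) :
    ((k - m + 1 : ℕ) : WithBot ℕ∞) ≤ topologicalKrullDim ↥Z := by
  have hZc : IsClosed Z := isClosed_of_mem_irreducibleComponents Z hZ
  have hind := (isEmbedding_quotVal J).isInducing
  have hZ' : IsIrreducible (quotVal J '' Z) :=
    IsIrreducible.image hZ.1 _ (isEmbedding_quotVal J).continuous.continuousOn
  obtain ⟨q, hq⟩ : ∃ q, IsGenericPoint q (closure (quotVal J '' Z)) :=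
    ⟨_, hZ'.isGenericPoint_genericPoint_closure⟩
  have hqz : ∀ z ∈ Z, q ≤ quotVal J z := fun z hz =>
    (le_iff_specializes q _).2 (hq.specializes (subset_closure ⟨z, hz, rfl⟩))
  have hqJ : q ∈ punct J := by
    refine ⟨?_, fun hqm => ?_⟩
    · exact closure_minimal ((Set.image_subset_range _ _).trans ((range_quotVal J).le.trans fun y hy => hy.1))
        (isClosed_zeroLocus _) hq.mem
    · obtain ⟨z, hz⟩ := hZ.1.1
      have h1 : quotVal J z ∈ punct J := range_quotVal J ▸ Set.mem_range_self z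
      exact h1.2 (le_antisymm (le_maximalIdeal (quotVal J z).2.ne_top)
        (Set.mem_singleton_iff.1 hqm ▸ hqz z hz) : quotVal J z = closedPoint A)
  have hmin : q.asIdeal ∈ J.minimalPrimes := by
    refine ⟨⟨q.2, hqJ.1⟩, fun r ⟨hr, hJr⟩ hrq => ?_⟩
    have hrJ : (⟨r, hr⟩ : PrimeSpectrum A) ∈ punct J := by
      refine ⟨hJr, fun hrm => hqJ.2 ?_⟩
      exact le_antisymm (le_maximalIdeal q.2.ne_top) ((Set.mem_singleton_iff.1 hrm).ge.trans hrq)
    rw [← range_quotVal J] at hrJ
    obtain ⟨w, hw⟩ := hrJ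
    have hwZ : Z ⊆ closure {w} := fun z hz => by
      rw [hind.closure_eq_preimage_closure_image, Set.image_singleton, Set.mem_preimage,
        ← specializes_iff_mem_closure, ← le_iff_specializes, hw]
      exact le_trans (show (⟨r, hr⟩ : PrimeSpectrum A) ≤ q from hrq) (hqz z hz)
    have hfin := hqz w (hZ.2 isIrreducible_singleton.closure hwZ (subset_closure rfl))
    rw [hw] at hfin
    exact hfin
  obtain ⟨p, hp, -, hpd⟩ := component_bound hJ q hmin
  have h1 := two_le_qd_of_components hk ha hb p hp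
  have himg : punct q.asIdeal ⊆ quotVal J '' Z := by
    intro y hy
    have hyJ : y ∈ punct J := ⟨fun a h => hy.1 (hqJ.1 h), hy.2⟩
    rw [← range_quotVal J] at hyJ
    obtain ⟨z, rfl⟩ := hyJ
    refine ⟨z, ?_, rfl⟩
    rw [← hZc.closure_eq, hind.closure_eq_preimage_closure_image]
    exact ((le_iff_specializes q _).1 hy.1).mem_closed isClosed_closure hq.mem
  rw [← dim_image_quotVal J Z]
  exact (le_dim_punct (x := q) ⟨le_refl q.asIdeal, hqJ.2⟩ (by omega)).trans (topologicalKrullDim_mono himg)

theorem connectedInDim_quot [IsAdicComplete (maximalIdeal A) A] {k m : ℕ} (hk : 1 ≤ k) (hmk : m ≤ k)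
    (hJ : LocCoh.CdLE A J m)
    (ha : ∀ Z ∈ irreducibleComponents ↥(FEt.puncturedSpec A),
      ((k + 1 : ℕ) : WithBot ℕ∞) ≤ topologicalKrullDim ↥Z)
    (hb : LefX.ConnectedInDim ↥(FEt.puncturedSpec A) k) :
    LefX.ConnectedInDim ↥(FEt.puncturedSpec (A ⧸ J)) (k - m) := by
  intro Z hZ hdimZ
  have hJtop : J ≠ ⊤ := Ideal.Quotient.nontrivial_iff.1 inferInstance
  let C : Set (PrimeSpectrum A) := insert (closedPoint A) (closure (quotVal J '' Z))
  have hC : IsClosed C := (IsLocalRing.isClosed_singleton_closedPoint (R := A)).union isClosed_closure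
  have hCJ : C ⊆ zeroLocus (J : Set A) := Set.insert_subset (le_maximalIdeal hJtop)
    (closure_minimal ((Set.image_subset_range _ _).trans ((range_quotVal J).le.trans fun y hy => hy.1))
      (isClosed_zeroLocus _))
  have hCZ : ∀ y ∈ C, y ≠ closedPoint A → y ∈ quotVal J '' Z := by
    rintro y hy hym
    have hyJ : y ∈ punct J := ⟨hCJ hy, hym⟩
    rw [← range_quotVal J] at hyJ
    obtain ⟨z, rfl⟩ := hyJ
    refine ⟨z, ?_, rfl⟩
    rw [← hZ.closure_eq, (isEmbedding_quotVal J).isInducing.closure_eq_preimage_closure_image]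
    exact hy.resolve_left hym
  obtain ⟨c, hc⟩ := (isClosed_iff_zeroLocus_ideal C).1 hC
  have hctop : c ≠ ⊤ := ne_top_of_le_ne_top (maximalIdeal.isMaximal A).ne_top
    (show closedPoint A ∈ zeroLocus (c : Set A) from hc ▸ Set.mem_insert _ _)
  obtain ⟨δ, hδ⟩ := exists_quotDim_eq hctop
  have hδle : δ ≤ k - m := by
    by_contra hlt
    have h' := hδ.ge
    rw [ringKrullDim_quotient] at h'
    obtain ⟨x, hx, hxd⟩ := exists_mem_le_qd _ h'
    have hxm : x ≠ closedPoint A := by
      rintro rfl
      rw [qd_closedPoint] at hxd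
      omega
    have hsub : punct c ⊆ quotVal J '' Z := fun y hy => hCZ y (hc ▸ hy.1) hy.2
    have h1 := (le_dim_punct (K := c) (x := x) ⟨hx, hxm⟩ (n := k - m) (by omega)).trans
      (topologicalKrullDim_mono hsub)
    rw [dim_image_quotVal] at h1
    exact absurd (h1.trans_lt hdimZ) (lt_irrefl _)
  have hdC : topologicalKrullDim C = (δ : WithBot ℕ∞) := by rw [hc, topologicalKrullDim_zeroLocus, hδ]
  have hmain := isConnected_zeroLocus_diff J hJtop m hJ C hC hCJ (fun p hp => by
    haveI := hp.1.1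
    have := two_le_qd_of_components hk ha hb ⟨p, hp.1.1⟩ hp
    rw [hdC, (qd_eq_iff (⟨p, hp.1.1⟩ : PrimeSpectrum A) _).2 rfl]
    exact_mod_cast (show δ + (m + 1) < qd (⟨p, hp.1.1⟩ : PrimeSpectrum A) by omega)) (fun W hW hnc => by
    rw [hdC]
    refine lt_of_le_of_lt ?_ (lt_dim_of_not_isConnected_compl hk hb hW hnc)
    exact_mod_cast (show δ + m ≤ k by omega))
  have himg : quotVal J '' Zᶜ = zeroLocus (J : Set A) \ C := by
    ext y
    constructor
    · rintro ⟨z, hz, rfl⟩
      have hzJ : quotVal J z ∈ punct J := range_quotVal J ▸ Set.mem_range_self z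
      refine ⟨hzJ.1, fun hzC => hz ?_⟩
      obtain ⟨z', hz', he⟩ := hCZ _ hzC hzJ.2
      exact (isEmbedding_quotVal J).injective he ▸ hz'
    · rintro ⟨hyJ, hyC⟩
      have hym : y ≠ closedPoint A := fun h => hyC (Or.inl h)
      obtain ⟨z, rfl⟩ : y ∈ Set.range (quotVal J) := by rw [range_quotVal]; exact ⟨hyJ, hym⟩
      exact ⟨z, fun hz => hyC (Or.inr (subset_closure ⟨z, hz, rfl⟩)), rfl⟩
  rw [← himg] at hmain
  exact ⟨Set.image_nonempty.1 hmain.1,
    ((isEmbedding_quotVal J).isInducing.isPreconnected_image).1 hmain.2⟩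

end Groth.L04.Canon
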