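import Groth.Prelude.Def_W4bk5brsh7111920
import Mathlib.Topology.NoetherianSpace
import Mathlib.Topology.KrullDimension

/-!
# Connectedness dimension of a Noetherian space and partitions of its components
-/

set_option autoImplicit false
universe u

open TopologicalSpace

namespace Groth.L04.Canon

variable {T : Type u} [TopologicalSpace T]

theorem topologicalKrullDim_mono {s t : Set T} (h : s ⊆ t) :
    topologicalKrullDim s ≤ topologicalKrullDim t :=
  (Topology.IsEmbedding.inclusion h).isInducing.topologicalKrullDim_le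

theorem not_isConnected_compl_inter {U V : Set T} (hU : IsClosed U) (hV : IsClosed V)
    (huniv : U ∪ V = Set.univ) (hUV : ¬ U ⊆ V) (hVU : ¬ V ⊆ U) : ¬ IsConnected (U ∩ V)ᶜ := by
  intro h
  obtain ⟨x, hxU, hxV⟩ := Set.not_subset.1 hUV
  obtain ⟨y, hyV, hyU⟩ := Set.not_subset.1 hVU
  obtain ⟨z, hz, hzUV⟩ := isPreconnected_closed_iff.1 h.isPreconnected U V hU hV
    (fun z _ => huniv ▸ Set.mem_univ z) ⟨x, fun h => hxV h.2, hxU⟩ ⟨y, fun h => hyU h.1, hyV⟩
  exact hz hzUV

variable [NoetherianSpace T]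

theorem isClosed_sUnion_components {A : Set (Set T)} (hA : A ⊆ irreducibleComponents T) :
    IsClosed (⋃₀ A) := by
  rw [Set.sUnion_eq_biUnion]
  exact (NoetherianSpace.finite_irreducibleComponents.subset hA).isClosed_biUnion fun C hC =>
    isClosed_of_mem_irreducibleComponents C (hA hC)

theorem mem_of_subset_sUnion_components {A : Set (Set T)} (hA : A ⊆ irreducibleComponents T) {C : Set T}
    (hC : C ∈ irreducibleComponents T) (h : C ⊆ ⋃₀ A) : C ∈ A := by
  classical
  have hfin := NoetherianSpace.finite_irreducibleComponents.subset hA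
  obtain ⟨C', hC', hle⟩ := isIrreducible_iff_sUnion_isClosed.1 hC.1 hfin.toFinset
    (fun z hz => isClosed_of_mem_irreducibleComponents z (hA (hfin.mem_toFinset.1 hz)))
    (by simpa using h)
  have hC'' := hfin.mem_toFinset.1 hC'
  rwa [le_antisymm hle (hC.2 (hA hC'').1 hle)]

theorem sUnion_union_eq_univ {A B : Set (Set T)} (h : A ∪ B = irreducibleComponents T) :
    ⋃₀ A ∪ ⋃₀ B = Set.univ := by
  rw [← Set.sUnion_union, h, sUnion_irreducibleComponents]

theorem not_isConnected_compl_of_partition {A B : Set (Set T)} (hdisj : Disjoint A B) (hAne : A.Nonempty)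
    (hBne : B.Nonempty) (h : A ∪ B = irreducibleComponents T) : ¬ IsConnected (⋃₀ A ∩ ⋃₀ B)ᶜ := by
  have hA : A ⊆ irreducibleComponents T := h ▸ Set.subset_union_left
  have hB : B ⊆ irreducibleComponents T := h ▸ Set.subset_union_right
  refine not_isConnected_compl_inter (isClosed_sUnion_components hA) (isClosed_sUnion_components hB)
    (sUnion_union_eq_univ h) (fun hle => ?_) fun hle => ?_
  · obtain ⟨C, hC⟩ := hAne
    exact Set.disjoint_left.1 hdisj hC
      (mem_of_subset_sUnion_components hB (hA hC) ((Set.subset_sUnion_of_mem hC).trans hle))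
  · obtain ⟨C, hC⟩ := hBne
    exact Set.disjoint_left.1 hdisj
      (mem_of_subset_sUnion_components hA (hB hC) ((Set.subset_sUnion_of_mem hC).trans hle)) hC

/-- A closed set with disconnected nonempty complement contains the overlap of a partition of the components. -/
theorem exists_partition {Z : Set T} (hZ : IsClosed Z) (hne : Zᶜ.Nonempty) (h : ¬ IsConnected Zᶜ) :
    ∃ A B : Set (Set T), Disjoint A B ∧ A.Nonempty ∧ B.Nonempty ∧ A ∪ B = irreducibleComponents T ∧
      ⋃₀ A ∩ ⋃₀ B ⊆ Z := by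
  have hp : ¬ IsPreconnected Zᶜ := fun hp => h ⟨hne, hp⟩
  rw [isPreconnected_closed_iff] at hp
  push Not at hp
  obtain ⟨t, t', ht, ht', hcov, hnt, hnt', hemp⟩ := hp
  let A := {C | C ∈ irreducibleComponents T ∧ C ⊆ t ∪ Z}
  let B := {C | C ∈ irreducibleComponents T ∧ ¬ C ⊆ t ∪ Z}
  have hB : ∀ C ∈ B, C ⊆ t' := fun C hC => by
    rcases isPreirreducible_iff_isClosed_union_isClosed.1 hC.1.1.isPreirreducible (t ∪ Z) t' (ht.union hZ) ht'
      (fun x _ => by
        by_cases hx : x ∈ Z
        · exact Or.inl (Or.inr hx)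
        · exact (hcov hx).imp Or.inl id) with h1 | h1
    · exact absurd h1 hC.2
    · exact h1
  refine ⟨A, B, Set.disjoint_left.2 fun C h1 h2 => h2.2 h1.2, ?_, ?_, ?_, ?_⟩
  · obtain ⟨x, hxZ, hxt⟩ := hnt
    obtain ⟨C, hC, hxC⟩ := Set.mem_sUnion.1 ((sUnion_irreducibleComponents (X := T)).symm ▸ Set.mem_univ x :
      x ∈ ⋃₀ irreducibleComponents T)
    refine ⟨C, hC, by_contra fun hne => ?_⟩
    exact Set.notMem_empty x (hemp ▸ ⟨hxZ, hxt, hB C ⟨hC, hne⟩ hxC⟩)
  · obtain ⟨x, hxZ, hxt⟩ := hnt'
    obtain ⟨C, hC, hxC⟩ := Set.mem_sUnion.1 ((sUnion_irreducibleComponents (X := T)).symm ▸ Set.mem_univ x :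
      x ∈ ⋃₀ irreducibleComponents T)
    refine ⟨C, hC, fun hle => ?_⟩
    exact Set.notMem_empty x (hemp ▸ ⟨hxZ, (hle hxC).resolve_right hxZ, hxt⟩)
  · exact Set.ext fun C => ⟨fun h => h.elim And.left And.left,
      fun h => (em (C ⊆ t ∪ Z)).imp (fun h' => ⟨h, h'⟩) fun h' => ⟨h, h'⟩⟩
  · rintro x ⟨hxA, hxB⟩
    obtain ⟨C, hC, hxC⟩ := hxA
    obtain ⟨D, hD, hxD⟩ := hxB
    by_contra hxZ
    exact Set.notMem_empty x (hemp ▸ ⟨hxZ, (hC.2 hxC).resolve_right hxZ, hB D hD hxD⟩)

omit [NoetherianSpace T] in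
theorem exists_connDim_eq :
    ∃ Z : Set T, IsClosed Z ∧ ¬ IsConnected Zᶜ ∧ topologicalKrullDim Z = LocCoh.connDim T := by
  have hne : {Z : Set T | IsClosed Z ∧ ¬ IsConnected Zᶜ}.Nonempty :=
    ⟨Set.univ, isClosed_univ, fun h => by simpa using h.nonempty⟩
  obtain ⟨m, ⟨Z, hZ, rfl⟩, hmin⟩ := (wellFounded_lt (α := WithBot ℕ∞)).has_min _ (hne.image fun Z : Set T => topologicalKrullDim Z)
  refine ⟨Z, hZ.1, hZ.2, le_antisymm (le_iInf₂ fun W hW => ?_) (iInf₂_le Z hZ)⟩
  exact not_lt.1 (hmin _ ⟨W, hW, rfl⟩)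

/-- The connectedness dimension by components. -/
theorem connDim_eq_iInf_components [Nonempty T] :
    LocCoh.connDim T = ⨅ (A : Set (Set T)) (B : Set (Set T)) (_ : A ⊆ irreducibleComponents T ∧
      B ⊆ irreducibleComponents T ∧ A.Nonempty ∧ B.Nonempty ∧ A ∪ B = irreducibleComponents T),
      topologicalKrullDim ↥(⋃₀ A ∩ ⋃₀ B) := by
  have hcomp : (irreducibleComponents T).Nonempty := by
    obtain ⟨x⟩ := ‹Nonempty T›
    obtain ⟨C, hC, -⟩ := Set.mem_sUnion.1 ((sUnion_irreducibleComponents (X := T)).symm ▸ Set.mem_univ x :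
      x ∈ ⋃₀ irreducibleComponents T)
    exact ⟨C, hC⟩
  refine le_antisymm (le_iInf fun A => le_iInf fun B => le_iInf fun ⟨hA, hB, hAne, hBne, hAB⟩ => ?_) ?_
  · by_cases hAc : A = irreducibleComponents T
    · by_cases hBc : B = irreducibleComponents T
      · refine iInf₂_le _ ⟨(isClosed_sUnion_components hA).inter (isClosed_sUnion_components hB), ?_⟩
        rw [hAc, hBc, Set.inter_self, sUnion_irreducibleComponents, Set.compl_univ]
        exact fun h => by simpa using h.nonempty
      · have hA' : (irreducibleComponents T \ B).Nonempty :=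
          Set.nonempty_of_not_subset fun h => hBc (hB.antisymm h)
        have hp := not_isConnected_compl_of_partition Set.disjoint_sdiff_left hA' hBne
          (Set.sdiff_union_of_subset hB)
        refine le_trans (iInf₂_le _ ⟨(isClosed_sUnion_components Set.sdiff_subset).inter
          (isClosed_sUnion_components hB), hp⟩) (topologicalKrullDim_mono
            (Set.inter_subset_inter_left _ (Set.sUnion_mono ?_)))
        rw [hAc]
        exact Set.sdiff_subset
    · have hB' : (irreducibleComponents T \ A).Nonempty :=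
        Set.nonempty_of_not_subset fun h => hAc (hA.antisymm h)
      have hp := not_isConnected_compl_of_partition Set.disjoint_sdiff_right hAne hB'
        (Set.union_sdiff_cancel hA)
      refine le_trans (iInf₂_le _ ⟨(isClosed_sUnion_components hA).inter
        (isClosed_sUnion_components Set.sdiff_subset), hp⟩) (topologicalKrullDim_mono
          (Set.inter_subset_inter_right _ (Set.sUnion_mono ?_)))
      intro C hC
      exact (hAB.symm ▸ hC.1 : C ∈ A ∪ B).resolve_left hC.2
  · refine le_iInf₂ fun Z ⟨hZ, hc⟩ => ?_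
    by_cases hne : Zᶜ.Nonempty
    · obtain ⟨A, B, -, hA, hB, hAB, hle⟩ := exists_partition hZ hne hc
      exact iInf_le_of_le A (iInf_le_of_le B (iInf_le_of_le
        ⟨hAB ▸ Set.subset_union_left, hAB ▸ Set.subset_union_right, hA, hB, hAB⟩
          (topologicalKrullDim_mono hle)))
    · refine iInf_le_of_le (irreducibleComponents T) (iInf_le_of_le (irreducibleComponents T) (iInf_le_of_le
        ⟨subset_rfl, subset_rfl, hcomp, hcomp, Set.union_self _⟩ (topologicalKrullDim_mono fun x _ => ?_)))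
      exact Classical.byContradiction fun hx => hne ⟨x, hx⟩

end Groth.L04.Canon
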