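import Groth.Agent.L04.Canon.HLVGlobal
import Groth.Agent.L04.Canon.ConnTopology
import Groth.Agent.L04.LC.MayerVietoris
import Mathlib.RingTheory.Spectrum.Prime.Topology
import Mathlib.RingTheory.Ideal.KrullsHeightTheorem

/-!
# Faltings' connectedness theorem for complete local rings
-/

set_option autoImplicit false
universe u

open IsLocalRing

noncomputable section

namespace Groth.L04.Canon

open Groth.L10.FormCat Groth.L04.LC

section Local

variable {R : Type u} [CommRing R]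

theorem cdLE_of_radical_eq {I J : Ideal R} (h : I.radical = J.radical) {k : ℕ} [IsNoetherianRing R]
    (hI : LocCoh.CdLE R I k) : LocCoh.CdLE R J k := fun M _ _ i hi =>
  @Equiv.subsingleton _ _ ((localCohomology.isoOfSameRadical h.symm i).app (ModuleCat.of R M)).toLinearEquiv.toEquiv
    (hI M i hi)

theorem topologicalKrullDim_zeroLocus (K : Ideal R) :
    topologicalKrullDim (PrimeSpectrum.zeroLocus (K : Set R)) = ringKrullDim (R ⧸ K) := by
  have hemb := PrimeSpectrum.isClosedEmbedding_comap_of_surjective (R ⧸ K) (Ideal.Quotient.mk K)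
    Ideal.Quotient.mk_surjective
  have hrange : Set.range (PrimeSpectrum.comap (Ideal.Quotient.mk K)) = PrimeSpectrum.zeroLocus (K : Set R) := by
    rw [range_comap_of_surjective _ _ Ideal.Quotient.mk_surjective, Ideal.mk_ker]
  let e : PrimeSpectrum (R ⧸ K) ≃ₜ PrimeSpectrum.zeroLocus (K : Set R) :=
    hemb.isEmbedding.toHomeomorph.trans (Homeomorph.setCongr hrange)
  rw [← PrimeSpectrum.topologicalKrullDim_eq_ringKrullDim,
    IsHomeomorph.topologicalKrullDim_eq _ e.isHomeomorph]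

variable [IsLocalRing R] [IsNoetherianRing R]

theorem exists_quotDim_eq {K : Ideal R} (hK : K ≠ ⊤) : ∃ n : ℕ, ringKrullDim (R ⧸ K) = n := by
  haveI : Nontrivial (R ⧸ K) := Ideal.Quotient.nontrivial_iff.2 hK
  have h1 : ringKrullDim (R ⧸ K) < ⊤ :=
    (ringKrullDim_le_of_surjective _ Ideal.Quotient.mk_surjective).trans_lt ringKrullDim_lt_top
  obtain ⟨m, hm⟩ := WithBot.ne_bot_iff_exists.1 (ringKrullDim_ne_bot (R := R ⧸ K))
  rw [← hm] at h1 ⊢
  obtain ⟨n, rfl⟩ := ENat.ne_top_iff_exists.1 (WithBot.coe_lt_coe.1 h1).ne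
  exact ⟨n, rfl⟩

theorem qd_le_of_mem {K : Ideal R} {n : ℕ} (hn : ringKrullDim (R ⧸ K) ≤ n) {q : PrimeSpectrum R}
    (hq : K ≤ q.asIdeal) : qd q ≤ n := by
  have h := (ringKrullDim_le_of_surjective _ (Ideal.Quotient.factor_surjective hq)).trans hn
  rw [dim_quot] at h
  exact_mod_cast h

theorem quotDim_le_iff_forall {K : Ideal R} {n : ℕ} :
    ringKrullDim (R ⧸ K) ≤ n ↔ ∀ q : PrimeSpectrum R, K ≤ q.asIdeal → qd q ≤ n := by
  refine ⟨fun h q hq => qd_le_of_mem h hq, fun h => ?_⟩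
  by_cases hK : K = ⊤
  · subst hK
    haveI : Subsingleton (R ⧸ (⊤ : Ideal R)) := Ideal.Quotient.subsingleton_iff.2 rfl
    rw [ringKrullDim_eq_bot_of_subsingleton]
    exact bot_le
  obtain ⟨m, hm⟩ := exists_quotDim_eq hK
  rw [hm]
  have hm' := hm.ge
  rw [ringKrullDim_quotient] at hm'
  obtain ⟨q, hq, hmq⟩ := exists_mem_le_qd _ hm'
  exact_mod_cast hmq.trans (h q hq)

theorem radical_eq_maximal_iff {K : Ideal R} :
    K.radical = maximalIdeal R ↔ K ≠ ⊤ ∧ ringKrullDim (R ⧸ K) ≤ (0 : ℕ) := by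
  constructor
  · intro h
    refine ⟨fun hK => (maximalIdeal.isMaximal R).ne_top (by rw [← h, hK, Ideal.radical_top]),
      quotDim_le_iff_forall.2 fun q hq => ?_⟩
    have hqm : q = ⟨maximalIdeal R, inferInstance⟩ := PrimeSpectrum.ext
      (((maximalIdeal.isMaximal R).eq_of_le q.2.ne_top (h ▸ q.2.radical_le_iff.2 hq)).symm)
    have h0 : ringKrullDim (R ⧸ maximalIdeal R) = 0 := ringKrullDim_eq_zero_of_field (ResidueField R)
    have := (qd_eq_iff (⟨maximalIdeal R, inferInstance⟩ : PrimeSpectrum R) 0).1 (by exact_mod_cast h0)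
    rw [hqm, this]
  · rintro ⟨hK, hd⟩
    rw [Ideal.radical_eq_sInf]
    refine le_antisymm (sInf_le ⟨le_maximalIdeal hK, inferInstance⟩) (le_sInf fun q ⟨hq, hqp⟩ => le_of_eq ?_)
    exact (congrArg PrimeSpectrum.asIdeal (eq_of_le_of_qd (p := ⟨q, hqp⟩) (q := ⟨maximalIdeal R, inferInstance⟩)
      (le_maximalIdeal hqp.ne_top) (by have := qd_le_of_mem hd (q := ⟨q, hqp⟩) hq; omega))).symm

/-- An element cutting down the dimension. -/
theorem exists_quotDim_lt {K : Ideal R} {n : ℕ} (hK : K ≠ ⊤) (hn : ringKrullDim (R ⧸ K) = n) (h0 : 0 < n) :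
    ∃ y ∈ maximalIdeal R, ∃ n', n' < n ∧ ringKrullDim (R ⧸ (K ⊔ Ideal.span {y})) = n' := by
  classical
  obtain ⟨y, hy, hyq⟩ : ∃ y ∈ maximalIdeal R, ∀ q ∈ K.minimalPrimes, y ∉ q := by
    have hfin := K.finite_minimalPrimes_of_isNoetherianRing
    by_contra hc
    push Not at hc
    have hsub : (maximalIdeal R : Set R) ⊆ ⋃ q ∈ (hfin.toFinset : Set (Ideal R)), (q : Set R) :=
      fun y hy => by
        obtain ⟨q, hq, hyq⟩ := hc y hy
        exact Set.mem_biUnion (by simpa using hq) hyq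
    obtain ⟨q, hq, hle⟩ := (Ideal.subset_union_prime (f := id) ⊥ ⊥
      fun q hq _ _ => (hfin.mem_toFinset.1 hq).1.1).1 hsub
    have hqK := hfin.mem_toFinset.1 hq
    haveI := hqK.1.1
    have hKm : K.radical = maximalIdeal R := by
      rw [Ideal.radical_eq_sInf]
      refine le_antisymm (sInf_le ⟨le_maximalIdeal hK, inferInstance⟩) (le_sInf fun r ⟨hr, hrp⟩ => ?_)
      exact hle.trans (hqK.2 ⟨hrp, hr⟩ ((le_maximalIdeal hrp.ne_top).trans hle))
    have := (radical_eq_maximal_iff.1 hKm).2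
    rw [hn] at this
    have : n ≤ 0 := by exact_mod_cast this
    omega
  have hK' : K ⊔ Ideal.span {y} ≠ ⊤ := ne_top_of_le_ne_top (maximalIdeal.isMaximal R).ne_top
    (sup_le (le_maximalIdeal hK) ((Ideal.span_singleton_le_iff_mem _).2 hy))
  obtain ⟨n', hn'⟩ := exists_quotDim_eq hK'
  refine ⟨y, hy, n', ?_, hn'⟩
  have h' := hn'.ge
  rw [ringKrullDim_quotient] at h'
  obtain ⟨p, hp, hpn⟩ := exists_mem_le_qd _ h'
  haveI := p.isPrime
  obtain ⟨q, hq, hqp⟩ := Ideal.exists_minimalPrimes_le (I := K) (J := p.asIdeal) (le_sup_left.trans hp)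
  have hlt : (⟨q, hq.1.1⟩ : PrimeSpectrum R) < p := lt_of_le_of_ne hqp fun h =>
    hyq q hq (by
      have hmem : y ∈ p.asIdeal := hp (Ideal.mem_sup_right (Ideal.mem_span_singleton_self y))
      rwa [← h] at hmem)
  have h1 := qd_lt hlt
  have h2 := qd_le_of_mem hn.le (q := ⟨q, hq.1.1⟩) hq.1.2
  omega

theorem le_quotDim_succ (K : Ideal R) {y : R} (hy : y ∈ maximalIdeal R) :
    ringKrullDim (R ⧸ K) ≤ ringKrullDim (R ⧸ (K ⊔ Ideal.span {y})) + 1 := by
  by_cases hK : K = ⊤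
  · subst hK
    haveI : Subsingleton (R ⧸ (⊤ : Ideal R)) := Ideal.Quotient.subsingleton_iff.2 rfl
    rw [ringKrullDim_eq_bot_of_subsingleton]
    exact bot_le
  haveI : IsLocalRing (R ⧸ K) := Groth.L01.isLocalRing_quotient hK
  haveI := IsLocalHom.of_surjective (Ideal.Quotient.mk K) Ideal.Quotient.mk_surjective
  have hy' : Ideal.Quotient.mk K y ∈ maximalIdeal (R ⧸ K) := fun hu =>
    hy (IsUnit.of_map (Ideal.Quotient.mk K) _ hu)
  refine (ringKrullDim_le_ringKrullDim_quotient_add_card {Ideal.Quotient.mk K y}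
    (by simpa [IsLocalRing.ringJacobson_eq_maximalIdeal] using hy')).trans_eq ?_
  rw [Finset.card_singleton, Nat.cast_one]
  congr 1
  rw [Finset.coe_singleton, ← Set.image_singleton, ← Ideal.map_span]
  exact ringKrullDim_eq_of_ringEquiv (DoubleQuot.quotQuotEquivQuotSup K (Ideal.span {y}))

theorem cdLE_sup_span (I : Ideal R) (y : R) {k : ℕ} (h : LocCoh.CdLE R I k) :
    LocCoh.CdLE R (I ⊔ Ideal.span {y}) (k + 1) :=
  cdLE_sup _ _ h (cdLE_span_singleton y)

/-- `dim R ≤ cd(J) + dim R/J`. -/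
theorem dim_le_cd_add {n : ℕ} (hn : ringKrullDim R = n) :
    ∀ (δ : ℕ) (J : Ideal R) (k : ℕ), J ≠ ⊤ → ringKrullDim (R ⧸ J) = δ → LocCoh.CdLE R J k → n ≤ k + δ := by
  intro δ
  induction δ using Nat.strong_induction_on with
  | _ δ ih =>
    intro J k hJ hδ hk
    rcases Nat.eq_zero_or_pos δ with rfl | h0
    · by_contra hlt
      have hrad : J.radical = (maximalIdeal R).radical := by
        rw [radical_eq_maximal_iff.2 ⟨hJ, hδ.le⟩, (maximalIdeal.isMaximal R).isPrime.radical]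
      exact not_nontrivial_iff_subsingleton.2 (cdLE_of_radical_eq hrad hk R n (by omega))
        (nontrivial_H_supportDim (R := R) R n ((Module.supportDim_self_eq_ringKrullDim (R := R)).trans hn))
    · obtain ⟨y, hy, δ', hlt, hδ'⟩ := exists_quotDim_lt hJ hδ h0
      have := ih δ' hlt (J ⊔ Ideal.span {y}) (k + 1) (ne_top_of_le_ne_top (maximalIdeal.isMaximal R).ne_top
        (sup_le (le_maximalIdeal hJ) ((Ideal.span_singleton_le_iff_mem _).2 hy))) hδ' (cdLE_sup_span J y hk)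
      omega

theorem radical_inf_sup (a b c : Ideal R) : ((a ⊔ c) ⊓ (b ⊔ c)).radical = ((a ⊓ b) ⊔ c).radical := by
  refine le_antisymm ?_ (Ideal.radical_mono (le_inf (sup_le_sup_right inf_le_left _) (sup_le_sup_right inf_le_right _)))
  rw [Ideal.radical_inf, ← Ideal.radical_mul]
  refine Ideal.radical_mono ?_
  rw [Ideal.sup_mul, Ideal.mul_sup, Ideal.mul_sup]
  exact sup_le (sup_le (le_sup_of_le_left Ideal.mul_le_inf) (le_sup_of_le_right Ideal.mul_le_right))
    (sup_le (le_sup_of_le_right Ideal.mul_le_left) (le_sup_of_le_right Ideal.mul_le_left))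

/-- Faltings' connectedness bound for a complete local domain. -/
theorem faltings_domain [IsDomain R] [IsAdicComplete (maximalIdeal R) R] {n : ℕ} (hn : ringKrullDim R = n) :
    ∀ (δ : ℕ) (a b : Ideal R) (k : ℕ), a ≠ ⊤ → b ≠ ⊤ → ringKrullDim (R ⧸ (a ⊔ b)) = δ →
      (δ : WithBot ℕ∞) < ringKrullDim (R ⧸ a) → (δ : WithBot ℕ∞) < ringKrullDim (R ⧸ b) →
      LocCoh.CdLE R (a ⊓ b) k → n ≤ k + δ + 1 := by
  intro δ
  induction δ using Nat.strong_induction_on with
  | _ δ ih =>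
    intro a b k ha hb hδ hda hdb hk
    have hab : a ⊔ b ≠ ⊤ := ne_top_of_le_ne_top (maximalIdeal.isMaximal R).ne_top
      (sup_le (le_maximalIdeal ha) (le_maximalIdeal hb))
    rcases Nat.eq_zero_or_pos δ with rfl | h0
    · by_contra hlt
      obtain ⟨E, _, _, f, hf⟩ := Groth.Agent.S0299.result R (ResidueField R)
      have hvan : ∀ c : Ideal R, c ≠ ⊤ → ((0 : ℕ) : WithBot ℕ∞) < ringKrullDim (R ⧸ c) →
          Subsingleton (LocCoh.H c n R) := fun c hc hdc => by
        refine subsingleton_H_top hn hf (le_maximalIdeal hc) R fun p hp hpd hrad => ?_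
        haveI := IsAssociatedPrime.isPrime hp
        have hp0 : (⟨⊥, Ideal.isPrime_bot⟩ : PrimeSpectrum R) = ⟨p, inferInstance⟩ :=
          eq_of_le_of_qd (show (⊥ : Ideal R) ≤ p from bot_le)
            (by rw [(qd_eq_iff (⟨p, inferInstance⟩ : PrimeSpectrum R) n).1 hpd]; exact qd_le hn _)
        have hp0' : p = ⊥ := (congrArg PrimeSpectrum.asIdeal hp0).symm
        rw [hp0', sup_bot_eq] at hrad
        exact absurd ((radical_eq_maximal_iff.1 hrad).2) (not_le.2 hdc)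
      obtain ⟨i, rfl⟩ : ∃ i, n = i + 1 := ⟨n - 1, by omega⟩
      have hs := MV.subsingleton_H_sup a b (i := i) R (hk R i (by omega)) (hvan a ha hda) (hvan b hb hdb)
      have hrad : (a ⊔ b).radical = (maximalIdeal R).radical := by
        rw [radical_eq_maximal_iff.2 ⟨hab, hδ.le⟩, (maximalIdeal.isMaximal R).isPrime.radical]
      exact not_nontrivial_iff_subsingleton.2
        (((localCohomology.isoOfSameRadical hrad (i + 1)).app (ModuleCat.of R R)).toLinearEquiv.symm.toEquiv.subsingleton)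
        (nontrivial_H_supportDim (R := R) R (i + 1) ((Module.supportDim_self_eq_ringKrullDim (R := R)).trans hn))
    · obtain ⟨y, hy, δ', hlt, hδ'⟩ := exists_quotDim_lt hab hδ h0
      have hy' : Ideal.span {y} ≤ maximalIdeal R := (Ideal.span_singleton_le_iff_mem _).2 hy
      have hbig : ∀ c : Ideal R, c ≠ ⊤ → (δ : WithBot ℕ∞) < ringKrullDim (R ⧸ c) →
          c ⊔ Ideal.span {y} ≠ ⊤ ∧ (δ' : WithBot ℕ∞) < ringKrullDim (R ⧸ (c ⊔ Ideal.span {y})) := fun c hc hdc => by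
        have hc' : c ⊔ Ideal.span {y} ≠ ⊤ :=
          ne_top_of_le_ne_top (maximalIdeal.isMaximal R).ne_top (sup_le (le_maximalIdeal hc) hy')
        refine ⟨hc', ?_⟩
        obtain ⟨m, hm⟩ := exists_quotDim_eq hc
        obtain ⟨m', hm'⟩ := exists_quotDim_eq hc'
        have h := le_quotDim_succ c hy
        rw [hm, hm'] at h
        rw [hm] at hdc
        rw [hm']
        have h1 : δ < m := by exact_mod_cast hdc
        have h2 : m ≤ m' + 1 := by exact_mod_cast h
        exact_mod_cast (show δ' < m' by omega)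
      obtain ⟨ha', hda'⟩ := hbig a ha hda
      obtain ⟨hb', hdb'⟩ := hbig b hb hdb
      have hsup : (a ⊔ Ideal.span {y}) ⊔ (b ⊔ Ideal.span {y}) = (a ⊔ b) ⊔ Ideal.span {y} := by
        rw [sup_sup_sup_comm, sup_idem]
      have := ih δ' hlt _ _ (k + 1) ha' hb' (by rw [hsup]; exact hδ') hda' hdb'
        (cdLE_of_radical_eq (radical_inf_sup a b _).symm (cdLE_sup_span _ y hk))
      omega

end Local

section Quotient

variable {R : Type u} [CommRing R] [IsLocalRing R] [IsNoetherianRing R]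

theorem quotDim_map (p c : Ideal R) :
    ringKrullDim ((R ⧸ p) ⧸ c.map (algebraMap R (R ⧸ p))) = ringKrullDim (R ⧸ (c ⊔ p)) := by
  rw [sup_comm]
  exact ringKrullDim_eq_of_ringEquiv (DoubleQuot.quotQuotEquivQuotSup p c)

theorem map_ne_top {p c : Ideal R} (hp : p ≠ ⊤) (hc : c ≠ ⊤) : c.map (algebraMap R (R ⧸ p)) ≠ ⊤ := fun h => by
  have h' := congrArg (Ideal.comap (algebraMap R (R ⧸ p))) h
  rw [Ideal.comap_top, Ideal.Quotient.algebraMap_eq, Ideal.comap_map_of_surjective' _ Ideal.Quotient.mk_surjective,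
    Ideal.mk_ker] at h'
  exact ne_top_of_le_ne_top (maximalIdeal.isMaximal R).ne_top
    (sup_le (le_maximalIdeal hc) (le_maximalIdeal hp)) h'

/-- `dim R/q ≤ cd(J) + dim R/(J+q)`. -/
theorem qd_le_cd_add (q : PrimeSpectrum R) {J : Ideal R} (hJ : J ≠ ⊤) {δ k : ℕ}
    (hδ : ringKrullDim (R ⧸ (J ⊔ q.asIdeal)) ≤ δ) (hk : LocCoh.CdLE R J k) : qd q ≤ k + δ := by
  haveI := Groth.L01.isLocalRing_quotient q.2.ne_top
  have hJ' := map_ne_top q.2.ne_top hJ
  obtain ⟨m, hm⟩ := exists_quotDim_eq (R := R ⧸ q.asIdeal) hJ'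
  have h1 : (m : WithBot ℕ∞) ≤ δ := by rw [← hm, quotDim_map]; exact hδ
  have h2 := dim_le_cd_add (R := R ⧸ q.asIdeal) (n := qd q) ((qd_eq_iff q _).2 rfl) m _ k hJ' hm
    (cdLE_map (R' := R ⧸ q.asIdeal) J hk)
  have h3 : m ≤ δ := by exact_mod_cast h1
  omega

theorem subdim_le_of_mem (p : PrimeSpectrum R) (hp : p.asIdeal ∈ minimalPrimes R) :
    LocCoh.subdim (PrimeSpectrum R) ≤ ((qd p : ℕ) : WithBot ℕ∞) := by
  have hmem : PrimeSpectrum.zeroLocus (p.asIdeal : Set R) ∈ irreducibleComponents (PrimeSpectrum R) :=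
    PrimeSpectrum.zeroLocus_minimalPrimes R ▸ Set.mem_image_of_mem _ hp
  refine le_trans (iInf₂_le _ hmem) (le_of_eq ?_)
  rw [topologicalKrullDim_zeroLocus, dim_quot]
  rfl

/-- Faltings' connectedness theorem. -/
theorem connectedness [IsAdicComplete (maximalIdeal R) R] (a b : Ideal R) (ha : a ≠ ⊤) (hb : b ≠ ⊤) {δ : ℕ}
    (hδ : ringKrullDim (R ⧸ (a ⊔ b)) = δ) (hda : (δ : WithBot ℕ∞) < ringKrullDim (R ⧸ a))
    (hdb : (δ : WithBot ℕ∞) < ringKrullDim (R ⧸ b)) {k : ℕ} (hk : LocCoh.CdLE R (a ⊓ b) k) :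
    min (LocCoh.connDim (PrimeSpectrum R) + 1) (LocCoh.subdim (PrimeSpectrum R)) ≤
      ((δ + k + 1 : ℕ) : WithBot ℕ∞) := by
  classical
  by_cases hcase : ∃ p ∈ minimalPrimes R, (δ : WithBot ℕ∞) < ringKrullDim (R ⧸ (a ⊔ p)) ∧
      (δ : WithBot ℕ∞) < ringKrullDim (R ⧸ (b ⊔ p))
  · obtain ⟨p, hp, hpa, hpb⟩ := hcase
    haveI := hp.1.1
    haveI := Groth.L01.isLocalRing_quotient hp.1.1.ne_top
    haveI := Groth.L01.NagataComplete.isAdicComplete_quotient p
    refine le_trans (min_le_right _ _) ((subdim_le_of_mem ⟨p, hp.1.1⟩ hp).trans ?_)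
    have ha' := map_ne_top hp.1.1.ne_top ha
    have hb' := map_ne_top hp.1.1.ne_top hb
    have hab' : a.map (algebraMap R (R ⧸ p)) ⊔ b.map (algebraMap R (R ⧸ p)) ≠ ⊤ :=
      ne_top_of_le_ne_top (maximalIdeal.isMaximal (R ⧸ p)).ne_top (sup_le (le_maximalIdeal ha') (le_maximalIdeal hb'))
    obtain ⟨δ', hδ'⟩ := exists_quotDim_eq hab'
    have hle : δ' ≤ δ := by
      have h1 : (δ' : WithBot ℕ∞) ≤ δ := by
        rw [← hδ', ← Ideal.map_sup, quotDim_map, ← hδ]
        exact ringKrullDim_le_of_surjective _ (Ideal.Quotient.factor_surjective le_sup_left)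
      exact_mod_cast h1
    have hcd : LocCoh.CdLE (R ⧸ p) (a.map (algebraMap R (R ⧸ p)) ⊓ b.map (algebraMap R (R ⧸ p))) k := by
      refine cdLE_of_radical_eq (le_antisymm (Ideal.radical_mono (le_inf (Ideal.map_mono inf_le_left)
        (Ideal.map_mono inf_le_right))) ?_) (cdLE_map (R' := R ⧸ p) (a ⊓ b) hk)
      rw [Ideal.radical_inf, ← Ideal.radical_mul, ← Ideal.map_mul]
      exact Ideal.radical_mono (Ideal.map_mono Ideal.mul_le_inf)
    have hle' : (δ' : WithBot ℕ∞) ≤ δ := by exact_mod_cast hle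
    have := faltings_domain (R := R ⧸ p) (n := qd (⟨p, hp.1.1⟩ : PrimeSpectrum R))
      ((qd_eq_iff (⟨p, hp.1.1⟩ : PrimeSpectrum R) _).2 rfl) δ' _ _ k ha' hb' hδ'
      (by rw [quotDim_map]; exact lt_of_le_of_lt hle' hpa) (by rw [quotDim_map]; exact lt_of_le_of_lt hle' hpb) hcd
    exact_mod_cast (show qd (⟨p, hp.1.1⟩ : PrimeSpectrum R) ≤ δ + k + 1 by omega)
  · push Not at hcase
    set fin := minimalPrimes.finite_of_isNoetherianRing R
    let SA : Set (Ideal R) := {p | p ∈ minimalPrimes R ∧ ringKrullDim (R ⧸ (a ⊔ p)) ≤ δ}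
    let SB : Set (Ideal R) := {p | p ∈ minimalPrimes R ∧ ¬ ringKrullDim (R ⧸ (a ⊔ p)) ≤ δ}
    have hSB : ∀ p ∈ SB, ringKrullDim (R ⧸ (b ⊔ p)) ≤ δ := fun p hp => hcase p hp.1 (not_le.1 hp.2)
    let φ : Ideal R → Set (PrimeSpectrum R) := fun p => PrimeSpectrum.zeroLocus (p : Set R)
    have hinj : Set.InjOn φ (minimalPrimes R) := fun p hp q hq h => by
      have h' := congrArg PrimeSpectrum.vanishingIdeal h
      simp only [φ, PrimeSpectrum.vanishingIdeal_zeroLocus_eq_radical] at h'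
      rwa [hp.1.1.radical, hq.1.1.radical] at h'
    have hunion : φ '' SA ∪ φ '' SB = irreducibleComponents (PrimeSpectrum R) := by
      rw [← Set.image_union, ← PrimeSpectrum.zeroLocus_minimalPrimes]
      refine congrArg (φ '' ·) (Set.ext fun p => ⟨fun h => h.elim And.left And.left, fun h => ?_⟩)
      exact (em (ringKrullDim (R ⧸ (a ⊔ p)) ≤ δ)).imp (fun h' => ⟨h, h'⟩) fun h' => ⟨h, h'⟩
    have hdisj : Disjoint (φ '' SA) (φ '' SB) := by
      refine Set.disjoint_left.2 ?_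
      rintro _ ⟨p, hp, rfl⟩ ⟨q, hq, hqp⟩
      exact hq.2 (hinj hq.1 hp.1 hqp ▸ hp.2)
    have hne : ∀ (c : Ideal R), (δ : WithBot ℕ∞) < ringKrullDim (R ⧸ c) →
        ∃ p ∈ minimalPrimes R, ¬ ringKrullDim (R ⧸ (c ⊔ p)) ≤ δ := fun c hc => by
      by_contra! h
      refine not_le.2 hc (quotDim_le_iff_forall.2 fun q hq => ?_)
      haveI := q.isPrime
      obtain ⟨p, hp, hpq⟩ := Ideal.exists_minimalPrimes_le (I := (⊥ : Ideal R)) (J := q.asIdeal) bot_le
      exact qd_le_of_mem (h p hp) (sup_le hq hpq)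
    have hAne : SA.Nonempty := by
      obtain ⟨p, hp, h⟩ := hne b hdb
      exact ⟨p, hp, le_of_not_gt fun h' => h (hcase p hp h')⟩
    have hBne : SB.Nonempty := by
      obtain ⟨p, hp, h⟩ := hne a hda
      exact ⟨p, hp, h⟩
    have hconn : LocCoh.connDim (PrimeSpectrum R) ≤ ((δ + k : ℕ) : WithBot ℕ∞) := by
      refine le_trans (iInf₂_le _ ⟨(isClosed_sUnion_components (hunion ▸ Set.subset_union_left)).inter
        (isClosed_sUnion_components (hunion ▸ Set.subset_union_right)),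
        not_isConnected_compl_of_partition hdisj (hAne.image φ) (hBne.image φ) hunion⟩) ?_
      set Z := ⋃₀ (φ '' SA) ∩ ⋃₀ (φ '' SB)
      have hZ : IsClosed Z := (isClosed_sUnion_components (hunion ▸ Set.subset_union_left)).inter
        (isClosed_sUnion_components (hunion ▸ Set.subset_union_right))
      obtain ⟨c, hc⟩ := (PrimeSpectrum.isClosed_iff_zeroLocus_ideal Z).1 hZ
      rw [hc, topologicalKrullDim_zeroLocus, quotDim_le_iff_forall]
      intro q hq
      have hqZ : q ∈ Z := by rw [hc]; exact hq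
      obtain ⟨⟨_, ⟨pA, hpA, rfl⟩, hqA⟩, ⟨_, ⟨pB, hpB, rfl⟩, hqB⟩⟩ := hqZ
      refine le_of_le_of_eq (qd_le_cd_add q (J := a ⊓ b) (ne_top_of_le_ne_top ha inf_le_left)
        (δ := δ) ?_ hk) (add_comm k δ)
      refine quotDim_le_iff_forall.2 fun r hr => ?_
      haveI := r.isPrime
      have hqr : q.asIdeal ≤ r.asIdeal := le_sup_right.trans hr
      rcases (Ideal.IsPrime.inf_le r.isPrime).1 (le_sup_left.trans hr) with h | h
      · exact qd_le_of_mem hpA.2 (sup_le h (le_trans hqA hqr))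
      · exact qd_le_of_mem (hSB pB hpB) (sup_le h (le_trans hqB hqr))
    refine le_trans (min_le_left _ _) ?_
    rw [Nat.cast_add _ 1, Nat.cast_one]
    gcongr

/-- `sdim R ≤ cd(a) + dim R/a`. -/
theorem subdim_le_cd_add (a : Ideal R) (ha : a ≠ ⊤) {δ k : ℕ} (hδ : ringKrullDim (R ⧸ a) ≤ δ)
    (hk : LocCoh.CdLE R a k) : LocCoh.subdim (PrimeSpectrum R) ≤ ((k + δ : ℕ) : WithBot ℕ∞) := by
  obtain ⟨p, hp, -⟩ := Ideal.exists_minimalPrimes_le (I := (⊥ : Ideal R)) (J := maximalIdeal R) bot_le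
  refine (subdim_le_of_mem ⟨p, hp.1.1⟩ hp).trans ?_
  have h := qd_le_cd_add ⟨p, hp.1.1⟩ ha (δ := δ)
    ((ringKrullDim_le_of_surjective _ (Ideal.Quotient.factor_surjective le_sup_left)).trans hδ) hk
  exact_mod_cast h

end Quotient

end Groth.L04.Canon
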