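import Groth.Agent.L04.Canon.GorModel
import Groth.Agent.L01.CompletionExt
import Groth.Agent.L01.CompletionReg
import Groth.Agent.L01.NagataComplete

/-!
A complete Noetherian local ring is a quotient of a complete Gorenstein local ring of the same dimension.
-/

set_option autoImplicit false
universe u

open IsLocalRing

namespace Groth.L04.Canon

theorem exists_gorenstein_same_dim_complete {R : Type u} [CommRing R] [IsLocalRing R] {n : ℕ}
    (hn : ringKrullDim R = n) : ∀ (d : ℕ) (S : Type u) [CommRing S] [LocCoh.IsGorensteinLocalRing S]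
    (g : S →+* R), Function.Surjective g → ringKrullDim S = (n + d : ℕ) → IsAdicComplete (maximalIdeal S) S →
      ∃ (S' : Type u) (_ : CommRing S') (_ : LocCoh.IsGorensteinLocalRing S') (g' : S' →+* R),
        Function.Surjective g' ∧ ringKrullDim S' = n ∧ IsAdicComplete (maximalIdeal S') S' := by
  intro d
  induction d with
  | zero => intro S _ _ g hg hd hc; exact ⟨S, _, inferInstance, g, hg, hd, hc⟩
  | succ d ih =>
    intro S _ _ g hg hd hc
    haveI : LocCoh.IsCohenMacaulayLocalRing S := Groth.Agent.S0341.result S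
    obtain ⟨x, hx, hxr⟩ : ∃ x ∈ RingHom.ker g, x ∈ nonZeroDivisors S := by
      by_contra h
      push Not at h
      have hsub : (RingHom.ker g : Set S) ⊆ ⋃ p ∈ associatedPrimes S S, (p : Set S) := by
        rw [biUnion_associatedPrimes_eq_compl_nonZeroDivisors]
        exact fun x hx => h x hx
      obtain ⟨P, hP, hle⟩ := (Ideal.subset_union_prime_finite (associatedPrimes.finite S S) ⊥ ⊥
        fun p hp _ _ => IsAssociatedPrime.isPrime hp).1 hsub
      have h1 : ringKrullDim (S ⧸ P) ≤ ringKrullDim R := by
        rw [← ringKrullDim_eq_of_ringEquiv (RingHom.quotientKerEquivOfSurjective hg)]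
        exact ringKrullDim_le_of_surjective _ (Ideal.Quotient.factor_surjective hle)
      rw [ringKrullDim_quotient_of_mem_associatedPrimes hP, hd, hn] at h1
      have : n + (d + 1) ≤ n := by exact_mod_cast h1
      omega
    have hxm : x ∈ maximalIdeal S := le_maximalIdeal (RingHom.ker_ne_top g) hx
    haveI : LocCoh.IsGorensteinLocalRing (S ⧸ Ideal.span {x}) :=
      (Groth.L21.GorensteinQuotient.isGorensteinLocalRing_quotient_iff S x hxm hxr).1 ‹_›
    have hdim := ringKrullDim_quotient_span_singleton_succ_eq_ringKrullDim_of_mem_nonZeroDivisors hxr hxm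
    obtain ⟨k, hk⟩ := Groth.L01.exists_dim_eq_nat (R := S ⧸ Ideal.span {x})
    rw [hk, hd] at hdim
    have hk' : k = n + d := by
      have : k + 1 = n + (d + 1) := by exact_mod_cast hdim
      omega
    refine ih (S ⧸ Ideal.span {x}) (Ideal.Quotient.lift _ g fun y hy =>
      (Ideal.span_singleton_le_iff_mem _).2 hx hy) (fun r => ?_) (hk' ▸ hk)
      (@Groth.L01.NagataComplete.isAdicComplete_quotient S _ _ _ hc (Ideal.span {x}) _)
    obtain ⟨s, rfl⟩ := hg r
    exact ⟨Ideal.Quotient.mk _ s, rfl⟩

theorem exists_complete_gorenstein_model (R : Type u) [CommRing R] [IsLocalRing R] [IsNoetherianRing R]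
    [IsAdicComplete (maximalIdeal R) R] {n : ℕ} (hn : ringKrullDim R = n) :
      ∃ (S' : Type u) (_ : CommRing S') (_ : LocCoh.IsGorensteinLocalRing S') (g' : S' →+* R),
        Function.Surjective g' ∧ ringKrullDim S' = n ∧ IsAdicComplete (maximalIdeal S') S' := by
  obtain ⟨S₀, _, _, φ, hφ⟩ := Groth.L10.FormCat.exists_regular_surjective R
  haveI := IsLocalHom.of_surjective φ hφ
  obtain ⟨g, hg, -⟩ := Groth.L01.CompletionExt.exists_extend (R := S₀) φ (map_maximalIdeal_of_surjective φ hφ).le
  let S := AdicCompletion (maximalIdeal S₀) S₀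
  haveI : IsRegularLocalRing S := (Groth.L01.CompletionReg.isRegularLocalRing_iff_completion S₀).1 inferInstance
  haveI hG : LocCoh.IsGorensteinLocalRing S := Groth.Agent.S0342.result S
  haveI : IsAdicComplete (maximalIdeal S) S := by
    rw [AdicCompletion.maximalIdeal_eq_map]
    exact AdicCompletion.isAdicComplete_self _ (maximalIdeal S₀).fg_of_isNoetherianRing
  have hgs : Function.Surjective g := fun r => by
    obtain ⟨s, rfl⟩ := hφ r
    exact ⟨algebraMap S₀ S s, hg s⟩
  obtain ⟨k, hk⟩ := Groth.L01.exists_dim_eq_nat (R := S)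
  have : n ≤ k := by
    have := ringKrullDim_le_of_surjective g hgs
    rw [hn, hk] at this
    exact_mod_cast this
  obtain ⟨d, rfl⟩ := Nat.exists_eq_add_of_le this
  exact exists_gorenstein_same_dim_complete hn d S g hgs hk inferInstance

end Groth.L04.Canon
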