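import Groth.Agent.L04.Canon.TopDualAss
import Groth.Agent.L04.Canon.GorModelComplete
import Groth.Agent.L04.Canon.Chevalley
import Groth.Agent.L04.LC.Change
import Groth.Agent.L04.LC.Nonvanish
import Groth.Agent.L04.LC.Annihilate

/-!
# Top local cohomology over a complete local ring: associated primes of the dual, Hartshorne–Lichtenbaum
-/

set_option autoImplicit false
universe u

open CategoryTheory CategoryTheory.Abelian IsLocalRing InjHull

noncomputable section

namespace Groth.L04.Canon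

open Groth.L10.FormCat Groth.L04.LC

theorem eq_maximal_of_lt {S : Type u} [CommRing S] [IsLocalRing S] [IsNoetherianRing S] {P : Ideal S}
    [P.IsPrime] (h : ringKrullDim (S ⧸ P) = 1) (q : Ideal S) (hq : q.IsPrime) (hlt : P < q) :
    q = maximalIdeal S := by
  have hP : qd (⟨P, inferInstance⟩ : PrimeSpectrum S) = 1 := (qd_eq_iff _ 1).1 (h.trans Nat.cast_one.symm)
  have h1 := qd_lt (p := (⟨P, inferInstance⟩ : PrimeSpectrum S)) (q := ⟨q, hq⟩) hlt
  exact congrArg PrimeSpectrum.asIdeal (eq_of_le_of_qd (p := (⟨q, hq⟩ : PrimeSpectrum S))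
    (q := ⟨maximalIdeal S, inferInstance⟩) (le_maximalIdeal hq.ne_top) (by omega))

theorem ne_maximal_of_dim_one {S : Type u} [CommRing S] [IsLocalRing S] {P : Ideal S} [P.IsPrime]
    (h : ringKrullDim (S ⧸ P) = 1) : P ≠ maximalIdeal S := by
  rintro rfl
  rw [ringKrullDim_eq_zero_of_isField ((Ideal.Quotient.maximal_ideal_iff_isField_quotient _).1
    (maximalIdeal.isMaximal S))] at h
  exact zero_ne_one h

/-- Over a complete Gorenstein ring, some `s ∉ P` kills `H^d_P(S)` when `dim S/P = 1`. -/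
theorem exists_smul_H_eq_zero_gorenstein {S : Type u} [CommRing S] [LocCoh.IsGorensteinLocalRing S]
    [IsAdicComplete (maximalIdeal S) S] {d : ℕ} (hd : ringKrullDim S = d) (P : Ideal S) [P.IsPrime]
    (hP : ringKrullDim (S ⧸ P) = 1) :
    ∃ s, s ∉ P ∧ ∀ x : LocCoh.H P d S, s • x = 0 := by
  obtain ⟨s, hs, hsymb⟩ := exists_mul_symb_le P (eq_maximal_of_lt hP)
  refine ⟨s, hs, fun x => ?_⟩
  obtain ⟨n, a, rfl⟩ := Hι_surjective P d (ModuleCat.of S S) x
  obtain ⟨m, hnm, hm⟩ := hsymb n
  let J := symb P m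
  haveI : Subsingleton (Ext (ModuleCat.of S (S ⧸ J)) (ModuleCat.of S S) d) := by
    obtain ⟨E, _, _, f, hf, hE⟩ := ext_duality_gorenstein hd (S ⧸ J)
    obtain ⟨e⟩ := (hE d).1 le_rfl
    rw [Nat.sub_self] at e
    have h0 : Subsingleton (LocCoh.H (maximalIdeal S) 0 (S ⧸ J)) := by
      have hbot : DRing.torsionSub (maximalIdeal S) (S ⧸ J) = ⊥ := by
        refine eq_bot_iff.2 fun y ⟨k, hk⟩ => ?_
        obtain ⟨y, rfl⟩ := Submodule.Quotient.mk_surjective J y
        rw [Submodule.mem_bot, Submodule.Quotient.mk_eq_zero]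
        refine mem_symb_of_pow P (ne_maximal_of_dim_one hP) (k := k) fun b hb => ?_
        have h := hk b hb
        rwa [← Submodule.Quotient.mk_smul, Submodule.Quotient.mk_eq_zero, smul_eq_mul] at h
      rw [(H0Equiv (maximalIdeal S) (ModuleCat.of S (S ⧸ J))).toEquiv.subsingleton_congr,
        Submodule.subsingleton_iff_eq_bot]
      exact hbot
    haveI := e.symm.toEquiv.subsingleton
    exact subsingleton_of_subsingleton_dual hf
  let π : quot P m ⟶ ModuleCat.of S (S ⧸ J) := ModuleCat.ofHom (Submodule.factor (fun x hx =>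
    (mem_symb_iff P m x).2 ⟨1, fun h => (Ideal.IsPrime.ne_top ‹_›) ((Ideal.eq_top_iff_one P).2 h),
      by rwa [one_mul]⟩))
  let μ : ModuleCat.of S (S ⧸ J) ⟶ quot P n := ModuleCat.ofHom
    (Submodule.mapQ J (P ^ n) (LinearMap.mulLeft S s) fun y hy => hm y hy)
  have hπμ : s • quotMap P hnm = π ≫ μ := by
    refine ModuleCat.hom_ext (LinearMap.ext fun y => ?_)
    obtain ⟨y, rfl⟩ := Submodule.Quotient.mk_surjective _ y
    rfl
  rw [← Hι_map P d hnm, ← map_smul, ← Ext.smul_comp, ← Ext.mk₀_smul, hπμ, ← Ext.mk₀_comp_mk₀,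
    Ext.comp_assoc _ _ _ (zero_add 0) (zero_add d) (by omega)]
  rw [Subsingleton.elim ((Ext.mk₀ μ).comp a (zero_add d)) 0, Ext.comp_zero, map_zero]

variable {C : Type u} [CommRing C] [IsLocalRing C] [IsNoetherianRing C] [IsAdicComplete (maximalIdeal C) C]
  {d : ℕ} (hd : ringKrullDim C = d)

include hd in
/-- Over a complete local ring, some `s ∉ P` kills `H^d_P(M)` for all finite `M` when `dim C/P = 1`. -/
theorem exists_smul_H_eq_zero (P : Ideal C) [P.IsPrime] (hP : ringKrullDim (C ⧸ P) = 1) :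
    ∃ s, s ∉ P ∧ ∀ (M : Type u) [AddCommGroup M] [Module C M] [Module.Finite C M] (x : LocCoh.H P d M),
      s • x = 0 := by
  obtain ⟨S, _, _, φ, hφ, hS, hc⟩ := exists_complete_gorenstein_model C hd
  haveI := hc
  letI : Algebra S C := φ.toAlgebra
  have hg : Function.Surjective (algebraMap S C) := hφ
  obtain ⟨s, hs, hsk⟩ := exists_smul_H_eq_zero_gorenstein hS (P.comap (algebraMap S C))
    ((ringKrullDim_quotient_comap' hg P).trans hP)
  refine ⟨algebraMap S C s, fun h => hs h, fun M _ _ _ x => ?_⟩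
  letI : Module S M := Module.compHom M (algebraMap S C)
  haveI : IsScalarTower S C M := IsScalarTower.of_algebraMap_smul fun _ _ => rfl
  haveI : Module.Finite S C := Module.Finite.of_surjective (Algebra.linearMap S C) hg
  haveI : Module.Finite S M := Module.Finite.trans C M
  have hkill : ∀ y : LocCoh.H (P.comap (algebraMap S C)) d M, s • y = 0 := fun y => by
    obtain ⟨a, q, hq⟩ := Module.Finite.exists_fin' S M
    obtain ⟨z, hz⟩ : ∃ z, hmap (P.comap (algebraMap S C)) d q z = y :=
      (H_exact₃ _ (ses_shortExact (LinearMap.ker q).subtype q Subtype.val_injective hq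
        (LinearMap.exact_subtype_ker_map q)) d y).1
          (@Subsingleton.elim _ (cdLE_of_ringKrullDim_le _ d hS.le _ (d + 1) d.lt_succ_self) _ _)
    rw [← hz, ← map_smul, smul_H_pi_eq_zero _ _ hsk, map_zero]
  have hres := Groth.L04.LC.exists_H_restrict_equiv (R := S) (R' := C) (P.comap (algebraMap S C)) d M
  rw [Ideal.map_comap_of_surjective _ hg P] at hres
  obtain ⟨θ, hθ⟩ := hres
  exact θ.injective (by rw [hθ, hkill, map_zero])

variable {E : Type u} [AddCommGroup E] [Module C E] {f : ResidueField C →ₗ[C] E} (hf : IsInjectiveHull f)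

include hd in
omit [IsAdicComplete (maximalIdeal C) C] in
theorem exists_surjective_H_top {I J : Ideal C} (hIJ : I ≤ J) (hJ : J ≤ maximalIdeal C)
    (M : Type u) [AddCommGroup M] [Module C M] :
    ∃ r : LocCoh.H J d M →ₗ[C] LocCoh.H I d M, Function.Surjective r :=
  ⟨Hmap hIJ d (ModuleCat.of C M), Groth.L04.LC.Hmap_top_surjective d hd hIJ hJ M⟩

include hd hf in
theorem finite_dual_top {I : Ideal C} (hI : I ≤ maximalIdeal C) (M : Type u) [AddCommGroup M] [Module C M]
    [Module.Finite C M] : Module.Finite C (LocCoh.H I d M →ₗ[C] E) := by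
  obtain ⟨r, hr⟩ := exists_surjective_H_top hd hI le_rfl M
  haveI := ((dual_H_props hd hf M).1 d).1
  exact Module.Finite.of_injective (LinearMap.lcomp C E r) fun a b h => LinearMap.ext fun x => by
    obtain ⟨y, rfl⟩ := hr x
    exact LinearMap.congr_fun h y

include hd hf in
theorem mem_associatedPrimes_dual_top {I : Ideal C} (hI : I ≤ maximalIdeal C) (M : Type u) [AddCommGroup M]
    [Module C M] [Module.Finite C M] {p : Ideal C}
    (hp : p ∈ associatedPrimes C (LocCoh.H I d M →ₗ[C] E)) :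
    p ∈ associatedPrimes C M ∧ ringKrullDim (C ⧸ p) = d ∧ (I ⊔ p).radical = maximalIdeal C := by
  obtain ⟨r, hr⟩ := exists_surjective_H_top hd hI le_rfl M
  have hinj : Function.Injective (LinearMap.lcomp C E r) := fun a b h => LinearMap.ext fun x => by
    obtain ⟨y, rfl⟩ := hr x
    exact LinearMap.congr_fun h y
  have hm : p ∈ associatedPrimes C (LocCoh.H (maximalIdeal C) d M →ₗ[C] E) :=
    IsAssociatedPrime.map_of_injective _ hp hinj
  rw [(dual_H_props hd hf M).2] at hm
  refine ⟨hm.1, hm.2, ?_⟩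
  obtain ⟨hpp, α, hα⟩ := isAssociatedPrime_iff.1 hp
  haveI := hpp
  have hle : I ⊔ p ≤ maximalIdeal C := sup_le hI (le_maximalIdeal hpp.ne_top)
  refine le_antisymm ((maximalIdeal.isMaximal C).isPrime.radical_le_iff.2 hle) ?_
  rw [Ideal.radical_eq_sInf]
  refine le_sInf fun Q ⟨hIQ, hQ⟩ => ?_
  by_contra hQm
  haveI := hQ
  have h0 : 0 < ringKrullDim (C ⧸ Q) := by
    have hne : Q ≠ maximalIdeal C := fun h => hQm h.ge
    rw [dim_quot (⟨Q, hQ⟩ : PrimeSpectrum C)]
    have := qd_lt (p := (⟨Q, hQ⟩ : PrimeSpectrum C)) (q := ⟨maximalIdeal C, inferInstance⟩)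
      (show Q < maximalIdeal C from lt_of_le_of_ne (le_maximalIdeal hQ.ne_top) hne)
    exact_mod_cast (by omega : 0 < qd (⟨Q, hQ⟩ : PrimeSpectrum C))
  obtain ⟨P, hP, hQP, hPd⟩ := Groth.L04.LC.exists_prime_dim_one Q h0
  haveI := hP
  obtain ⟨s, hs, hskill⟩ := exists_smul_H_eq_zero hd P hPd
  obtain ⟨r', hr'⟩ := exists_surjective_H_top hd (le_trans (le_sup_left.trans hIQ) hQP)
    (le_maximalIdeal hP.ne_top) M
  refine hs (hQP (hIQ (Ideal.mem_sup_right ?_)))
  rw [hα, Submodule.mem_colon_singleton, Submodule.mem_bot]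
  refine LinearMap.ext fun x => ?_
  obtain ⟨y, rfl⟩ := hr' x
  rw [LinearMap.smul_apply, ← map_smul, ← map_smul, hskill M y, map_zero, map_zero, LinearMap.zero_apply]

include hd hf in
/-- Hartshorne–Lichtenbaum for a complete local ring. -/
theorem subsingleton_H_top {I : Ideal C} (hI : I ≤ maximalIdeal C) (M : Type u) [AddCommGroup M] [Module C M]
    [Module.Finite C M]
    (h : ∀ p ∈ associatedPrimes C M, ringKrullDim (C ⧸ p) = d → (I ⊔ p).radical ≠ maximalIdeal C) :
    Subsingleton (LocCoh.H I d M) := by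
  haveI := finite_dual_top hd hf hI M
  haveI : Subsingleton (LocCoh.H I d M →ₗ[C] E) := by
    by_contra hne
    haveI := not_subsingleton_iff_nontrivial.1 hne
    obtain ⟨p, hp⟩ := associatedPrimes.nonempty C (LocCoh.H I d M →ₗ[C] E)
    obtain ⟨h1, h2, h3⟩ := mem_associatedPrimes_dual_top hd hf hI M hp
    exact h p h1 h2 h3
  exact subsingleton_of_subsingleton_dual hf

end Groth.L04.Canon
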