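import Groth.Agent.L04.Canon.HLV

/-!
# Hartshorne–Lichtenbaum vanishing for local rings, and associated primes of the dual of the top module
-/

set_option autoImplicit false
universe u

open CategoryTheory IsLocalRing InjHull TensorProduct

noncomputable section

namespace Groth.L04.Canon

open Groth.L10.FormCat Groth.L04.LC

section General

variable {R : Type u} [CommRing R] [IsNoetherianRing R]

theorem subsingleton_H_top_ideal (i : ℕ) (M : Type u) [AddCommGroup M] [Module R M] :
    Subsingleton (LocCoh.H (⊤ : Ideal R) i M) := by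
  refine subsingleton_of_forall_eq 0 fun x => ?_
  obtain ⟨k, hk⟩ := Groth.L04.LC.isPowerTorsion_H (⊤ : Ideal R) i (ModuleCat.of R M) x
  simpa using hk 1 (by rw [Ideal.top_pow]; trivial)

/-- For modules killed by `p`, supports with the same radical modulo `p` give the same cohomology. -/
theorem nonempty_H_equiv_of_killed (I J p : Ideal R) (hrad : (I ⊔ p).radical = (J ⊔ p).radical) (i : ℕ)
    (N : Type u) [AddCommGroup N] [Module R N] (hN : Module.IsTorsionBySet R N (p : Set R)) :
    Nonempty (LocCoh.H I i N ≃ₗ[R] LocCoh.H J i N) := by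
  letI := hN.module
  haveI : IsScalarTower R (R ⧸ p) N := hN.isScalarTower
  obtain ⟨φI, hI⟩ := exists_H_restrict_equiv (R := R) (R' := R ⧸ p) I i N
  obtain ⟨φJ, hJ⟩ := exists_H_restrict_equiv (R := R) (R' := R ⧸ p) J i N
  have hrad' : (I.map (algebraMap R (R ⧸ p))).radical = (J.map (algebraMap R (R ⧸ p))).radical := by
    refine Ideal.comap_injective_of_surjective _ Ideal.Quotient.mk_surjective ?_
    rw [Ideal.comap_radical, Ideal.comap_radical, Ideal.Quotient.algebraMap_eq,
      Ideal.comap_map_of_surjective' _ Ideal.Quotient.mk_surjective,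
      Ideal.comap_map_of_surjective' _ Ideal.Quotient.mk_surjective, Ideal.mk_ker]
    exact hrad
  let ψ : LocCoh.H (I.map (algebraMap R (R ⧸ p))) i N ≃ₗ[R ⧸ p] LocCoh.H (J.map (algebraMap R (R ⧸ p))) i N :=
    ((localCohomology.isoOfSameRadical hrad' i).app (ModuleCat.of (R ⧸ p) N)).toLinearEquiv
  exact ⟨{ (φI.symm.trans (ψ.toAddEquiv.trans φJ)) with
    map_smul' := fun r x => by
      show φJ (ψ (φI.symm (r • x))) = r • φJ (ψ (φI.symm x))
      rw [show φI.symm (r • x) = algebraMap R (R ⧸ p) r • φI.symm x from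
        φI.injective (by rw [hI, AddEquiv.apply_symm_apply, AddEquiv.apply_symm_apply]), map_smul, hJ] }⟩

end General

/-- Change of rings for duals of local cohomology with arbitrary supports. -/
theorem nonempty_dual_H_restrict_ideal {S C : Type u} [CommRing S] [IsLocalRing S] [IsNoetherianRing S]
    [CommRing C] [IsLocalRing C] [IsNoetherianRing C] [Algebra S C]
    (hg : Function.Surjective (algebraMap S C)) {ES : Type u} [AddCommGroup ES] [Module S ES]
    {fS : ResidueField S →ₗ[S] ES} (hfS : IsInjectiveHull fS) {EC : Type u} [AddCommGroup EC] [Module S EC]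
    [Module C EC] [IsScalarTower S C EC] {fC : ResidueField C →ₗ[C] EC} (hfC : IsInjectiveHull fC)
    (I : Ideal S) (i : ℕ) (M : Type u) [AddCommGroup M] [Module S M] [Module C M] [IsScalarTower S C M] :
    Nonempty ((LocCoh.H (I.map (algebraMap S C)) i M →ₗ[C] EC) ≃ₗ[S] (LocCoh.H I i M →ₗ[S] ES)) := by
  obtain ⟨φ, hφ⟩ := Groth.L04.LC.exists_H_restrict_equiv (R := S) (R' := C) I i M
  letI : Module S (LocCoh.H (I.map (algebraMap S C)) i M) := Module.compHom _ (algebraMap S C)
  haveI : IsScalarTower S C (LocCoh.H (I.map (algebraMap S C)) i M) :=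
    IsScalarTower.of_algebraMap_smul fun _ _ => rfl
  let φ' : LocCoh.H (I.map (algebraMap S C)) i M ≃ₗ[S] LocCoh.H I i M :=
    { φ with map_smul' := fun s x => hφ s x }
  obtain ⟨e⟩ := nonempty_dual_restrict hg hfS hfC (LocCoh.H (I.map (algebraMap S C)) i M)
  exact ⟨e ≪≫ₗ φ'.arrowCongr (LinearEquiv.refl S ES)⟩

/-- Associated primes of the dual of the top local cohomology module, complete local ring of dimension `d`. -/
theorem associatedPrimes_dual_top {C : Type u} [CommRing C] [IsLocalRing C] [IsNoetherianRing C]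
    [IsAdicComplete (maximalIdeal C) C] {d : ℕ} (hd : ringKrullDim C = d) {E : Type u} [AddCommGroup E]
    [Module C E] {f : ResidueField C →ₗ[C] E} (hf : IsInjectiveHull f) (I : Ideal C) (M : Type u)
    [AddCommGroup M] [Module C M] [Module.Finite C M] :
    associatedPrimes C (LocCoh.H I d M →ₗ[C] E) =
      {p | p ∈ associatedPrimes C M ∧ ringKrullDim (C ⧸ p) = d ∧ (I ⊔ p).radical = maximalIdeal C} := by
  by_cases hI : I ≤ maximalIdeal C
  swap
  · have htop : I = ⊤ := by
      by_contra h
      exact hI (le_maximalIdeal h)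
    subst htop
    haveI := subsingleton_H_top_ideal (R := C) d M
    haveI : Subsingleton (LocCoh.H (⊤ : Ideal C) d M →ₗ[C] E) :=
      ⟨fun a b => LinearMap.ext fun x => by rw [Subsingleton.elim x 0, map_zero, map_zero]⟩
    rw [associatedPrimes.eq_empty_of_subsingleton]
    symm
    refine Set.eq_empty_iff_forall_notMem.2 fun p hp => ?_
    obtain ⟨-, -, h⟩ := hp
    rw [top_sup_eq, Ideal.radical_top] at h
    exact (maximalIdeal.isMaximal C).ne_top h.symm
  ext p
  refine ⟨fun hp => mem_associatedPrimes_dual_top hd hf hI M hp, ?_⟩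
  rintro ⟨hpM, hpd, hrad⟩
  obtain ⟨hpp, x, hx⟩ := isAssociatedPrime_iff.1 hpM
  haveI := hpp
  let P : Submodule C M := p • ⊤
  let N := M ⧸ P
  have hN : Module.IsTorsionBySet C N (p : Set C) := fun y r => by
    obtain ⟨y, rfl⟩ := Submodule.Quotient.mk_surjective P y
    show (r : C) • (Submodule.Quotient.mk y : N) = 0
    rw [← Submodule.Quotient.mk_smul, Submodule.Quotient.mk_eq_zero]
    exact Submodule.smul_mem_smul r.2 trivial
  have hsM : (⟨p, hpp⟩ : PrimeSpectrum C) ∈ Module.support C M :=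
    Module.mem_support_iff'.2 ⟨x, fun c hc h0 => hc (by
      show c ∈ p; rw [hx, Submodule.mem_colon_singleton, Submodule.mem_bot]; exact h0)⟩
  have hsN : (⟨p, hpp⟩ : PrimeSpectrum C) ∈ Module.support C N := by
    show _ ∈ Module.support C (M ⧸ p • (⊤ : Submodule C M))
    rw [Module.support_quotient]
    exact ⟨hsM, (PrimeSpectrum.mem_zeroLocus _ _).2 le_rfl⟩
  have hpN : p ∈ associatedPrimes C N := by
    refine Module.associatedPrimes.minimalPrimes_annihilator_subset_associatedPrimes C N
      ⟨⟨hpp, Module.annihilator_le_of_mem_support hsN⟩, fun q ⟨hq, _⟩ hqp => ?_⟩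
    have hd' := (qd_eq_iff (⟨p, hpp⟩ : PrimeSpectrum C) d).1 hpd
    exact (congrArg PrimeSpectrum.asIdeal (eq_of_le_of_qd (p := ⟨q, hq⟩) (q := ⟨p, hpp⟩) hqp
      (by rw [hd']; exact qd_le hd _))).ge
  have h1 : p ∈ associatedPrimes C (LocCoh.H (maximalIdeal C) d N →ₗ[C] E) := by
    rw [(dual_H_props hd hf N).2]
    exact ⟨hpN, hpd⟩
  obtain ⟨θ⟩ := nonempty_H_equiv_of_killed I (maximalIdeal C) p
    (by rw [sup_eq_left.2 (le_maximalIdeal hpp.ne_top), (maximalIdeal.isMaximal C).isPrime.radical]; exact hrad) d N hN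
  let r : LocCoh.H I d M →ₗ[C] LocCoh.H (maximalIdeal C) d N := θ.toLinearMap ∘ₗ hmap I d P.mkQ
  have hr : Function.Surjective r := θ.surjective.comp fun y =>
    (H_exact₃ I (ses_shortExact P.subtype P.mkQ Subtype.val_injective (Submodule.mkQ_surjective P)
      (LinearMap.exact_subtype_mkQ P)) d y).1
        (@Subsingleton.elim _ (cdLE_of_ringKrullDim_le _ d hd.le _ (d + 1) d.lt_succ_self) _ _)
  exact IsAssociatedPrime.map_of_injective (LinearMap.lcomp C E r) h1 fun a b h => LinearMap.ext fun z => by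
    obtain ⟨w, rfl⟩ := hr z
    exact LinearMap.congr_fun h w

/-- Hartshorne–Lichtenbaum vanishing. -/
theorem cdLE_of_completion {R : Type u} [CommRing R] [IsLocalRing R] [IsNoetherianRing R] (I : Ideal R)
    {d : ℕ} (hd : ringKrullDim R = d)
    (h : ∀ p ∈ minimalPrimes (AdicCompletion (maximalIdeal R) R),
      ringKrullDim (AdicCompletion (maximalIdeal R) R ⧸ p) = d →
        1 ≤ ringKrullDim (AdicCompletion (maximalIdeal R) R ⧸
          (I.map (algebraMap R (AdicCompletion (maximalIdeal R) R)) ⊔ p))) :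
    1 ≤ d ∧ LocCoh.CdLE R I (d - 1) := by
  haveI := Groth.L01.AnalUnram.isNoetherianRing_completion R
  haveI := Groth.L01.CompletionExt.faithfullyFlat R
  let C := AdicCompletion (maximalIdeal R) R
  haveI : IsAdicComplete (maximalIdeal C) C := by
    rw [AdicCompletion.maximalIdeal_eq_map]
    exact AdicCompletion.isAdicComplete_self _ (maximalIdeal R).fg_of_isNoetherianRing
  have hdC : ringKrullDim C = d := (Groth.L01.CompletionReg.ringKrullDim_completion R).trans hd
  set J := I.map (algebraMap R C) with hJ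
  obtain ⟨P, -, hPd⟩ := exists_mem_le_qd (A := C) Set.univ (n := d)
    (by rw [Order.krullDim_eq_of_orderIso (OrderIso.Set.univ)]; exact hdC.ge)
  haveI := P.isPrime
  have hPd' : ringKrullDim (C ⧸ P.asIdeal) = d := (qd_eq_iff P d).2 (le_antisymm (qd_le hdC P) hPd)
  have hPmin : P.asIdeal ∈ minimalPrimes C := by
    refine ⟨⟨inferInstance, bot_le⟩, fun q ⟨hq, _⟩ hqP => ?_⟩
    exact (congrArg PrimeSpectrum.asIdeal (eq_of_le_of_qd (p := ⟨q, hq⟩) (q := P) hqP
      ((qd_le hdC _).trans hPd))).ge
  have h1 := h _ hPmin hPd'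
  have hJm : J ≤ maximalIdeal C := by
    by_contra hne
    have htop : J = ⊤ := by
      by_contra hh
      exact hne (le_maximalIdeal hh)
    haveI : Subsingleton (C ⧸ (J ⊔ P.asIdeal)) := by
      rw [htop, top_sup_eq]; exact Ideal.Quotient.subsingleton_iff.2 rfl
    rw [ringKrullDim_eq_bot_of_subsingleton] at h1
    exact absurd h1 (not_le.2 (WithBot.bot_lt_coe _))
  have hd1 : 1 ≤ d := by
    have h2 := ringKrullDim_le_of_surjective _ (Ideal.Quotient.factor_surjective (le_sup_right : P.asIdeal ≤ J ⊔ P.asIdeal))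
    rw [hPd'] at h2
    exact_mod_cast h1.trans h2
  refine ⟨hd1, cdLE_of_ring (I := I) fun i hi => ?_⟩
  rcases (show d ≤ i by omega).lt_or_eq with hlt | rfl
  · exact cdLE_of_ringKrullDim_le I d hd.le R i hlt
  obtain ⟨E, _, _, f, hf⟩ := Groth.Agent.S0299.result C (ResidueField C)
  haveI : Subsingleton (LocCoh.H J d C) := by
    refine subsingleton_H_top hdC hf hJm C fun p hp hpd hrad => ?_
    haveI := IsAssociatedPrime.isPrime hp
    have hmin : p ∈ minimalPrimes C := by
      refine ⟨⟨inferInstance, bot_le⟩, fun q ⟨hq, _⟩ hqp => ?_⟩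
      have hp' := (qd_eq_iff (⟨p, inferInstance⟩ : PrimeSpectrum C) d).1 hpd
      exact (congrArg PrimeSpectrum.asIdeal (eq_of_le_of_qd (p := ⟨q, hq⟩) (q := ⟨p, inferInstance⟩) hqp
        (by rw [hp']; exact qd_le hdC _))).ge
    have h2 := h p hmin hpd
    have h0 : ringKrullDim (C ⧸ (J ⊔ p)) ≤ 0 := by
      rw [ringKrullDim_quotient, Order.krullDim_nonpos_iff_forall_isMax]
      intro x y _
      have hm : ∀ z : PrimeSpectrum.zeroLocus ((J ⊔ p : Ideal C) : Set C), z.1.asIdeal = maximalIdeal C := fun z =>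
        ((maximalIdeal.isMaximal C).eq_of_le z.1.isPrime.ne_top
          (hrad ▸ (z.1.isPrime.radical_le_iff.2 z.2))).symm
      exact le_of_eq (Subtype.ext (PrimeSpectrum.ext ((hm y).trans (hm x).symm)))
    exact absurd (h2.trans h0) (by norm_num)
  obtain ⟨ψ⟩ := Groth.L04.LC.nonempty_H_baseChange_equiv (R' := C) I d R
  let e : LocCoh.H J d (C ⊗[R] R) ≃ₗ[C] LocCoh.H J d C :=
    ((localCohomology J d).mapIso ((Algebra.TensorProduct.rid R C C).toLinearEquiv.toModuleIso)).toLinearEquiv
  haveI : Subsingleton (C ⊗[R] LocCoh.H I d R) := (ψ ≪≫ₗ e).toEquiv.subsingleton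
  by_contra hne
  rw [not_subsingleton_iff_nontrivial] at hne
  exact not_subsingleton (C ⊗[R] LocCoh.H I d R) inferInstance

end Groth.L04.Canon
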