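import Groth.Agent.L04.LC.Annihilate
import Groth.Agent.L04.LC.Vanish
import Groth.Agent.L04.LC.Torsion

/-!
# The top local cohomology functor is dual to `Hom(-, K)`
-/

set_option autoImplicit false
universe u

open CategoryTheory Limits IsLocalRing

noncomputable section

namespace Groth.L04.Canon

open Groth.L04.LC

variable {R : Type u} [CommRing R] {I : Ideal R} {n : ℕ}
variable {E : Type u} [AddCommGroup E] [Module R E] {K : Type u} [AddCommGroup K] [Module R K]

/-- `H^n_I` on maps. -/
abbrev hmap (I : Ideal R) (n : ℕ) {M N : Type u} [AddCommGroup M] [Module R M] [AddCommGroup N]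
    [Module R N] (f : M →ₗ[R] N) : LocCoh.H I n M →ₗ[R] LocCoh.H I n N :=
  ((localCohomology I n).map (ModuleCat.ofHom f)).hom

theorem hmap_comp {M N P : Type u} [AddCommGroup M] [Module R M] [AddCommGroup N] [Module R N]
    [AddCommGroup P] [Module R P] (f : M →ₗ[R] N) (g : N →ₗ[R] P) (x : LocCoh.H I n M) :
    hmap I n g (hmap I n f x) = hmap I n (g.comp f) x :=
  map_comp_apply I n f g x

theorem hmap_id {M : Type u} [AddCommGroup M] [Module R M] (x : LocCoh.H I n M) :
    hmap I n (LinearMap.id : M →ₗ[R] M) x = x := by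
  show ((localCohomology I n).map (ModuleCat.ofHom LinearMap.id)).hom x = x
  rw [ModuleCat.ofHom_id, CategoryTheory.Functor.map_id]
  rfl

theorem hmap_smul {M N : Type u} [AddCommGroup M] [Module R M] [AddCommGroup N] [Module R N]
    (c : R) (f : M →ₗ[R] N) (x : LocCoh.H I n M) : hmap I n (c • f) x = c • hmap I n f x := by
  rw [show c • f = (c • LinearMap.id).comp f from LinearMap.ext fun _ => rfl, ← hmap_comp]
  exact map_smul_id I n (ModuleCat.of R N) c _

variable (eK : (K →ₗ[R] E) ≃ₗ[R] LocCoh.H I n R)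

/-- `k ↦ pr_i • k`. -/
def cEl (a : ℕ) (i : Fin a) : K →ₗ[R] ((Fin a → R) →ₗ[R] K) :=
  LinearMap.smulRightₗ (LinearMap.proj i)

theorem cEl_apply (a : ℕ) (i : Fin a) (k : K) (v : Fin a → R) : cEl a i k v = v i • k := rfl

/-- the comparison on free modules -/
def theta (a : ℕ) : (((Fin a → R) →ₗ[R] K) →ₗ[R] E) →ₗ[R] LocCoh.H I n (Fin a → R) :=
  ∑ i, (hmap I n (LinearMap.single R (fun _ : Fin a => R) i)).comp
    (eK.toLinearMap.comp (LinearMap.lcomp R E (cEl a i)))

theorem theta_apply (a : ℕ) (Φ : ((Fin a → R) →ₗ[R] K) →ₗ[R] E) :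
    theta eK a Φ = ∑ i, hmap I n (LinearMap.single R (fun _ : Fin a => R) i) (eK (Φ.comp (cEl a i))) := by
  simp [theta, LinearMap.coe_sum, Finset.sum_apply, LinearMap.lcomp_apply']

theorem proj_theta (a : ℕ) (Φ : ((Fin a → R) →ₗ[R] K) →ₗ[R] E) (j : Fin a) :
    hmap I n (LinearMap.proj (φ := fun _ : Fin a => R) j) (theta eK a Φ) = eK (Φ.comp (cEl a j)) := by
  rw [theta_apply, map_sum, Finset.sum_eq_single j]
  · rw [hmap_comp, LinearMap.proj_comp_single_same, hmap_id]
  · intro i _ hi
    rw [hmap_comp, LinearMap.proj_comp_single_ne R _ j i (Ne.symm hi)]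
    have := hmap_smul (I := I) (n := n) (0 : R) (LinearMap.id : R →ₗ[R] R)
    simpa using this _
  · exact fun h => absurd (Finset.mem_univ j) h

theorem theta_bijective (a : ℕ) : Function.Bijective (theta eK a) := by
  classical
  refine ⟨fun Φ Ψ h => LinearMap.ext fun ψ => ?_, fun x => ?_⟩
  · have hψ : ψ = ∑ i, cEl a i (ψ (Pi.single i 1)) := LinearMap.ext fun v => by
      rw [LinearMap.coe_sum, Finset.sum_apply]
      conv_lhs => rw [pi_eq_sum_univ' v, map_sum]
      exact Finset.sum_congr rfl fun i _ => map_smul ψ (v i) _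
    have hc : ∀ i, Φ.comp (cEl a i) = Ψ.comp (cEl a i) := fun i =>
      eK.injective (by rw [← proj_theta eK a Φ i, ← proj_theta eK a Ψ i, h])
    rw [hψ, map_sum, map_sum]
    exact Finset.sum_congr rfl fun i _ => LinearMap.congr_fun (hc i) _
  · let Φ : ((Fin a → R) →ₗ[R] K) →ₗ[R] E :=
      ∑ j, (eK.symm (hmap I n (LinearMap.proj (φ := fun _ : Fin a => R) j) x)).comp
        (LinearMap.applyₗ (Pi.single j (1 : R)))
    have hc : ∀ i, Φ.comp (cEl a i) = eK.symm (hmap I n (LinearMap.proj (φ := fun _ : Fin a => R) i) x) := by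
      intro i
      refine LinearMap.ext fun k => ?_
      simp only [Φ, LinearMap.comp_apply, LinearMap.coe_sum, Finset.sum_apply, LinearMap.applyₗ_apply_apply,
        cEl_apply]
      rw [Finset.sum_eq_single i]
      · rw [Pi.single_eq_same, one_smul]
      · intro j _ hj
        rw [Pi.single_eq_of_ne (Ne.symm hj), zero_smul, map_zero]
      · exact fun h => absurd (Finset.mem_univ i) h
    refine ⟨Φ, ?_⟩
    rw [theta_apply]
    simp only [hc, LinearEquiv.apply_symm_apply, hmap_comp]
    have hid : (LinearMap.id : (Fin a → R) →ₗ[R] (Fin a → R)) =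
        ∑ j, (LinearMap.single R (fun _ => R) j).comp (LinearMap.proj j) := by
      refine LinearMap.ext fun v => ?_
      simp only [LinearMap.id_apply, LinearMap.coe_sum, Finset.sum_apply, LinearMap.comp_apply,
        LinearMap.proj_apply]
      exact (Finset.univ_sum_single v).symm
    conv_rhs => rw [← hmap_id x, hid]
    exact (H_map_sum I n _ _ x).symm

theorem theta_natural {a b : ℕ} (ψ : (Fin b → R) →ₗ[R] (Fin a → R))
    (Φ : ((Fin b → R) →ₗ[R] K) →ₗ[R] E) :
    theta eK a (Φ.comp (LinearMap.lcomp R K ψ)) = hmap I n ψ (theta eK b Φ) := by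
  classical
  have hrow : ∀ i, (LinearMap.proj (φ := fun _ : Fin a => R) i).comp ψ =
      ∑ j, ψ (Pi.single j 1) i • LinearMap.proj (φ := fun _ : Fin b => R) j := fun i =>
    LinearMap.ext fun v => by
      simp only [LinearMap.comp_apply, LinearMap.proj_apply, LinearMap.coe_sum, Finset.sum_apply,
        LinearMap.smul_apply, smul_eq_mul]
      conv_lhs => rw [pi_eq_sum_univ' v, map_sum, Finset.sum_apply]
      exact Finset.sum_congr rfl fun j _ => by rw [map_smul, Pi.smul_apply, smul_eq_mul, mul_comm]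
  have hproj : ∀ i, hmap I n (LinearMap.proj (φ := fun _ : Fin a => R) i) (hmap I n ψ (theta eK b Φ)) =
      eK ((Φ.comp (LinearMap.lcomp R K ψ)).comp (cEl a i)) := fun i => by
    rw [hmap_comp, hrow, hmap, H_map_sum]
    have hcomp : (Φ.comp (LinearMap.lcomp R K ψ)).comp (cEl a i) =
        ∑ j, ψ (Pi.single j 1) i • Φ.comp (cEl b j) := LinearMap.ext fun k => by
      have : (cEl a i k).comp ψ = ∑ j, ψ (Pi.single j 1) i • cEl b j k := LinearMap.ext fun v => by
        have h := LinearMap.congr_fun (hrow i) v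
        simp only [LinearMap.comp_apply, LinearMap.proj_apply, LinearMap.coe_sum, Finset.sum_apply,
          LinearMap.smul_apply] at h
        simp only [LinearMap.comp_apply, cEl_apply, h, LinearMap.coe_sum, Finset.sum_apply,
          LinearMap.smul_apply, Finset.sum_smul, smul_smul, smul_eq_mul]
      simp only [LinearMap.comp_apply, LinearMap.lcomp_apply', this, map_sum, map_smul,
        LinearMap.coe_sum, Finset.sum_apply, LinearMap.smul_apply]
    rw [hcomp, map_sum]
    refine Finset.sum_congr rfl fun j _ => ?_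
    rw [map_smul, ← proj_theta eK b Φ j]
    exact hmap_smul _ _ _
  obtain ⟨Ψ, hΨ⟩ := (theta_bijective eK a).2 (hmap I n ψ (theta eK b Φ))
  rw [← hΨ]
  refine congrArg (theta eK a) (LinearMap.ext fun χ => ?_)
  have hχ : χ = ∑ i, cEl a i (χ (Pi.single i 1)) := LinearMap.ext fun v => by
    rw [LinearMap.coe_sum, Finset.sum_apply]
    conv_lhs => rw [pi_eq_sum_univ' v, map_sum]
    exact Finset.sum_congr rfl fun i _ => map_smul χ (v i) _
  rw [hχ, map_sum, map_sum]
  refine Finset.sum_congr rfl fun i _ => ?_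
  have h := hproj i
  rw [← hΨ, proj_theta] at h
  exact (LinearMap.congr_fun (eK.injective h) _).symm

/-- The comparison attached to a given presentation. -/
theorem exists_top_equiv [IsNoetherianRing R] (hE : Module.Injective R E) (hcd : LocCoh.CdLE R I n)
    (M : Type u) [AddCommGroup M] [Module R M] [Module.Finite R M] {a : ℕ}
    (q : (Fin a → R) →ₗ[R] M) (hq : Function.Surjective q) :
    ∃ e : LocCoh.H I n M ≃ₗ[R] ((M →ₗ[R] K) →ₗ[R] E),
      ∀ Φ, e (hmap I n q (theta eK a Φ)) = Φ.comp (LinearMap.lcomp R K q) := by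
  obtain ⟨b, p, hp⟩ := Module.Finite.exists_fin' R (LinearMap.ker q)
  let ψ : (Fin b → R) →ₗ[R] (Fin a → R) := (LinearMap.ker q).subtype.comp p
  have hs := ses_shortExact (LinearMap.ker q).subtype q Subtype.val_injective hq
    (LinearMap.exact_subtype_ker_map q)
  have hqs : Function.Surjective (hmap I n q) := fun x =>
    (H_exact₃ I hs n x).1 (@Subsingleton.elim _ (hcd _ (n + 1) (Nat.lt_succ_self n)) _ _)
  have hps : Function.Surjective (hmap I n p) := fun x =>
    (H_exact₃ I (ses_shortExact (LinearMap.ker p).subtype p Subtype.val_injective hp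
      (LinearMap.exact_subtype_ker_map p)) n x).1 (@Subsingleton.elim _ (hcd _ (n + 1) (Nat.lt_succ_self n)) _ _)
  let Q : (((Fin a → R) →ₗ[R] K) →ₗ[R] E) →ₗ[R] ((M →ₗ[R] K) →ₗ[R] E) :=
    LinearMap.lcomp R E (LinearMap.lcomp R K q)
  have hQs : Function.Surjective Q := fun Φ => by
    obtain ⟨Ψ, hΨ⟩ := hE.out (LinearMap.lcomp R K q) (fun α β h => LinearMap.ext fun m => by
      obtain ⟨v, rfl⟩ := hq m
      exact LinearMap.congr_fun h v) Φ
    exact ⟨Ψ, LinearMap.ext hΨ⟩
  have hker : LinearMap.ker (hmap I n q) = (LinearMap.ker Q).map (theta eK a) := by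
    apply le_antisymm
    · intro x hx
      obtain ⟨y, rfl⟩ := (H_exact₂ I hs n x).1 hx
      obtain ⟨z, rfl⟩ := hps y
      obtain ⟨Φ, rfl⟩ := (theta_bijective eK b).2 z
      refine ⟨Φ.comp (LinearMap.lcomp R K ψ), LinearMap.mem_ker.2 (LinearMap.ext fun χ => ?_),
        (theta_natural eK ψ Φ).trans (hmap_comp p (LinearMap.ker q).subtype _).symm⟩
      have : (LinearMap.lcomp R K ψ) ((LinearMap.lcomp R K q) χ) = 0 := LinearMap.ext fun v => by
        simp only [LinearMap.lcomp_apply, ψ, LinearMap.comp_apply, Submodule.coe_subtype,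
          LinearMap.mem_ker.1 (p v).2, map_zero, LinearMap.zero_apply]
      simp only [Q, LinearMap.lcomp_apply, LinearMap.comp_apply, this, map_zero, LinearMap.zero_apply]
    · rintro _ ⟨Φ, hΦ, rfl⟩
      let L := LinearMap.lcomp R K ψ
      have hle : LinearMap.ker L ≤ LinearMap.ker Φ := fun χ hχ => by
        have h0 : LinearMap.ker q ≤ LinearMap.ker χ := fun v hv => by
          obtain ⟨w, hw⟩ := hp ⟨v, hv⟩
          have := LinearMap.congr_fun (LinearMap.mem_ker.1 hχ) w
          simp only [L, LinearMap.lcomp_apply, ψ, LinearMap.comp_apply, hw, LinearMap.zero_apply] at this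
          exact this
        have hfac : χ = ((LinearMap.ker q).liftQ χ h0 ∘ₗ (q.quotKerEquivOfSurjective hq).symm.toLinearMap).comp q :=
          LinearMap.ext fun v => by simp [LinearMap.quotKerEquivOfSurjective_symm_apply]
        rw [LinearMap.mem_ker, hfac]
        exact LinearMap.congr_fun (LinearMap.mem_ker.1 hΦ)
          ((LinearMap.ker q).liftQ χ h0 ∘ₗ (q.quotKerEquivOfSurjective hq).symm.toLinearMap)
      obtain ⟨Ψ, hΨ⟩ := hE.out ((LinearMap.ker L).liftQ L le_rfl)
        (LinearMap.ker_eq_bot.1 (Submodule.ker_liftQ_eq_bot _ _ _ le_rfl)) ((LinearMap.ker L).liftQ Φ hle)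
      have hfac : Φ = Ψ.comp L := LinearMap.ext fun χ =>
        ((LinearMap.ker L).liftQ_apply Φ χ).symm.trans
          ((hΨ _).symm.trans (congrArg Ψ ((LinearMap.ker L).liftQ_apply L χ)))
      rw [LinearMap.mem_ker, hfac, theta_natural, hmap_comp]
      have hz : q.comp ψ = (0 : R) • q.comp ψ := by
        rw [zero_smul]
        exact LinearMap.ext fun v => (p v).2
      rw [hz, hmap_smul, zero_smul]
  let θ := LinearEquiv.ofBijective (theta eK a) (theta_bijective eK a)
  let e' : ((M →ₗ[R] K) →ₗ[R] E) ≃ₗ[R] LocCoh.H I n M :=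
    ((LinearMap.quotKerEquivOfSurjective Q hQs).symm ≪≫ₗ
      Submodule.Quotient.equiv (LinearMap.ker Q) (LinearMap.ker (hmap I n q)) θ hker.symm) ≪≫ₗ
        LinearMap.quotKerEquivOfSurjective (hmap I n q) hqs
  have h : ∀ Φ, e' (Q Φ) = hmap I n q (theta eK a Φ) := fun Φ => by
    show (LinearMap.quotKerEquivOfSurjective (hmap I n q) hqs) (Submodule.Quotient.equiv (LinearMap.ker Q)
      (LinearMap.ker (hmap I n q)) θ hker.symm ((LinearMap.quotKerEquivOfSurjective Q hQs).symm (Q Φ))) = _
    rw [LinearMap.quotKerEquivOfSurjective_symm_apply]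
    rfl
  exact ⟨e'.symm, fun Φ => e'.injective (by rw [e'.apply_symm_apply]; exact (h Φ).symm)⟩

include eK in
/-- Any functor-like top cohomology with `H(R) = Hom(K,E)` is `Hom(Hom(-,K),E)`. -/
theorem nonempty_top_equiv [IsNoetherianRing R] (hE : Module.Injective R E) (hcd : LocCoh.CdLE R I n)
    (M : Type u) [AddCommGroup M] [Module R M] [Module.Finite R M] :
    Nonempty (LocCoh.H I n M ≃ₗ[R] ((M →ₗ[R] K) →ₗ[R] E)) := by
  obtain ⟨a, q, hq⟩ := Module.Finite.exists_fin' R M
  obtain ⟨e, -⟩ := exists_top_equiv eK hE hcd M q hq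
  exact ⟨e⟩

end Groth.L04.Canon
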