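import Groth.Agent.L04.Canon.Completion
import Groth.Agent.L04.Canon.GorProps
import Groth.Agent.L04.Depth2
import Groth.Agent.L04.LC.Vanish
import Groth.Agent.L04.LC.Annihilate
import Groth.Agent.L10.FormCat.Formal

/-!
# Structure of a canonical module via its completion

Associated primes, annihilator, support and depth of a canonical module.
-/

set_option autoImplicit false
universe u

open IsLocalRing InjHull TensorProduct CategoryTheory

noncomputable section

namespace Groth.L04.Canon

open Groth.L10.FormCat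

section Primes

variable {A : Type u} [CommRing A] [IsNoetherianRing A] [IsLocalRing A]

theorem qd_lt {p q : PrimeSpectrum A} (h : p < q) : qd q < qd p := by
  have h1 : Order.coheight q < ⊤ := WithBot.coe_lt_coe.1
    ((Order.coheight_le_krullDim q).trans_lt ringKrullDim_lt_top)
  have h0 : Order.coheight p < ⊤ := WithBot.coe_lt_coe.1
    ((Order.coheight_le_krullDim p).trans_lt ringKrullDim_lt_top)
  have h2 := Order.coheight_strictAnti h h1
  obtain ⟨a, ha⟩ := ENat.ne_top_iff_exists.1 h1.ne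
  obtain ⟨b, hb⟩ := ENat.ne_top_iff_exists.1 h0.ne
  rw [qd, qd, ← ha, ← hb, ENat.toNat_natCast, ENat.toNat_natCast]
  rw [← ha, ← hb] at h2
  exact_mod_cast h2

theorem qd_le {n : ℕ} (hn : ringKrullDim A = n) (p : PrimeSpectrum A) : qd p ≤ n := by
  have h := ringKrullDim_quotient_le p.asIdeal
  rw [dim_quot, hn] at h
  exact_mod_cast h

theorem qd_add_length_le (s : LTSeries (PrimeSpectrum A)) : qd s.last + s.length ≤ qd s.head := by
  have : ∀ i : Fin (s.length + 1), qd (s i) + i ≤ qd s.head := by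
    intro i
    induction i using Fin.induction with
    | zero => simp [RelSeries.head]
    | succ j ih =>
      have := qd_lt (s.step j)
      simp only [Fin.val_succ, Fin.val_castSucc] at ih ⊢
      omega
  simpa [RelSeries.last] using this (Fin.last _)

theorem exists_mem_le_qd (Z : Set (PrimeSpectrum A)) {n : ℕ}
    (h : (n : WithBot ℕ∞) ≤ Order.krullDim Z) : ∃ p ∈ Z, n ≤ qd p := by
  obtain ⟨l, hl⟩ := Order.le_krullDim_iff.1 h
  refine ⟨l.head.1, l.head.2, ?_⟩
  have := qd_add_length_le (l.map Subtype.val (fun _ _ h => h))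
  rw [LTSeries.head_map] at this
  simp only [LTSeries.map_length] at this
  omega

theorem eq_of_le_of_qd {p q : PrimeSpectrum A} (h : p ≤ q) (hd : qd p ≤ qd q) : p = q := by
  rcases h.lt_or_eq with h | h
  · have := qd_lt h
    omega
  · exact h

/-- In a catenary local ring `ht Q + dim A/Q` increases along inclusions. -/
theorem height_add_qd_mono (hc : CAlg.IsCatenary A) :
    ∀ (k : ℕ) (Q P : PrimeSpectrum A), qd Q = k → Q ≤ P →
      Q.asIdeal.height + (qd Q : ℕ∞) ≤ P.asIdeal.height + (qd P : ℕ∞) := by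
  intro k
  induction k using Nat.strong_induction_on with
  | _ k ih =>
    intro Q P hk hQP
    rcases hQP.lt_or_eq with hlt | rfl
    swap
    · exact le_rfl
    classical
    let S : Set ℕ := {m | ∃ r, Q < r ∧ r ≤ P ∧ qd r = m}
    have hSne : S.Nonempty := ⟨_, P, hlt, le_rfl, rfl⟩
    have hSb : ∀ m ∈ S, m ≤ k := fun m ⟨r, hr, _, hm⟩ => hm ▸ hk ▸ (qd_lt hr).le
    obtain ⟨m, ⟨r, hr, hrP, hm⟩, hmax⟩ : ∃ m ∈ S, ∀ m' ∈ S, m' ≤ m :=
      ⟨Nat.findGreatest (· ∈ S) k, Nat.findGreatest_spec (hSb _ hSne.some_mem) hSne.some_mem,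
        fun m' hm' => Nat.le_findGreatest (hSb m' hm') hm'⟩
    have hcov : Q ⋖ r := ⟨hr, fun x hQx hxr => by
      have := hmax _ ⟨x, hQx, hxr.le.trans hrP, rfl⟩
      have := qd_lt hxr
      omega⟩
    have h1 := covBy_step hc hcov
    have h2 := ih m (by have := qd_lt hr; omega) r P hm hrP
    haveI := Q.isPrime
    haveI := r.isPrime
    have h3 : Q.asIdeal.height + 1 ≤ r.asIdeal.height :=
      Order.add_one_le_of_lt (Ideal.height_strict_mono_of_isPrime hr)
    refine le_trans ?_ h2
    rw [h1, Nat.cast_add, Nat.cast_one, add_comm (qd r : ℕ∞) 1, ← add_assoc]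
    exact add_le_add_left h3 _

/-- Every prime contains one, `q`, with `ht p + dim A/p ≤ dim A/q`. -/
theorem exists_le_height_add_qd_le (p : PrimeSpectrum A) :
    ∃ (h : ℕ) (q : PrimeSpectrum A), p.asIdeal.height = h ∧ q ≤ p ∧ h + qd p ≤ qd q := by
  haveI := p.isPrime
  obtain ⟨s, hsl, hsn⟩ := p.asIdeal.exists_ltSeries_length_eq_height
  refine ⟨s.length, s.head, hsn.symm, le_of_le_of_eq (LTSeries.head_le_last s) hsl, ?_⟩
  have := qd_add_length_le s
  rw [hsl] at this
  show s.length + qd (⟨p.asIdeal, _⟩ : PrimeSpectrum A) ≤ _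
  omega

end Primes

variable {R : Type u} [CommRing R] [IsLocalRing R] [IsNoetherianRing R]

local notation "Rh" => AdicCompletion (maximalIdeal R) R

theorem ringKrullDim_quotient_map_completion {p : Ideal R} (hp : p ≠ ⊤) :
    ringKrullDim (Rh ⧸ p.map (algebraMap R Rh)) = ringKrullDim (R ⧸ p) := by
  obtain ⟨h1, -, -, h4, h5, hf⟩ := cpl_facts (A := R)
  haveI := h1; haveI := h4; haveI := h5
  exact (dim_add_fib (B := EGA4.Cpl R) hp).trans (by rw [hf, add_zero])

theorem algebraMap_smul_tmul_eq_zero {B M : Type u} [CommRing B] [Algebra R B] [AddCommGroup M]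
    [Module R M] {r : R} (hr : ∀ m : M, r • m = 0) (x : B ⊗[R] M) : algebraMap R B r • x = 0 := by
  rw [algebraMap_smul]
  induction x using TensorProduct.induction_on with
  | zero => exact smul_zero _
  | tmul b m => rw [← tmul_smul, hr, tmul_zero]
  | add x y hx hy => rw [smul_add, hx, hy, add_zero]

variable {n : ℕ} (hn : ringKrullDim R = n) {E : Type u} [AddCommGroup E] [Module R E]
  {f : ResidueField R →ₗ[R] E} (hf : IsInjectiveHull f) {K : Type u} [AddCommGroup K] [Module R K]
  [Module.Finite R K] (eK : (K →ₗ[R] E) ≃ₗ[R] LocCoh.H (maximalIdeal R) n R)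

include hn hf eK in
theorem completion_props :
    associatedPrimes Rh (Rh ⊗[R] K) = {P : Ideal Rh | P.IsPrime ∧ ringKrullDim (Rh ⧸ P) = n} ∧
    (∀ c : Rh, (∀ x : Rh ⊗[R] K, c • x = 0) → ∀ P : Ideal Rh, P.IsPrime →
      ringKrullDim (Rh ⧸ P) = n → ∃ v, v ∉ P ∧ v * c = 0) ∧
    (∀ (J : Ideal Rh) (k : ℕ), k ≤ 2 → (∀ P : Ideal Rh, P.IsPrime → J ≤ P →
      (k : WithBot ℕ∞) + ringKrullDim (Rh ⧸ P) ≤ n) → (k : ℕ∞) ≤ LocCoh.idealDepth J (Rh ⊗[R] K)) := by
  haveI := Groth.L01.AnalUnram.isNoetherianRing_completion R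
  obtain ⟨S, _, _, _, hg, hS, H, _, _, _, _, ev, hev, ⟨e⟩⟩ := exists_model hn hf eK
  refine ⟨(LinearEquiv.AssociatedPrimes.eq e).trans (associatedPrimes_coind hg hev hS),
    fun c hc P hP hdim => ?_, fun J k hk hJ => ?_⟩
  · exact exists_notMem_mul_eq_zero hg hev hS
      (fun x => by rw [← e.apply_symm_apply x, ← map_smul, hc, map_zero]) P hdim
  rcases eq_or_ne J ⊤ with rfl | hJtop
  · rw [Groth.L04.idealDepth_eq_top (Submodule.top_smul _)]
    exact le_top
  haveI : LocCoh.IsCohenMacaulayLocalRing S := Groth.Agent.S0341.result S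
  haveI : Module.Finite S Rh := Module.Finite.of_surjective (Algebra.linearMap S Rh) hg
  haveI : Module.Finite Rh H := finite_coind hg hev
  set J' := J.comap (algebraMap S Rh) with hJ'
  have hJ'top : J' ≠ ⊤ := Ideal.comap_ne_top _ hJtop
  have hht : (k : ℕ∞) ≤ J'.height := by
    rw [Ideal.height_eq_inf_minimalPrimes]
    refine le_iInf₂ fun Q hQ => ?_
    haveI := hQ.isPrime
    have hker : RingHom.ker (algebraMap S Rh) ≤ Q :=
      (Ideal.comap_mono bot_le : RingHom.ker (algebraMap S Rh) ≤ J').trans hQ.le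
    haveI := Ideal.map_isPrime_of_surjective hg hker
    have hQeq : (Q.map (algebraMap S Rh)).comap (algebraMap S Rh) = Q := by
      rw [Ideal.comap_map_of_surjective' _ hg, sup_eq_left]
      exact hker
    have hJQ : J ≤ Q.map (algebraMap S Rh) := by
      rw [← Ideal.map_comap_of_surjective _ hg J]
      exact Ideal.map_mono hQ.le
    have h1 := hJ _ inferInstance hJQ
    rw [← ringKrullDim_quotient_comap hg, hQeq, dim_quot (⟨Q, inferInstance⟩ : PrimeSpectrum S)] at h1
    have h2 := ringKrullDim_quotient_add_height Q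
    rw [hS, dim_quot (⟨Q, inferInstance⟩ : PrimeSpectrum S)] at h2
    generalize qd (⟨Q, inferInstance⟩ : PrimeSpectrum S) = d at h1 h2
    generalize Q.height = a at h2 ⊢
    induction a using ENat.recTopCoe with
    | top => exact le_top
    | coe a =>
      have h1' : k + d ≤ n := by exact_mod_cast h1
      have h2' : d + a = n := by exact_mod_cast h2
      exact_mod_cast (by omega : k ≤ a)
  have hS' : (k : ℕ∞) ≤ LocCoh.idealDepth J' S := by
    rw [(Groth.L04.isCohenMacaulayRing_iff_height.1 (Groth.L04.isCohenMacaulayRing_of_local S)) J' hJ'top]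
    exact hht
  have hH : (k : ℕ∞) ≤ LocCoh.idealDepth J' H := by
    rw [Groth.L04.idealDepth_congr (coindEquiv hev)]
    interval_cases k
    · simp
    · simpa using (Groth.L04.idealDepth_dual J' Rh).1 (by simpa using hS')
    · simpa using (Groth.L04.idealDepth_dual J' Rh).2 (by simpa using hS')
  rw [Groth.L04.idealDepth_eq_idealDepth_map_of_finite (R := S) (B := Rh) J' H,
    hJ', Ideal.map_comap_of_surjective _ hg J] at hH
  rwa [Groth.L04.idealDepth_congr e]

include hn hf eK in
theorem le_idealDepth (I : Ideal R) (k : ℕ) (hk : k ≤ 2)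
    (h : (k : WithBot ℕ∞) + ringKrullDim (R ⧸ I) ≤ n) : (k : ℕ∞) ≤ LocCoh.idealDepth I K := by
  rcases eq_or_ne I ⊤ with rfl | hI
  · rw [Groth.L04.idealDepth_eq_top (Submodule.top_smul _)]
    exact le_top
  haveI := Groth.L01.AnalUnram.isNoetherianRing_completion R
  haveI := Groth.L01.CompletionExt.faithfullyFlat R
  rw [← (Groth.L04.idealDepth_baseChange (M := K) (B := Rh) I).2 inferInstance]
  refine (completion_props hn hf eK).2.2 _ k hk fun P _ hP => le_trans ?_ h
  exact add_le_add le_rfl ((ringKrullDim_le_of_surjective _ (Ideal.Quotient.factor_surjective hP)).trans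
    (ringKrullDim_quotient_map_completion hI).le)

include hn in
/-- A prime `p` with `dim R/p = n` lies under such a prime of the completion. -/
theorem exists_top_over (p : Ideal R) [p.IsPrime] (hp : ringKrullDim (R ⧸ p) = n) :
    ∃ P : Ideal Rh, P.IsPrime ∧ ringKrullDim (Rh ⧸ P) = n ∧ P.comap (algebraMap R Rh) = p := by
  haveI := Groth.L01.AnalUnram.isNoetherianRing_completion R
  have h := ringKrullDim_quotient_map_completion (R := R) (Ideal.IsPrime.ne_top ‹p.IsPrime›)
  rw [hp, ringKrullDim_quotient] at h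
  obtain ⟨P, hP, hd⟩ := exists_mem_le_qd _ h.ge
  have hPn : qd P = n := le_antisymm (qd_le ((Groth.L01.CompletionReg.ringKrullDim_completion R).trans hn) P) hd
  refine ⟨P.asIdeal, P.isPrime, (qd_eq_iff P n).2 hPn, ?_⟩
  rw [PrimeSpectrum.mem_zeroLocus, SetLike.coe_subset_coe] at hP
  let q : PrimeSpectrum R := ⟨P.asIdeal.comap (algebraMap R Rh), inferInstance⟩
  have hq : qd q ≥ n := by
    have h1 := ringKrullDim_le_of_surjective _ (Ideal.Quotient.factor_surjective
      (Ideal.map_comap_le : (P.asIdeal.comap (algebraMap R Rh)).map (algebraMap R Rh) ≤ P.asIdeal))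
    rw [ringKrullDim_quotient_map_completion (Ideal.comap_ne_top _ P.isPrime.ne_top), (qd_eq_iff P n).2 hPn,
      show P.asIdeal.comap (algebraMap R Rh) = q.asIdeal from rfl, dim_quot] at h1
    exact_mod_cast h1
  have := eq_of_le_of_qd (p := ⟨p, inferInstance⟩) (q := q) (Ideal.map_le_iff_le_comap.1 hP)
    (le_trans (qd_le hn _) hq)
  exact congrArg PrimeSpectrum.asIdeal this.symm

include hn hf eK in
theorem mem_associatedPrimes_iff (p : Ideal R) :
    p ∈ associatedPrimes R K ↔ p.IsPrime ∧ ringKrullDim (R ⧸ p) = n := by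
  haveI := Groth.L01.AnalUnram.isNoetherianRing_completion R
  haveI := Groth.L01.CompletionExt.faithfullyFlat R
  obtain ⟨hass, -, -⟩ := completion_props hn hf eK
  constructor
  · intro h
    obtain ⟨hp, g, hg⟩ := (isAssociatedPrime_iff_exists_injective_linearMap _ _).1 h
    haveI : Nontrivial (R ⧸ p) := Ideal.Quotient.nontrivial_iff.2 hp.ne_top
    obtain ⟨P, hP⟩ := associatedPrimes.nonempty Rh (Rh ⊗[R] (R ⧸ p))
    have hG : Function.Injective (g.baseChange Rh) :=
      Module.Flat.lTensor_preserves_injective_linearMap g hg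
    have hP' : P ∈ associatedPrimes Rh (Rh ⊗[R] K) := IsAssociatedPrime.map_of_injective _ hP hG
    rw [hass] at hP'
    have hle : p.map (algebraMap R Rh) ≤ P := by
      obtain ⟨-, x, hx⟩ := isAssociatedPrime_iff.1 hP
      refine Ideal.map_le_iff_le_comap.2 fun r hr => ?_
      rw [Ideal.mem_comap, hx, Submodule.mem_colon_singleton, Submodule.mem_bot]
      refine algebraMap_smul_tmul_eq_zero (fun m => ?_) x
      obtain ⟨m, rfl⟩ := Ideal.Quotient.mk_surjective m
      rw [Algebra.smul_def, Ideal.Quotient.algebraMap_eq, ← map_mul, Ideal.Quotient.eq_zero_iff_mem]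
      exact p.mul_mem_right _ hr
    refine ⟨hp, le_antisymm ((ringKrullDim_quotient_le p).trans hn.le) ?_⟩
    rw [← ringKrullDim_quotient_map_completion hp.ne_top, ← hP'.2]
    exact ringKrullDim_le_of_surjective _ (Ideal.Quotient.factor_surjective hle)
  · rintro ⟨hp, hdim⟩
    obtain ⟨P, hP, hPd, hPp⟩ := exists_top_over hn p hdim
    have hP' : IsAssociatedPrime P (Rh ⊗[R] K) := by
      show P ∈ associatedPrimes Rh (Rh ⊗[R] K)
      rw [hass]
      exact ⟨hP, hPd⟩
    obtain ⟨-, x, hx⟩ := isAssociatedPrime_iff.1 hP'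
    refine Module.associatedPrimes.minimalPrimes_annihilator_subset_associatedPrimes R K
      ⟨⟨hp, fun r hr => ?_⟩, fun q ⟨hq, _⟩ hqp => ?_⟩
    · rw [← hPp, Ideal.mem_comap, hx, Submodule.mem_colon_singleton, Submodule.mem_bot]
      exact algebraMap_smul_tmul_eq_zero (Module.mem_annihilator.1 hr) x
    · have hd := (qd_eq_iff (⟨p, hp⟩ : PrimeSpectrum R) n).1 hdim
      exact (congrArg PrimeSpectrum.asIdeal (eq_of_le_of_qd (p := ⟨q, hq⟩) (q := ⟨p, hp⟩) hqp
        (by rw [hd]; exact qd_le hn _))).ge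

include hn hf eK in
theorem supportDim_annihilator_lt : Module.supportDim R (Module.annihilator R K) < n := by
  haveI := Groth.L01.AnalUnram.isNoetherianRing_completion R
  haveI := Groth.L01.CompletionExt.faithfullyFlat R
  obtain ⟨-, hB, -⟩ := completion_props hn hf eK
  by_contra h
  obtain ⟨q, hq, hd⟩ := exists_mem_le_qd _ (not_lt.1 h)
  obtain ⟨P, hP, hPd, hPq⟩ := exists_top_over hn q.asIdeal
    ((qd_eq_iff q n).2 (le_antisymm (qd_le hn q) hd))
  refine Module.notMem_support_iff'.2 (fun m => ?_) hq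
  obtain ⟨v, hv, hv0⟩ := hB (algebraMap R Rh m.1)
    (fun x => algebraMap_smul_tmul_eq_zero (Module.mem_annihilator.1 m.2) x) P hP hPd
  obtain ⟨k, a, y, hy, ha⟩ := Module.Flat.isTrivialRelation_of_sum_smul_eq_zero
    (f := fun _ : Fin 1 => (m.1 : R)) (x := fun _ => v) (by
      rw [Fin.sum_univ_one, Algebra.smul_def, mul_comm]; exact hv0)
  by_contra hne
  push Not at hne
  refine hv ?_
  rw [show v = ∑ j, a 0 j • y j from hy 0]
  refine sum_mem fun j _ => ?_
  rw [Algebra.smul_def]
  refine P.mul_mem_right _ ?_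
  rw [← Ideal.mem_comap, hPq]
  by_contra hj
  refine hne (a 0 j) hj (Subtype.ext ?_)
  have h0 := ha j
  rw [Fin.sum_univ_one] at h0
  simpa [mul_comm] using h0

include hn hf eK in
theorem mem_support_iff (p : PrimeSpectrum R) :
    p ∈ Module.support R K ↔
      (p.asIdeal.height : WithBot ℕ∞) + ringKrullDim (R ⧸ p.asIdeal) = n := by
  obtain ⟨h, q₀, hh, hq₀, hle⟩ := exists_le_height_add_qd_le p
  have hiff : (p.asIdeal.height : WithBot ℕ∞) + ringKrullDim (R ⧸ p.asIdeal) = n ↔ h + qd p = n := by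
    rw [hh, dim_quot]
    norm_cast
  rw [hiff]
  constructor
  · intro hp
    refine le_antisymm (hle.trans (qd_le hn q₀)) ?_
    haveI := Groth.L01.AnalUnram.isNoetherianRing_completion R
    haveI := Groth.L01.CompletionExt.faithfullyFlat R
    obtain ⟨hass, -, -⟩ := completion_props hn hf eK
    obtain ⟨h1, -, hc, h4, h5, -⟩ := cpl_facts (A := R)
    haveI := h4; haveI := h5
    haveI := p.isPrime
    obtain ⟨P', hP', hPd'⟩ : ∃ P : PrimeSpectrum Rh,
        P.asIdeal ∈ (p.asIdeal.map (algebraMap R Rh)).minimalPrimes ∧ qd p ≤ qd P := by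
      have h2 := ringKrullDim_quotient_map_completion (R := R) p.isPrime.ne_top
      rw [dim_quot, ringKrullDim_quotient] at h2
      obtain ⟨P, hP, hd⟩ := exists_mem_le_qd (n := qd p) _ h2.ge
      obtain ⟨P', hP', hle'⟩ := Ideal.exists_minimalPrimes_le
        ((PrimeSpectrum.mem_zeroLocus _ _).1 hP : p.asIdeal.map (algebraMap R Rh) ≤ P.asIdeal)
      refine ⟨⟨P', hP'.isPrime⟩, hP', hd.trans ?_⟩
      rcases (show (⟨P', hP'.isPrime⟩ : PrimeSpectrum Rh) ≤ P from hle').lt_or_eq with h3 | h3
      · exact (qd_lt h3).le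
      · rw [h3]
    have hqdP : qd P' = qd p := by
      refine le_antisymm ?_ hPd'
      have h2 := ringKrullDim_le_of_surjective _ (Ideal.Quotient.factor_surjective hP'.le)
      rw [ringKrullDim_quotient_map_completion p.isPrime.ne_top, dim_quot, dim_quot] at h2
      exact_mod_cast h2
    obtain ⟨hover, hht⟩ := minimal_over (B := Rh) hP'
    -- a prime of `Rh ⊗ K` below `P'`
    obtain ⟨q, hq, hqp⟩ := Ideal.exists_minimalPrimes_le
      ((Module.mem_support_iff_of_finite (R := R) (M := K)).1 hp)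
    have hq' := Module.associatedPrimes.minimalPrimes_annihilator_subset_associatedPrimes R K hq
    obtain ⟨hqprime, g, hg⟩ := (isAssociatedPrime_iff_exists_injective_linearMap _ _).1 hq'
    obtain ⟨x, hx⟩ : ∃ x, g (Ideal.Quotient.mk q 1) = x := ⟨_, rfl⟩
    have hqP : q.map (algebraMap R Rh) ≤ P'.asIdeal :=
      (Ideal.map_mono hqp).trans hP'.le
    have hmem : P' ∈ Module.support Rh (Rh ⊗[R] K) := by
      refine Module.mem_support_iff'.2 ⟨1 ⊗ₜ x, fun c hc h0 => hc ?_⟩
      have h1' : (g.baseChange Rh) (c ⊗ₜ[R] Ideal.Quotient.mk q 1) = 0 := by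
        rw [LinearMap.baseChange_tmul, hx, ← h0, TensorProduct.smul_tmul', smul_eq_mul, mul_one]
      have h2' : c ⊗ₜ[R] Ideal.Quotient.mk q 1 = 0 :=
        Module.Flat.lTensor_preserves_injective_linearMap g hg (h1'.trans (map_zero _).symm)
      have h3' := congrArg (Algebra.TensorProduct.quotIdealMapEquivTensorQuot Rh q).symm h2'
      rw [Algebra.TensorProduct.quotIdealMapEquivTensorQuot_symm_tmul, map_zero, one_smul,
        Submodule.Quotient.mk_eq_zero] at h3'
      exact hqP h3'
    obtain ⟨Q, hQ, hQP⟩ := Ideal.exists_minimalPrimes_le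
      ((Module.mem_support_iff_of_finite (R := Rh) (M := Rh ⊗[R] K)).1 hmem)
    have hQ' := Module.associatedPrimes.minimalPrimes_annihilator_subset_associatedPrimes Rh _ hQ
    rw [hass] at hQ'
    have h2 := height_add_qd_mono hc _ ⟨Q, hQ'.1⟩ P' rfl hQP
    rw [(qd_eq_iff (⟨Q, hQ'.1⟩ : PrimeSpectrum Rh) n).1 hQ'.2, hqdP, hht, hh] at h2
    have h3 : ((n : ℕ) : ℕ∞) ≤ ((h + qd p : ℕ) : ℕ∞) := by
      push_cast
      exact le_add_self.trans h2
    exact_mod_cast h3
  · intro hsum
    haveI := q₀.isPrime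
    have hass : q₀.asIdeal ∈ associatedPrimes R K :=
      (mem_associatedPrimes_iff hn hf eK _).2 ⟨inferInstance,
        (qd_eq_iff q₀ n).2 (le_antisymm (qd_le hn q₀) (hsum ▸ hle))⟩
    have h0 : q₀ ∈ Module.support R K := by
      obtain ⟨-, x, hx⟩ := isAssociatedPrime_iff.1 hass
      exact Module.mem_support_iff'.2 ⟨x, fun c hc h0 => hc (by
        rw [hx, Submodule.mem_colon_singleton, Submodule.mem_bot]; exact h0)⟩
    exact Module.mem_support_mono hq₀ h0

end Groth.L04.Canon
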